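import Cfsg.Agent.HoltZ.Base
import Cfsg.Agent.HoltZ.Quat
import Cfsg.Agent.LieClassical.OrthSimple
import Cfsg.Agent.LieClassical.OrthFinite
import Cfsg.Agent.ClassicalGeometry.OrthAut1
import Cfsg.Agent.LieClassical.OrthForms
import Cfsg.Agent.FastGrp
import Cfsg.Agent.Prune
set_option linter.all false

section
prune_inst 0x7ffffffffff8fddfdfff7e7fa7decffdfdfbbfffe6fffdcbffe0efffbfff7f0eefe5fbaf8fea9afe1ff7e23c10fa7b53fffffeffe36ffe7ffffdfff41ffbffdffdf7b50871ff9cbe1fbc0fff03f07f8e7f3fffffffffffffffffffffffffffbeffbfffffffff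

-- part: HoltZ/Orth
section
prune_inst 0x4000000000000000000000000000000000000000000000000008000000000000001000000080000000000000000000000000000000000000000000000000000000000000000000000000000000000000000000000000000000000000000000000
set_option linter.all false
open scoped Cfsg.Agent.FastGrp

-- merged: Cfsg.Agent.HoltZ.OrthCore
section

/-!
# Holt's theorem for orthogonal groups, odd characteristic: the final position

`z` is an involution of `O(Q)` acting as the scalar `ε` on a hyperbolic 4-space. A subgroup `m` of `E(Q)` containing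
`C(z)`, all `σ` such that `z ^ σ` commutes with `z`, and their `C(z ^ σ)`, is everything.
-/

set_option autoImplicit false
set_option linter.unusedSectionVars false

namespace Cfsg.Agent.HoltZ.Orth

open QuadraticMap Subgroup Cfsg Cfsg.Agent.LieClassical.OrthCore Cfsg.Agent.LieClassical.OrthTrans
open Cfsg.Agent.LieClassical.OrthSimple Cfsg.Agent.LieClassical

variable {F V : Type*} [Field F] [AddCommGroup V] [Module F V] {Q : QuadraticForm F V}

/-- the closure properties of `m` -/
structure UFo (Q : QuadraticForm F V) (m : Subgroup (V ≃ₗ[F] V)) (z : V ≃ₗ[F] V) : Prop where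
  le : m ≤ E Q
  exch : ∀ σ ∈ E Q, (σ * z * σ⁻¹) * z = z * (σ * z * σ⁻¹) → σ ∈ m
  cen : ∀ σ ∈ m, ∀ g ∈ E Q, g * (σ * z * σ⁻¹) = (σ * z * σ⁻¹) * g → g ∈ m

theorem siegel_smul_smul {u w : V} {ε : F} (hε : ε * ε = 1) (hu : Q u = 0) (hw : polar Q u w = 0)
    (hu' : Q (ε • u) = 0) (hw' : polar Q (ε • u) (ε • w) = 0) :
    siegel Q (ε • u) (ε • w) hu' hw' = siegel Q u w hu hw := by
  ext x
  rw [siegel_apply, siegel_apply, polar_smul_left, polar_smul_left, QuadraticMap.map_smul]
  simp only [smul_smul, smul_eq_mul]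
  rw [show ε * polar Q u x * ε = polar Q u x by linear_combination (polar Q u x) * hε,
    show ε * polar Q w x * ε = polar Q w x by linear_combination (polar Q w x) * hε,
    show ε * ε * Q w * (ε * polar Q u x) * ε = Q w * polar Q u x by
      linear_combination (Q w * polar Q u x) * (ε * ε + 1) * hε]

/-- an orthogonal map acting on `u` and `w` by the same sign commutes with `siegel u w` -/
theorem siegel_comm {g : V ≃ₗ[F] V} (hg : g ∈ O Q) {u w : V} {ε : F} (hε : ε * ε = 1) (hu : Q u = 0)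
    (hw : polar Q u w = 0) (h1 : g u = ε • u) (h2 : g w = ε • w) :
    siegel Q u w hu hw * g = g * siegel Q u w hu hw := by
  have hu' : Q (g u) = 0 := by rw [mem_O.1 hg, hu]
  have hw' : polar Q (g u) (g w) = 0 := by rw [polar_map hg, hw]
  have h := siegel_conj hg hu hw hu' hw'
  have hu'' : Q (ε • u) = 0 := by rw [← h1, hu']
  have hw'' : polar Q (ε • u) (ε • w) = 0 := by rw [← h1, ← h2, hw']
  rw [siegel_congr hu' hw' hu'' hw'' h1 h2, siegel_smul_smul hε hu hw, mul_inv_eq_iff_eq_mul] at h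
  exact h.symm

section Pos

variable {m : Subgroup (V ≃ₗ[F] V)} {z : V ≃ₗ[F] V} {ε : F}

theorem polar_eq_zero_of_eigen (h2 : (2 : F) ≠ 0) (hzO : z ∈ O Q) (hε : ε * ε = 1) {x y : V} (hx : z x = ε • x)
    (hy : z y = -ε • y) : polar Q x y = 0 := by
  have h := polar_map hzO x y
  rw [hx, hy, polar_smul_left, polar_smul_right, smul_eq_mul, smul_eq_mul] at h
  have : 2 * polar Q x y = 0 := by linear_combination -h - (polar Q x y) * hε
  exact (mul_eq_zero.1 this).resolve_left h2

theorem UFo.of_comm (hU : UFo Q m z) {g : V ≃ₗ[F] V} (hg : g ∈ E Q) (h : g * z = z * g) : g ∈ m := by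
  refine hU.cen 1 m.one_mem g hg ?_
  rw [one_mul, inv_one, mul_one]; exact h

/-- **Siegel elements `E(e, w)`.** -/
theorem siegel_mem (h2 : (2 : F) ≠ 0) (hG : Good Q) (hU : UFo Q m z) (hzO : z ∈ O Q) (hz2 : z * z = 1)
    (hε : ε * ε = 1) {e e' f' : V} (He : Q e = 0) (H' : Hyp Q e' f') (h1 : polar Q e e' = 0)
    (h3 : polar Q e f' = 0) (ze : z e = ε • e) (ze' : z e' = ε • e') (zf' : z f' = ε • f')
    (w : V) (hw : polar Q e w = 0) : siegel Q e w He hw ∈ m := by
  have hzz : ∀ x, z (z x) = x := fun x => by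
    have := LinearEquiv.congr_fun hz2 x
    exact this
  -- (i)
  have A1 : ∀ (w : V) (hw : polar Q e w = 0), z w = ε • w → siegel Q e w He hw ∈ m := fun w hw hzw =>
    hU.of_comm (siegel_mem_E He hw) (siegel_comm hzO hε He hw ze hzw)
  -- (ii)
  have A2 : ∀ (w : V) (hw : polar Q e w = 0), z w = -ε • w → Q w ≠ 0 → siegel Q e w He hw ∈ m := by
    intro w hw hzw hQw
    obtain ⟨v, hv⟩ : ∃ v, v = e' + Q w • f' := ⟨_, rfl⟩
    obtain ⟨u, hu⟩ : ∃ u, u = e' + (2 * Q w) • f' := ⟨_, rfl⟩
    have hQv : Q v = Q w := by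
      rw [hv, Q_add, QuadraticMap.map_smul, H'.left, H'.right, polar_smul_right, H'.pair]
      simp
    have hQu : Q u = 2 * Q w := by
      rw [hu, Q_add, QuadraticMap.map_smul, H'.left, H'.right, polar_smul_right, H'.pair]
      simp
    have hzv : z v = ε • v := by
      rw [hv, map_add, map_smul, ze', zf']; module
    have hzu : z u = ε • u := by
      rw [hu, map_add, map_smul, ze', zf']; module
    have hev : polar Q e v = 0 := by
      rw [hv, polar_add_right, polar_smul_right, h1, h3]; simp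
    have hvw : polar Q v w = 0 := polar_eq_zero_of_eigen h2 hzO hε hzv hzw
    have hQa : Q (v - w) = 2 * Q w := by
      rw [sub_eq_add_neg, Q_add, QuadraticMap.map_neg, polar_neg_right, hvw, hQv]; ring
    have hQb : Q (v + w) = 2 * Q w := by
      rw [Q_add, hvw, hQv]; ring
    have h2w : 2 * Q w ≠ 0 := mul_ne_zero h2 hQw
    have ha : Q (v - w) ≠ 0 := by rw [hQa]; exact h2w
    have hb : Q (v + w) ≠ 0 := by rw [hQb]; exact h2w
    have hu0 : Q u ≠ 0 := by rw [hQu]; exact h2w
    have hE := hG.refl_mul_refl_mem hu0 ha (by rw [hQu, hQa])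
    -- `refl u` commutes with `z`
    have hru : z * refl Q u hu0 = refl Q u hu0 * z := by
      have h4 : Q (z u) ≠ 0 := by rw [mem_O.1 hzO]; exact hu0
      have h5 := refl_conj hzO hu0 h4
      have hε0 : ε ≠ 0 := by rintro rfl; simp at hε
      have h6 : refl Q (z u) h4 = refl Q u hu0 := by
        have h7 : Q (ε • u) ≠ 0 := by rw [← hzu]; exact h4
        rw [← refl_smul hu0 hε0 h7]
        congr 1
      rw [h6, mul_inv_eq_iff_eq_mul] at h5
      exact h5
    have hra : z * refl Q (v - w) ha = refl Q (v + w) hb * z := by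
      have h4 : Q (z (v - w)) ≠ 0 := by rw [mem_O.1 hzO]; exact ha
      have h5 := refl_conj hzO ha h4
      have hε0 : ε ≠ 0 := by rintro rfl; simp at hε
      have h6 : refl Q (z (v - w)) h4 = refl Q (v + w) hb := by
        have h8 : z (v - w) = ε • (v + w) := by rw [map_sub, hzv, hzw]; module
        have h7 : Q (ε • (v + w)) ≠ 0 := by rw [← h8]; exact h4
        rw [← refl_smul hb hε0 h7]
        congr 1
      rw [h6, mul_inv_eq_iff_eq_mul] at h5
      exact h5
    have hab : refl Q (v - w) ha * refl Q (v + w) hb = refl Q (v + w) hb * refl Q (v - w) ha := by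
      refine refl_comm ha hb ?_
      rw [polar_sub_left, polar_add_right, polar_add_right, polar_self', polar_self', polar_comm Q w v, hvw, hQv]
      ring
    obtain ⟨σ, hσ⟩ : ∃ σ, σ = refl Q (v - w) ha * refl Q u hu0 := ⟨_, rfl⟩
    have hσz : σ * z * σ⁻¹ = refl Q (v - w) ha * z * refl Q (v - w) ha := by
      rw [hσ, mul_inv_rev, refl_inv, refl_inv]
      calc refl Q (v - w) ha * refl Q u hu0 * z * (refl Q u hu0 * refl Q (v - w) ha)
          = refl Q (v - w) ha * (refl Q u hu0 * z) * refl Q u hu0 * refl Q (v - w) ha := by group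
        _ = refl Q (v - w) ha * z * (refl Q u hu0 * refl Q u hu0) * refl Q (v - w) ha := by rw [← hru]; group
        _ = _ := by rw [refl_mul_self, mul_one]
    have hσm : σ ∈ m := by
      refine hU.exch σ (by rw [hσ]; exact hE) ?_
      rw [hσz]
      calc refl Q (v - w) ha * z * refl Q (v - w) ha * z
          = refl Q (v - w) ha * (z * refl Q (v - w) ha) * z := by group
        _ = refl Q (v - w) ha * refl Q (v + w) hb * (z * z) := by rw [hra]; group
        _ = refl Q (v + w) hb * (z * z) * refl Q (v - w) ha := by rw [hz2, mul_one, mul_one, hab]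
        _ = (z * refl Q (v - w) ha) * z * refl Q (v - w) ha := by rw [hra]; group
        _ = _ := by group
    refine hU.cen σ hσm _ (siegel_mem_E He hw) ?_
    rw [hσz]
    have hrO := refl_mem_O (Q := Q) ha
    have hzO' : refl Q (v - w) ha * z * refl Q (v - w) ha ∈ O Q := mul_mem (mul_mem hrO hzO) hrO
    refine siegel_comm hzO' hε He hw ?_ ?_
    · change refl Q (v - w) ha (z (refl Q (v - w) ha e)) = ε • e
      have h4 : refl Q (v - w) ha e = e := by
        rw [refl_apply, polar_comm, polar_sub_right, hev, hw]; simp only [_root_.sub_self, _root_.MulZeroClass.mul_zero, _root_.zero_smul, _root_.sub_zero]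
      rw [h4, ze, map_smul, h4]
    · change refl Q (v - w) ha (z (refl Q (v - w) ha w)) = ε • w
      have h4 : refl Q (v - w) ha v = w := refl_sub_apply hQv.symm ha
      have h5 : refl Q (v - w) ha w = v := by
        have h6 : refl Q (v - w) ha (refl Q (v - w) ha v) = v := LinearEquiv.congr_fun (refl_mul_self ha) v
        rwa [h4] at h6
      rw [h5, hzv, map_smul, h4]
  -- (iii) all of the `-ε` eigenspace
  have A3 : ∀ (w : V) (hw : polar Q e w = 0), z w = -ε • w → siegel Q e w He hw ∈ m := by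
    intro w hw hzw
    by_cases hQw : Q w = 0
    · by_cases hw0 : w = 0
      · subst hw0
        exact A1 0 hw (by simp)
      obtain ⟨y0, hy0⟩ := hG.nondeg.exists_polar_ne hw0
      obtain ⟨y, hy⟩ : ∃ y, y = y0 - ε • z y0 := ⟨_, rfl⟩
      have hzy : z y = -ε • y := by
        rw [hy, map_sub, map_smul, hzz, smul_sub, smul_smul, neg_mul, hε]; module
      have hwy : polar Q w y ≠ 0 := by
        have h4 : polar Q w (z y0) = -ε * polar Q w y0 := by
          have h5 := polar_map hzO w (z y0)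
          rw [hzz, hzw, polar_smul_left, smul_eq_mul] at h5
          exact h5.symm
        rw [hy, polar_sub_right, polar_smul_right, h4, smul_eq_mul]
        have h6 : polar Q w y0 - ε * (-ε * polar Q w y0) = 2 * polar Q w y0 := by
          linear_combination (polar Q w y0) * hε
        rw [h6]
        exact mul_ne_zero h2 hy0
      have hey : polar Q e y = 0 := polar_eq_zero_of_eigen h2 hzO hε ze hzy
      have key : ∀ (a b : V) (ha : polar Q e a = 0) (hb : polar Q e b = 0), z a = -ε • a → z b = -ε • b →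
          Q a ≠ 0 → Q b ≠ 0 → w = a + b → siegel Q e w He hw ∈ m := by
        intro a b ha hb hza hzb hQa hQb hab
        subst hab
        exact siegel_add_mem He ha hb hw (A2 a ha hza hQa) (A2 b hb hzb hQb)
      have hz1 : z (w + y) = -ε • (w + y) := by rw [map_add, hzw, hzy]; module
      have hz3 : z (w - y) = -ε • (w - y) := by rw [map_sub, hzw, hzy]; module
      have he1 : polar Q e (w + y) = 0 := by rw [polar_add_right, hw, hey, add_zero]
      have he3 : polar Q e (w - y) = 0 := by rw [polar_sub_right, hw, hey, sub_zero]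
      have hq1 : Q (w + y) = Q y + polar Q w y := by rw [Q_add, hQw]; ring
      have hq3 : Q (w - y) = Q y - polar Q w y := by
        rw [sub_eq_add_neg, Q_add, hQw, QuadraticMap.map_neg, polar_neg_right]; ring
      by_cases hQy : Q y = 0
      · have h4 : (2 : F)⁻¹ ≠ 0 := inv_ne_zero h2
        refine key ((2 : F)⁻¹ • (w + y)) ((2 : F)⁻¹ • (w - y)) ?_ ?_ ?_ ?_ ?_ ?_ ?_
        · rw [polar_smul_right, he1, smul_zero]
        · rw [polar_smul_right, he3, smul_zero]
        · rw [map_smul, hz1]; module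
        · rw [map_smul, hz3]; module
        · rw [QuadraticMap.map_smul, hq1, hQy, smul_eq_mul, zero_add]
          exact mul_ne_zero (mul_ne_zero h4 h4) hwy
        · rw [QuadraticMap.map_smul, hq3, hQy, smul_eq_mul, zero_sub]
          exact mul_ne_zero (mul_ne_zero h4 h4) (neg_ne_zero.2 hwy)
        · have h5 : (2 : F)⁻¹ • (w + y) + (2 : F)⁻¹ • (w - y) = ((2 : F)⁻¹ * 2) • w := by module
          rw [h5, inv_mul_cancel₀ h2, one_smul]
      · by_cases h4 : Q (w + y) = 0
        · have h5 : Q (w - y) ≠ 0 := by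
            intro h5
            rw [hq1] at h4
            rw [hq3] at h5
            have : 2 * polar Q w y = 0 := by linear_combination h4 - h5
            exact hwy ((mul_eq_zero.1 this).resolve_left h2)
          exact key (w - y) y he3 hey hz3 hzy h5 hQy (by abel)
        · refine key (w + y) (-y) he1 (by rw [polar_neg_right, hey, neg_zero]) hz1 (by rw [map_neg, hzy]; module) h4
            (by rw [QuadraticMap.map_neg]; exact hQy) (by abel)
    · exact A2 w hw hzw hQw
  -- (iv)
  have hezw : polar Q e (z w) = 0 := by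
    have h4 := polar_map hzO e (z w)
    rw [hzz, ze, polar_smul_left, hw, smul_zero] at h4
    exact h4.symm
  obtain ⟨a, ha⟩ : ∃ a, a = (2 : F)⁻¹ • (w + ε • z w) := ⟨_, rfl⟩
  obtain ⟨b, hb⟩ : ∃ b, b = (2 : F)⁻¹ • (w - ε • z w) := ⟨_, rfl⟩
  have hea : polar Q e a = 0 := by
    rw [ha, polar_smul_right, polar_add_right, polar_smul_right, hw, hezw]; simp
  have heb : polar Q e b = 0 := by
    rw [hb, polar_smul_right, polar_sub_right, polar_smul_right, hw, hezw]; simp
  have hza : z a = ε • a := by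
    have h4 : ε • ((2 : F)⁻¹ • (w + ε • z w)) = (2 : F)⁻¹ • (ε • w + (ε * ε) • z w) := by module
    rw [ha, h4, map_smul, map_add, map_smul, hzz, hε, one_smul, add_comm]
  have hzb : z b = -ε • b := by
    have h4 : -ε • ((2 : F)⁻¹ • (w - ε • z w)) = (2 : F)⁻¹ • ((ε * ε) • z w - ε • w) := by module
    rw [hb, h4, map_smul, map_sub, map_smul, hzz, hε, one_smul]
  have hab : w = a + b := by
    have h5 : a + b = ((2 : F)⁻¹ * 2) • w := by rw [ha, hb]; module
    rw [h5, inv_mul_cancel₀ h2, one_smul]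
  subst hab
  exact siegel_add_mem He hea heb hw (A1 a hea hza) (A3 b heb hzb)

/-- **The orthogonal final position.** -/
theorem E_le (h2 : (2 : F) ≠ 0) (hG : Good Q) (hU : UFo Q m z) (hzO : z ∈ O Q) (hz2 : z * z = 1)
    (hε : ε * ε = 1) {e f e' f' : V} (H : Hyp Q e f) (H' : Hyp Q e' f') (h1 : polar Q e e' = 0)
    (h3 : polar Q e f' = 0) (h4 : polar Q f e' = 0) (h5 : polar Q f f' = 0) (ze : z e = ε • e) (zf : z f = ε • f)
    (ze' : z e' = ε • e') (zf' : z f' = ε • f') : E Q ≤ m := by
  have He := siegel_mem h2 hG hU hzO hz2 hε H.left H' h1 h3 ze ze' zf'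
  have Hf := siegel_mem h2 hG hU hzO hz2 hε H.right H' h4 h5 zf ze' zf'
  -- case one: a nonzero `e`-coordinate
  have B1 : ∀ u : V, Q u = 0 → polar Q f u ≠ 0 → ∃ g ∈ m, ∃ c : F, g u = c • e := by
    intro u hu hα
    obtain ⟨w, hw⟩ : ∃ w, w = (polar Q f u)⁻¹ • OrthTrans.proj Q e f u := ⟨_, rfl⟩
    have hfw : polar Q f w = 0 := by rw [hw, polar_smul_right, polar_proj_right H, smul_zero]
    have hew : polar Q e w = 0 := by rw [hw, polar_smul_right, polar_proj_left H, smul_zero]
    have hQu : polar Q f u * polar Q e u + Q (OrthTrans.proj Q e f u) = 0 := by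
      have h6 : u = OrthTrans.proj Q e f u + (polar Q f u • e + polar Q e u • f) := by unfold OrthTrans.proj; module
      have h7 : Q u = Q (OrthTrans.proj Q e f u) + polar Q f u * polar Q e u := by
        conv_lhs => rw [h6]
        rw [Q_add, polar_add_right, polar_smul_right, polar_smul_right, polar_comm Q _ e, polar_comm Q _ f,
          polar_proj_left H, polar_proj_right H, Q_add, QuadraticMap.map_smul, QuadraticMap.map_smul, H.left, H.right,
          polar_smul_left, polar_smul_right, H.pair]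
        simp
      rw [hu] at h7
      linear_combination -h7
    refine ⟨(siegel Q f w H.right hfw)⁻¹, m.inv_mem (Hf w hfw), polar Q f u, ?_⟩
    have h8 : siegel Q f w H.right hfw (polar Q f u • e) = u := by
      rw [siegel_apply, polar_smul_right, H.pair', polar_smul_right, polar_comm Q w e, hew, smul_zero, zero_smul,
        sub_zero, smul_eq_mul, mul_one]
      have h9 : Q w * polar Q f u = - polar Q e u := by
        rw [hw, QuadraticMap.map_smul, smul_eq_mul]
        field_simp
        linear_combination hQu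
      rw [h9, hw, smul_smul, mul_inv_cancel₀ hα, one_smul]
      unfold OrthTrans.proj
      module
    have h9 : (siegel Q f w H.right hfw)⁻¹ (siegel Q f w H.right hfw (polar Q f u • e)) = polar Q f u • e :=
      LinearEquiv.congr_fun (inv_mul_cancel (siegel Q f w H.right hfw)) (polar Q f u • e)
    rwa [h8] at h9
  have B2 : ∀ u : V, Q u = 0 → u ≠ 0 → ∃ g ∈ m, polar Q f (g u) ≠ 0 := by
    intro u hu hu0
    by_cases hα : polar Q f u = 0
    · by_cases hβ : polar Q e u = 0
      · obtain ⟨y, hy⟩ := hG.nondeg.exists_polar_ne hu0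
        refine ⟨_, He (OrthTrans.proj Q e f y) (polar_proj_left H y), ?_⟩
        rw [siegel_apply, hβ, polar_sub_right, polar_sub_right, polar_add_right, zero_smul, polar_smul_right, H.pair',
          polar_comm Q (OrthTrans.proj Q e f y) u, polar_proj_of_perp (by rw [hβ]) (by rw [hα]), hα]
        simp [hy]
      · have h6 : ∀ w : V, ∀ hw : polar Q e w = 0, polar Q f w = 0 → polar Q f (siegel Q e w H.left hw u) =
            -(polar Q w u + Q w * polar Q e u) := by
          intro w hw hfw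
          rw [siegel_apply, polar_sub_right, polar_sub_right, polar_add_right, polar_smul_right, polar_smul_right,
            polar_smul_right, hfw, hα, H.pair']
          simp only [smul_eq_mul]
          ring
        have h7 : polar Q e (e' + f') = 0 := by rw [polar_add_right, h1, h3, add_zero]
        have h8 : polar Q f (e' + f') = 0 := by rw [polar_add_right, h4, h5, add_zero]
        have h9 : polar Q e (-(e' + f')) = 0 := by rw [polar_neg_right, h7, neg_zero]
        have h10 : polar Q f (-(e' + f')) = 0 := by rw [polar_neg_right, h8, neg_zero]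
        have h11 : Q (e' + f') = 1 := by rw [Q_add, H'.left, H'.right, H'.pair]; ring
        by_cases h12 : polar Q (e' + f') u + polar Q e u = 0
        · refine ⟨_, He (-(e' + f')) h9, ?_⟩
          rw [h6 _ h9 h10, QuadraticMap.map_neg, h11, polar_neg_left, one_mul]
          intro h13
          have : 2 * polar Q e u = 0 := by linear_combination h12 - h13
          exact hβ ((mul_eq_zero.1 this).resolve_left h2)
        · refine ⟨_, He (e' + f') h7, ?_⟩
          rw [h6 _ h7 h8, h11, one_mul]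
          exact neg_ne_zero.2 h12
    · exact ⟨1, m.one_mem, hα⟩
  rw [E, closure_le]
  rintro _ ⟨u, w, hu, hw, rfl⟩
  rw [SetLike.mem_coe]
  by_cases hu0 : u = 0
  · have : siegel Q u w hu hw = 1 := by
      subst hu0
      ext x
      rw [siegel_apply]
      simp
    rw [this]
    exact m.one_mem
  obtain ⟨g1, hg1, hg1'⟩ := B2 u hu hu0
  have hg1O : g1 ∈ O Q := E_le_O (hU.le hg1)
  obtain ⟨g2, hg2, c, hg2'⟩ := B1 (g1 u) (by rw [mem_O.1 hg1O, hu]) hg1'
  have hgm : g2 * g1 ∈ m := m.mul_mem hg2 hg1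
  have hgO : g2 * g1 ∈ O Q := E_le_O (hU.le hgm)
  have hgu : (g2 * g1) u = c • e := hg2'
  have hu' : Q ((g2 * g1) u) = 0 := by rw [mem_O.1 hgO, hu]
  have hw' : polar Q ((g2 * g1) u) ((g2 * g1) w) = 0 := by rw [polar_map hgO, hw]
  have hc := siegel_conj hgO hu hw hu' hw'
  have hu2 : Q (c • e) = 0 := by rw [← hgu]; exact hu'
  have hw2 : polar Q (c • e) ((g2 * g1) w) = 0 := by rw [← hgu]; exact hw'
  have hw3 : polar Q e (c • (g2 * g1) w) = 0 := by
    rw [polar_smul_right, ← polar_smul_left]; exact hw2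
  rw [siegel_congr hu' hw' hu2 hw2 hgu rfl, siegel_smul_left H.left hu2 hw2 hw3] at hc
  have h6 := He _ hw3
  rw [← hc] at h6
  exact (m.mul_mem_cancel_left hgm).1 ((m.mul_mem_cancel_right (m.inv_mem hgm)).1 h6)

end Pos

end Cfsg.Agent.HoltZ.Orth

end

-- merged: Cfsg.Agent.HoltZ.OrthPos
section

/-!
# Holt's theorem for orthogonal groups, odd characteristic: good position

Seven orthogonal vectors of norm `-1`.
-/

set_option autoImplicit false
set_option linter.unusedSectionVars false

namespace Cfsg.Agent.HoltZ.Orth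

open QuadraticMap Subgroup Cfsg Cfsg.Agent.LieClassical.OrthCore Cfsg.Agent.LieClassical.OrthTrans
open Cfsg.Agent.LieClassical.OrthSimple Cfsg.Agent.LieClassical

section Field

variable {F : Type*} [Field F]

theorem no_three {α β : Fin 3 → F} (h : ∀ k, α k * α k + β k * β k = 1)
    (h' : ∀ k l, k ≠ l → α k * α l + β k * β l = 0) : False := by
  have h01 := h' 0 1 (by decide)
  have h02 := h' 0 2 (by decide)
  have h12 := h' 1 2 (by decide)
  have h0 := h 0
  have h1 := h 1
  have h2 := h 2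
  have key : α 1 * α 2 = 0 := by
    linear_combination (-(α 1 * α 2)) * h0 + (β 0 * β 0) * h12 + (α 0 * α 2) * h01 - (β 0 * β 1) * h02
  rcases mul_eq_zero.1 key with h4 | h4
  · rw [h4] at h01 h12 h1
    have h5 : β 1 ≠ 0 := by rintro h5; rw [h5] at h1; simp at h1
    have h6 : β 0 = 0 := by
      have : β 0 * β 1 = 0 := by linear_combination h01
      exact (mul_eq_zero.1 this).resolve_right h5
    have h7 : β 2 = 0 := by
      have : β 1 * β 2 = 0 := by linear_combination h12
      exact (mul_eq_zero.1 this).resolve_left h5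
    rw [h6] at h0 h02
    rw [h7] at h2
    have h8 : α 0 * α 2 = 0 := by linear_combination h02
    rcases mul_eq_zero.1 h8 with h9 | h9
    · rw [h9] at h0; simp at h0
    · rw [h9] at h2; simp at h2
  · rw [h4] at h02 h12 h2
    have h5 : β 2 ≠ 0 := by rintro h5; rw [h5] at h2; simp at h2
    have h6 : β 0 = 0 := by
      have : β 0 * β 2 = 0 := by linear_combination h02
      exact (mul_eq_zero.1 this).resolve_right h5
    have h7 : β 1 = 0 := by
      have : β 1 * β 2 = 0 := by linear_combination h12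
      exact (mul_eq_zero.1 this).resolve_right h5
    rw [h6] at h0 h01
    rw [h7] at h1
    have h8 : α 0 * α 1 = 0 := by linear_combination h01
    rcases mul_eq_zero.1 h8 with h9 | h9
    · rw [h9] at h0; simp at h0
    · rw [h9] at h1; simp at h1

theorem exists_four {ε : Fin 7 → F} (hε : ∀ i, ε i * ε i = 1) :
    ∃ κ : Fin 4 → Fin 7, Function.Injective κ ∧ ∃ c : F, c * c = 1 ∧ ∀ i, ε (κ i) = c := by
  classical
  have hs : ∀ c : F, c * c = 1 → 4 ≤ (Finset.univ.filter fun i : Fin 7 => ε i = c).card →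
      ∃ κ : Fin 4 → Fin 7, Function.Injective κ ∧ ∃ c : F, c * c = 1 ∧ ∀ i, ε (κ i) = c := by
    intro c hc h
    obtain ⟨t, ht, htc⟩ := Finset.exists_subset_card_eq h
    have e := t.equivFinOfCardEq htc
    refine ⟨fun i => (e.symm i : Fin 7), fun i j hij => e.symm.injective (Subtype.ext hij), c, hc, fun i => ?_⟩
    exact (Finset.mem_filter.1 (ht (e.symm i).2)).2
  by_cases h : 4 ≤ (Finset.univ.filter fun i : Fin 7 => ε i = 1).card
  · exact hs 1 (by ring) h
  · refine hs (-1) (by ring) ?_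
    have h1 := Finset.card_filter_add_card_filter_not (s := (Finset.univ : Finset (Fin 7))) (p := fun i => ε i = 1)
    have h2 : (Finset.univ.filter fun i : Fin 7 => ¬ ε i = 1) ⊆ Finset.univ.filter fun i : Fin 7 => ε i = -1 := by
      intro i hi
      rw [Finset.mem_filter] at hi ⊢
      refine ⟨hi.1, ?_⟩
      have h3 : (ε i - 1) * (ε i + 1) = 0 := by linear_combination hε i
      rcases mul_eq_zero.1 h3 with h4 | h4
      · exact absurd (sub_eq_zero.1 h4) hi.2
      · exact eq_neg_of_add_eq_zero_left h4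
    have h3 := Finset.card_le_card h2
    rw [Finset.card_univ, Fintype.card_fin] at h1
    omega

end Field

variable {F V : Type*} [Field F] [AddCommGroup V] [Module F V] {Q : QuadraticForm F V}

/-- the reflection product -/
theorem pair_apply {a b : V} (ha : Q a = -1) (hb : Q b = -1) (hab : polar Q a b = 0) (ha0 : Q a ≠ 0) (hb0 : Q b ≠ 0)
    (x : V) : (refl Q a ha0 * refl Q b hb0) x = x + polar Q a x • a + polar Q b x • b := by
  change refl Q a ha0 (refl Q b hb0 x) = _
  rw [refl_apply, refl_apply, ha, hb, polar_sub_right, polar_smul_right, hab]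
  simp only [inv_neg, inv_one, neg_mul, one_mul, smul_eq_mul, mul_zero, sub_zero, neg_smul, sub_neg_eq_add]
  abel

theorem in_plane (h2 : (2 : F) ≠ 0) {a b : V} (ha : Q a = -1) (hb : Q b = -1) (hab : polar Q a b = 0) (ha0 : Q a ≠ 0)
    (hb0 : Q b ≠ 0) {x : V} (hx : (refl Q a ha0 * refl Q b hb0) x = -x) :
    x = (-(polar Q a x) / 2) • a + (-(polar Q b x) / 2) • b := by
  rw [pair_apply ha hb hab] at hx
  have h3 : (2 : F) • x = -(polar Q a x) • a + -(polar Q b x) • b := by
    have h4 : (2 : F) • x = x + x := two_smul F x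
    rw [h4]
    have h5 : x + x = (x + polar Q a x • a + polar Q b x • b) + x - polar Q a x • a - polar Q b x • b := by abel
    rw [h5, hx]
    module
  have h6 : x = (2 : F)⁻¹ • ((2 : F) • x) := by rw [smul_smul, inv_mul_cancel₀ h2, one_smul]
  conv_lhs => rw [h6, h3]
  module

/-- **the position of `t`** -/
theorem exists_signs (h2 : (2 : F) ≠ 0) {a : Fin 7 → V} (ha : ∀ i, Q (a i) = -1)
    (hab : ∀ i j, i ≠ j → polar Q (a i) (a j) = 0) (ha0 : ∀ i, Q (a i) ≠ 0) {t : V ≃ₗ[F] V} (ht : t ∈ O Q)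
    (hc : ∀ i j, i ≠ j → ∃ c : F, ∀ x, t ((refl Q (a i) (ha0 i) * refl Q (a j) (ha0 j)) x) =
      c • (refl Q (a i) (ha0 i) * refl Q (a j) (ha0 j)) (t x)) :
    ∃ ε : Fin 7 → F, (∀ i, ε i * ε i = 1) ∧ ∀ i, t (a i) = ε i • a i := by
  have hne : ∀ i, a i ≠ 0 := by
    intro i h
    apply ha0 i
    rw [h, QuadraticMap.map_zero]
  -- step one: the scalars are 1
  have h1 : ∀ i j, i ≠ j → ∀ x, t ((refl Q (a i) (ha0 i) * refl Q (a j) (ha0 j)) x) =
      (refl Q (a i) (ha0 i) * refl Q (a j) (ha0 j)) (t x) := by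
    intro i j hij
    obtain ⟨c, hcc⟩ := hc i j hij
    obtain ⟨A, hA⟩ : ∃ A, A = refl Q (a i) (ha0 i) * refl Q (a j) (ha0 j) := ⟨_, rfl⟩
    rw [← hA] at hcc ⊢
    have hAA : ∀ x, A (A x) = x := by
      intro x
      have h3 : A * A = 1 := by
        rw [hA]
        have h4 := refl_comm (ha0 i) (ha0 j) (hab i j hij)
        calc refl Q (a i) (ha0 i) * refl Q (a j) (ha0 j) * (refl Q (a i) (ha0 i) * refl Q (a j) (ha0 j))
            = refl Q (a i) (ha0 i) * (refl Q (a j) (ha0 j) * refl Q (a i) (ha0 i)) * refl Q (a j) (ha0 j) := by group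
          _ = (refl Q (a i) (ha0 i) * refl Q (a i) (ha0 i)) * (refl Q (a j) (ha0 j) * refl Q (a j) (ha0 j)) := by
              rw [← h4]; group
          _ = 1 := by rw [refl_mul_self, refl_mul_self, mul_one]
      exact LinearEquiv.congr_fun h3 x
    have hc2 : c * c = 1 := by
      have h3 : t (a i) = (c * c) • t (a i) := by
        conv_lhs => rw [← hAA (a i), hcc, hcc, map_smul, hAA, smul_smul]
      have h4 : (1 - c * c) • t (a i) = 0 := by rw [sub_smul, one_smul, ← h3, sub_self]
      rcases smul_eq_zero.1 h4 with h5 | h5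
      · exact (sub_eq_zero.1 h5).symm
      · exact absurd ((LinearEquiv.map_eq_zero_iff t).1 h5) (hne i)
    have hc1 : c = 1 ∨ c = -1 := by
      have h3 : (c - 1) * (c + 1) = 0 := by linear_combination hc2
      rcases mul_eq_zero.1 h3 with h4 | h4
      · exact Or.inl (sub_eq_zero.1 h4)
      · exact Or.inr (eq_neg_of_add_eq_zero_left h4)
    rcases hc1 with rfl | rfl
    · intro x; rw [hcc, one_smul]
    exfalso
    -- three vectors in a plane
    have hcard : 3 ≤ ((Finset.univ.erase i).erase j : Finset (Fin 7)).card := by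
      rw [Finset.card_erase_of_mem (Finset.mem_erase.2 ⟨hij.symm, Finset.mem_univ _⟩),
        Finset.card_erase_of_mem (Finset.mem_univ _), Finset.card_univ, Fintype.card_fin]
      norm_num
    obtain ⟨s, hs, hsc⟩ := Finset.exists_subset_card_eq hcard
    have e := s.equivFinOfCardEq hsc
    have hk : ∀ k : Fin 3, ((e.symm k : Fin 7) ≠ i) ∧ ((e.symm k : Fin 7) ≠ j) := by
      intro k
      have := hs (e.symm k).2
      rw [Finset.mem_erase, Finset.mem_erase] at this
      exact ⟨this.2.1, this.1⟩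
    have hw : ∀ k : Fin 3, t (a (e.symm k)) = (-(polar Q (a i) (t (a (e.symm k)))) / 2) • a i +
        (-(polar Q (a j) (t (a (e.symm k)))) / 2) • a j := by
      intro k
      refine in_plane h2 (ha i) (ha j) (hab i j hij) (ha0 i) (ha0 j) ?_
      rw [← hA]
      have h3 : A (a (e.symm k)) = a (e.symm k) := by
        rw [hA, pair_apply (ha i) (ha j) (hab i j hij), hab i _ (hk k).1.symm, hab j _ (hk k).2.symm]
        simp
      have h4 := hcc (a (e.symm k))
      rw [h3] at h4
      have h5 : A (t (a (e.symm k))) = -((-1 : F) • A (t (a (e.symm k)))) := by simp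
      rw [h5, ← h4]
    have hpl : ∀ p q p' q' : F, polar Q (p • a i + q • a j) (p' • a i + q' • a j) = -2 * (p * p' + q * q') := by
      intro p q p' q'
      rw [polar_add_left, polar_add_right, polar_add_right]
      simp only [polar_smul_left, polar_smul_right, smul_eq_mul]
      rw [polar_self', polar_self', ha, ha, hab i j hij, hab j i hij.symm]
      ring
    refine no_three (α := fun k => -(polar Q (a i) (t (a (e.symm k)))) / 2)
      (β := fun k => -(polar Q (a j) (t (a (e.symm k)))) / 2) (fun k => ?_) (fun k l hkl => ?_)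
    · have h3 := polar_map ht (a (e.symm k)) (a (e.symm k))
      rw [hw k, hpl, polar_self', ha] at h3
      have h4 : (2 : F) * ((-(polar Q (a i) (t (a (e.symm k)))) / 2) * (-(polar Q (a i) (t (a (e.symm k)))) / 2) +
        (-(polar Q (a j) (t (a (e.symm k)))) / 2) * (-(polar Q (a j) (t (a (e.symm k)))) / 2)) = 2 * 1 := by
        linear_combination -h3
      exact mul_left_cancel₀ h2 h4
    · have hne' : (e.symm k : Fin 7) ≠ (e.symm l : Fin 7) := by
        intro h
        exact hkl (e.symm.injective (Subtype.ext h))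
      have h3 := polar_map ht (a (e.symm k)) (a (e.symm l))
      rw [hab _ _ hne'] at h3
      rw [hw k, hw l, hpl] at h3
      have h4 : (2 : F) * ((-(polar Q (a i) (t (a (e.symm k)))) / 2) * (-(polar Q (a i) (t (a (e.symm l)))) / 2) +
        (-(polar Q (a j) (t (a (e.symm k)))) / 2) * (-(polar Q (a j) (t (a (e.symm l)))) / 2)) = 0 := by
        linear_combination -h3
      exact (mul_eq_zero.1 h4).resolve_left h2
  -- step two
  have hpl : ∀ i j, i ≠ j → t (a i) = (-(polar Q (a i) (t (a i))) / 2) • a i +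
      (-(polar Q (a j) (t (a i))) / 2) • a j := by
    intro i j hij
    refine in_plane h2 (ha i) (ha j) (hab i j hij) (ha0 i) (ha0 j) ?_
    rw [← h1 i j hij, pair_apply (ha i) (ha j) (hab i j hij), polar_self', ha, hab j i hij.symm, zero_smul, add_zero]
    have : a i + (2 * -1 : F) • a i = - a i := by module
    rw [this, map_neg]
  have hz : ∀ i, t (a i) = (-(polar Q (a i) (t (a i))) / 2) • a i := by
    intro i
    obtain ⟨j, hj⟩ : ∃ j : Fin 7, j ≠ i := exists_ne i
    obtain ⟨k, hk⟩ : ∃ k : Fin 7, k ∉ ({i, j} : Finset (Fin 7)) := by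
      by_contra hcon
      push Not at hcon
      have h3 : (Finset.univ : Finset (Fin 7)) ⊆ {i, j} := fun x _ => hcon x
      have h4 := Finset.card_le_card h3
      rw [Finset.card_univ, Fintype.card_fin] at h4
      have h5 := Finset.card_le_two (a := i) (b := j)
      omega
    rw [Finset.mem_insert, Finset.mem_singleton, not_or] at hk
    have h3 := hpl i k (fun h => hk.1 h.symm)
    have h4 : polar Q (a j) (t (a i)) = 0 := by
      rw [h3, polar_add_right, polar_smul_right, polar_smul_right, hab j i hj, hab j k (fun h => hk.2 h.symm)]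
      simp
    have h5 := hpl i j hj.symm
    rw [h4] at h5
    rw [neg_zero, zero_div, zero_smul, add_zero] at h5
    exact h5
  refine ⟨fun i => -(polar Q (a i) (t (a i))) / 2, fun i => ?_, hz⟩
  have h3 := mem_O.1 ht (a i)
  rw [hz i, QuadraticMap.map_smul, ha, smul_eq_mul] at h3
  change -(polar Q (a i) (t (a i))) / 2 * (-(polar Q (a i) (t (a i))) / 2) = 1
  linear_combination -h3

/-- **Orthogonal groups with seven orthogonal vectors of norm `-1`: there is no pair.** -/
theorem rowF_E [Finite F] [Finite V] (h2 : (2 : F) ≠ 0) (hG : Good Q) {a : Fin 7 → V} (ha : ∀ i, Q (a i) = -1)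
    (hab : ∀ i j, i ≠ j → polar Q (a i) (a j) = 0) : RowF (↥(E Q) ⧸ center ↥(E Q)) := by
  classical
  have := Fintype.ofFinite F
  have ha0 : ∀ i, Q (a i) ≠ 0 := fun i => by rw [ha]; exact neg_ne_zero.2 one_ne_zero
  have hne : ∀ i, a i ≠ 0 := by
    intro i h
    apply ha0 i
    rw [h, QuadraticMap.map_zero]
  haveI : Finite (V ≃ₗ[F] V) := Finite.of_injective (fun g : V ≃ₗ[F] V => (g : V → V)) DFunLike.coe_injective
  obtain ⟨D, hD⟩ : ∃ D : Subgroup (V ≃ₗ[F] V), D = _root_.Subgroup.closure (Set.range fun i => refl Q (a i) (ha0 i)) := ⟨_, rfl⟩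
  have hDc : ∀ x ∈ D, ∀ y ∈ D, x * y = y * x := by
    rw [hD]
    refine commute_closure ?_
    rintro _ ⟨i, rfl⟩ _ ⟨j, rfl⟩
    by_cases hij : i = j
    · subst hij; rfl
    · exact refl_comm (ha0 i) (ha0 j) (hab i j hij)
  have hD2 : ∀ x ∈ D, x * x = 1 := by
    intro x hx
    rw [hD] at hx
    induction hx using closure_induction with
    | mem x hx => obtain ⟨i, rfl⟩ := hx; exact refl_mul_self _
    | one => exact mul_one _
    | mul x y hx hy h3 h4 =>
      rw [← hD] at hx hy
      calc x * y * (x * y) = x * (y * x) * y := by group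
        _ = (x * x) * (y * y) := by rw [hDc y hy x hx]; group
        _ = 1 := by rw [h3, h4, mul_one]
    | inv x hx h3 => rw [← mul_inv_rev, h3, inv_one]
  have hP : IsPGroup 2 ↥(D.subgroupOf (E Q)) := by
    rintro ⟨g, hg⟩
    refine ⟨1, Subtype.ext (Subtype.ext ?_)⟩
    have := hD2 _ (mem_subgroupOf.1 hg)
    rw [pow_one, pow_two]
    exact this
  intro M z hz hU
  obtain ⟨M', z', g, -, hz', hU', hD', hc⟩ := exists_position hz hU
    ((D.subgroupOf (E Q)).map (QuotientGroup.mk' (center ↥(E Q)))) (hP.map _)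
  obtain ⟨t, rfl⟩ := QuotientGroup.mk'_surjective (center ↥(E Q)) z'
  have hUt := hU'.comap (QuotientGroup.mk' (center ↥(E Q))) (QuotientGroup.mk'_surjective _) (t := t) rfl
  have htO : (t : V ≃ₗ[F] V) ∈ O Q := E_le_O t.2
  -- signs
  obtain ⟨ε, hε, hta⟩ := exists_signs h2 ha hab ha0 htO (fun i j hij => by
    have hE := hG.refl_mul_refl_mem (ha0 j) (ha0 i) (by rw [ha, ha])
    have hmem : (⟨_, hE⟩ : ↥(E Q)) ∈ D.subgroupOf (E Q) := by
      rw [mem_subgroupOf, hD]
      exact mul_mem (subset_closure ⟨i, rfl⟩) (subset_closure ⟨j, rfl⟩)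
    have h3 := hc _ (mem_map_of_mem _ hmem)
    rw [← map_mul, ← map_mul] at h3
    obtain ⟨c, hcc⟩ := Cfsg.Agent.ClassicalGeometry.OrthAut1.center_scalar hG (QuotientGroup.eq.1 h3)
    refine ⟨c, fun x => ?_⟩
    have h4 := hcc x
    have h5 : (((⟨_, hE⟩ : ↥(E Q)) * t : ↥(E Q)) : V ≃ₗ[F] V)
        (((((⟨_, hE⟩ : ↥(E Q)) * t)⁻¹ * (t * ⟨_, hE⟩) : ↥(E Q)) : V ≃ₗ[F] V) x) =
        ((t * ⟨_, hE⟩ : ↥(E Q)) : V ≃ₗ[F] V) x := by
      have h6 : ((⟨_, hE⟩ : ↥(E Q)) * t) * (((⟨_, hE⟩ : ↥(E Q)) * t)⁻¹ * (t * ⟨_, hE⟩)) = t * ⟨_, hE⟩ :=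
        mul_inv_cancel_left _ _
      have h7 := congrArg (fun k : ↥(E Q) => (k : V ≃ₗ[F] V) x) h6
      exact h7
    rw [h4, map_smul] at h5
    exact h5.symm)
  obtain ⟨κ, hκ, c, hcc, hκc⟩ := exists_four hε
  -- `t * t = 1`
  have htt : (t : V ≃ₗ[F] V) * t = 1 := by
    have h3 : t * t ∈ center ↥(E Q) := by
      rw [← QuotientGroup.eq_one_iff]
      have h4 : (QuotientGroup.mk' (center ↥(E Q)) t) ^ 2 = 1 := by rw [← hz'.1]; exact pow_orderOf_eq_one _
      rw [pow_two, ← map_mul] at h4
      exact h4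
    obtain ⟨d, hd⟩ := Cfsg.Agent.ClassicalGeometry.OrthAut1.center_scalar hG h3
    have h4 : d = 1 := by
      have h5 := hd (a 0)
      have h6 : (((t * t : ↥(E Q)) : V ≃ₗ[F] V)) (a 0) = a 0 := by
        change (t : V ≃ₗ[F] V) ((t : V ≃ₗ[F] V) (a 0)) = a 0
        rw [hta, map_smul, hta, smul_smul, hε, one_smul]
      rw [h6] at h5
      have h7 : (1 - d) • a 0 = 0 := by rw [sub_smul, one_smul, ← h5, sub_self]
      rcases smul_eq_zero.1 h7 with h8 | h8
      · exact (sub_eq_zero.1 h8).symm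
      · exact absurd h8 (hne 0)
    ext x
    have := hd x
    rw [h4, one_smul] at this
    exact this
  -- the hyperbolic 4-space
  obtain ⟨x, y, hxy⟩ := exists_sq_add_sq h2 (-1)
  obtain ⟨b, hb⟩ : ∃ b : Fin 4 → V, b = fun i => a (κ i) := ⟨_, rfl⟩
  have hQb : ∀ i, Q (b i) = -1 := fun i => by rw [hb]; exact ha _
  have hbb : ∀ i j, i ≠ j → polar Q (b i) (b j) = 0 := fun i j hij => by
    rw [hb]; exact hab _ _ (fun h => hij (hκ h))
  have htb : ∀ i, (t : V ≃ₗ[F] V) (b i) = c • b i := fun i => by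
    rw [hb]
    change (t : V ≃ₗ[F] V) (a (κ i)) = c • a (κ i)
    rw [hta, hκc]
  have h4ne : (4 : F) ≠ 0 := by
    have : (4 : F) = 2 * 2 := by norm_num
    rw [this]; exact mul_ne_zero h2 h2
  have hlin : ∀ p0 p1 p2 p3 : F, (t : V ≃ₗ[F] V) (p0 • b 0 + p1 • b 1 + p2 • b 2 + p3 • b 3) =
      c • (p0 • b 0 + p1 • b 1 + p2 • b 2 + p3 • b 3) := by
    intro p0 p1 p2 p3
    simp only [map_add, map_smul, htb]
    module
  have hpol : ∀ p0 p1 p2 p3 q0 q1 q2 q3 : F, polar Q (p0 • b 0 + p1 • b 1 + p2 • b 2 + p3 • b 3)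
      (q0 • b 0 + q1 • b 1 + q2 • b 2 + q3 • b 3) = -2 * (p0 * q0 + p1 * q1 + p2 * q2 + p3 * q3) := by
    intro p0 p1 p2 p3 q0 q1 q2 q3
    simp only [polar_add_left, polar_add_right, polar_smul_left, polar_smul_right, smul_eq_mul]
    rw [polar_self', polar_self', polar_self', polar_self', hQb, hQb, hQb, hQb, hbb 0 1 (by decide),
      hbb 0 2 (by decide), hbb 0 3 (by decide), hbb 1 0 (by decide), hbb 1 2 (by decide), hbb 1 3 (by decide),
      hbb 2 0 (by decide), hbb 2 1 (by decide), hbb 2 3 (by decide), hbb 3 0 (by decide), hbb 3 1 (by decide),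
      hbb 3 2 (by decide)]
    ring
  have hq : ∀ p0 p1 p2 p3 : F, Q (p0 • b 0 + p1 • b 1 + p2 • b 2 + p3 • b 3) =
      -(p0 * p0 + p1 * p1 + p2 * p2 + p3 * p3) := by
    intro p0 p1 p2 p3
    have h3 := hpol p0 p1 p2 p3 p0 p1 p2 p3
    rw [polar_self'] at h3
    refine mul_left_cancel₀ h2 ?_
    linear_combination h3
  obtain ⟨m, hm⟩ : ∃ m : Subgroup (V ≃ₗ[F] V), m = (M'.comap (QuotientGroup.mk' (center ↥(E Q)))).map (E Q).subtype :=
    ⟨_, rfl⟩
  have hUo : UFo Q m (t : V ≃ₗ[F] V) := by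
    refine ⟨by rw [hm]; exact map_subtype_le _, fun σ hσ h => ?_, fun σ hσ g hg h => ?_⟩
    · rw [hm]
      exact ⟨⟨σ, hσ⟩, hUt.exch (σ := ⟨σ, hσ⟩) (Subtype.ext h), rfl⟩
    · rw [hm] at hσ ⊢
      obtain ⟨s, hs, rfl⟩ := hσ
      have h3 : s * t * s⁻¹ ∈ M'.comap (QuotientGroup.mk' (center ↥(E Q))) := mul_mem (mul_mem hs hUt.mem) (inv_mem hs)
      exact ⟨⟨g, hg⟩, (hUt.conj h3).comm (Subtype.ext h), rfl⟩
  have hle : E Q ≤ m := by
    refine E_le h2 hG hUo htO htt hcc (e := (1 : F) • b 0 + x • b 1 + y • b 2 + (0 : F) • b 3)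
      (f := (-4⁻¹ : F) • b 0 + (4⁻¹ * x) • b 1 + (4⁻¹ * y) • b 2 + (0 : F) • b 3)
      (e' := (0 : F) • b 0 + (-y) • b 1 + x • b 2 + (1 : F) • b 3)
      (f' := (0 : F) • b 0 + (4⁻¹ * (-y)) • b 1 + (4⁻¹ * x) • b 2 + (-4⁻¹ : F) • b 3)
      ⟨?_, ?_, ?_⟩ ⟨?_, ?_, ?_⟩ ?_ ?_ ?_ ?_ (hlin _ _ _ _) (hlin _ _ _ _) (hlin _ _ _ _) (hlin _ _ _ _)
    · rw [hq]; linear_combination -hxy
    · rw [hq]; linear_combination (-(4⁻¹ * 4⁻¹)) * hxy
    · rw [hpol]; linear_combination (-2 * 4⁻¹) * hxy + mul_inv_cancel₀ h4ne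
    · rw [hq]; linear_combination -hxy
    · rw [hq]; linear_combination (-(4⁻¹ * 4⁻¹)) * hxy
    · rw [hpol]; linear_combination (-2 * 4⁻¹) * hxy + mul_inv_cancel₀ h4ne
    · rw [hpol]; ring
    · rw [hpol]; ring
    · rw [hpol]; ring
    · rw [hpol]; ring
  apply hUt.ne
  rw [eq_top_iff]
  intro s _
  have h3 := hle s.2
  rw [hm] at h3
  obtain ⟨s', hs', hss⟩ := h3
  exact (Subtype.ext hss : s' = s) ▸ hs'

/-! ### The concrete groups -/

section Concrete

variable {ι : Type} [Fintype ι] [DecidableEq ι]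

theorem rowF_POmega {F : Type*} [Field F] [Finite F] (h2 : (2 : F) ≠ 0) {Q : QuadraticForm F (ι → F)}
    (hG : Good Q) {a : Fin 7 → (ι → F)} (ha : ∀ i, Q (a i) = -1) (hab : ∀ i j, i ≠ j → polar Q (a i) (a j) = 0) :
    RowF (Cfsg.POmega F ⇑Q) := by
  have := Fintype.ofFinite F
  exact RowF.congr (OrthFinite.quotientCenterCongr
    ((OrthFinite.omegaEquiv Q).trans (MulEquiv.subgroupCongr hG.commutator_eq_E))) (rowF_E h2 hG ha hab)

end Concrete

end Cfsg.Agent.HoltZ.Orth

end

-- merged: Cfsg.Agent.HoltZ.Orth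
section

/-!
# Holt's theorem for `PΩ_{2m+1}(q)`, `m ≥ 3`, `PΩ^±_{2m}(q)`, `m ≥ 4`, `q` odd: there is no pair at all
-/

set_option autoImplicit false
set_option linter.unusedSectionVars false

namespace Cfsg.Agent.HoltZ.Orth

open QuadraticMap Subgroup Cfsg Cfsg.Agent.LieClassical.OrthCore Cfsg.Agent.LieClassical.OrthTrans
open Cfsg.Agent.LieClassical.OrthSimple Cfsg.Agent.LieClassical Cfsg.Agent.LieClassical.OrthForms

section Seven

variable {F V : Type*} [Field F] [AddCommGroup V] [Module F V] {Q : QuadraticForm F V}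

/-- three hyperbolic pairs and a vector of norm one -/
structure Fr (Q : QuadraticForm F V) (e f : Fin 3 → V) (w : V) : Prop where
  qe : ∀ i, Q (e i) = 0
  qf : ∀ i, Q (f i) = 0
  qw : Q w = 1
  ee : ∀ i j, polar Q (e i) (e j) = 0
  ff : ∀ i j, polar Q (f i) (f j) = 0
  ef : ∀ i j, polar Q (e i) (f j) = if i = j then 1 else 0
  we : ∀ i, polar Q w (e i) = 0
  wf : ∀ i, polar Q w (f i) = 0

/-- linear combinations -/
def lc (e f : Fin 3 → V) (w : V) (c : Fin 7 → F) : V :=
  c 0 • e 0 + c 1 • e 1 + c 2 • e 2 + (c 3 • f 0 + c 4 • f 1 + c 5 • f 2) + c 6 • w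

theorem Fr.polar_lc {e f : Fin 3 → V} {w : V} (H : Fr Q e f w) (c d : Fin 7 → F) :
    polar Q (lc e f w c) (lc e f w d) = c 0 * d 3 + c 1 * d 4 + c 2 * d 5 + c 3 * d 0 + c 4 * d 1 + c 5 * d 2 +
      2 * (c 6 * d 6) := by
  have fe : ∀ i j, polar Q (f i) (e j) = if j = i then 1 else 0 := fun i j => by rw [polar_comm]; exact H.ef j i
  have ew : ∀ i, polar Q (e i) w = 0 := fun i => by rw [polar_comm]; exact H.we i
  have fw : ∀ i, polar Q (f i) w = 0 := fun i => by rw [polar_comm]; exact H.wf i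
  have ww : polar Q w w = 2 := by rw [polar_self', H.qw, mul_one]
  unfold lc
  simp only [polar_add_left, polar_add_right, polar_smul_left, polar_smul_right, smul_eq_mul, H.ee, H.ff, H.ef, fe,
    H.we, H.wf, ew, fw, ww]
  simp only [Fin.isValue, ↓reduceIte, mul_one, mul_zero, add_zero, zero_add, Fin.reduceEq]
  ring

theorem Fr.map_lc (h2 : (2 : F) ≠ 0) {e f : Fin 3 → V} {w : V} (H : Fr Q e f w) (c : Fin 7 → F) :
    Q (lc e f w c) = c 0 * c 3 + c 1 * c 4 + c 2 * c 5 + c 6 * c 6 := by
  have h := H.polar_lc c c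
  rw [polar_self'] at h
  refine mul_left_cancel₀ h2 ?_
  linear_combination h

theorem Fr.exists_seven [Finite F] (h2 : (2 : F) ≠ 0) {e f : Fin 3 → V} {w : V} (H : Fr Q e f w) :
    ∃ a : Fin 7 → V, (∀ i, Q (a i) = -1) ∧ ∀ i j, i ≠ j → polar Q (a i) (a j) = 0 := by
  have := Fintype.ofFinite F
  obtain ⟨x, y, hxy⟩ := exists_sq_add_sq h2 (-1)
  refine ⟨fun i => lc e f w ((![![1, 0, 0, -1, 0, 0, 0], ![0, 1, 0, 0, -1, 0, 0], ![0, 0, 1, 0, 0, -1, 0],
    ![x, y, 0, x, y, 0, 0], ![-y, x, 0, -y, x, 0, 0], ![0, 0, x, 0, 0, x, y], ![0, 0, -y, 0, 0, -y, x]] :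
      Fin 7 → Fin 7 → F) i), fun i => ?_, fun i j hij => ?_⟩
  · rw [H.map_lc h2]
    (revert i; simp only [_root_.Fin.forall_fin_succ, Fin.isValue, _root_.Matrix.cons_val', _root_.Matrix.cons_val_zero, _root_.Matrix.cons_val_fin_one, _root_.Matrix.cons_val, _root_.Matrix.cons_val_one, _root_.mul_neg, _root_.mul_one, _root_.MulZeroClass.mul_zero, _root_.add_zero, _root_.Matrix.cons_val_succ, _root_.zero_add, _root_.neg_mul, _root_.neg_neg, _root_.forall_const, _root_.true_and]) <;> (repeat' with_reducible apply And.intro) <;> linear_combination hxy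
  · rw [H.polar_lc]
    fin_cases i <;> fin_cases j <;> first | exact absurd rfl hij | (simp; try ring)

end Seven

section Rows

variable {F : Type*} [Field F] [Finite F]

/-- the row `PΩ⁺_{2m}(q)`, `m ≥ 4`, `q` odd -/
theorem rowF_plus (h2 : (2 : F) ≠ 0) {m : ℕ} (hm : 4 ≤ m) : RowF (Cfsg.POmega F (Cfsg.quadFormPlus m F)) := by
  have hG : Good (plusForm m F) := OrthFinite.good_of_finite (nondeg_plusForm m F) (by
    rw [Module.finrank_fintype_fun_eq_card, Fintype.card_sum, Fintype.card_fin]; omega)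
  obtain ⟨k, hk⟩ : ∃ k : Fin 3 → Fin m, k = fun i => ⟨i, by omega⟩ := ⟨_, rfl⟩
  have hkinj : ∀ i j, (k i = k j) ↔ i = j := by
    intro i j; rw [hk]; simp [Fin.ext_iff]
  obtain ⟨l, hl⟩ : ∃ l : Fin m, l = ⟨3, by omega⟩ := ⟨_, rfl⟩
  have hkl : ∀ i, k i ≠ l := by
    intro i; rw [hk, hl]; simp [Fin.ext_iff]; omega
  have H : Fr (plusForm m F) (fun i => Pi.single (.inl (k i)) 1) (fun i => Pi.single (.inr (k i)) 1)
      (Pi.single (.inl l) 1 + Pi.single (.inr l) 1) := by
    constructor
    · intro i; rw [coe_plusForm]; simp [Cfsg.quadFormPlus, Pi.single_apply]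
    · intro i; rw [coe_plusForm]; simp [Cfsg.quadFormPlus, Pi.single_apply]
    · rw [coe_plusForm]; simp only [Cfsg.quadFormPlus, Pi.single_apply, _root_.Pi.add_apply, _root_.Sum.inl.injEq, _root_.ne_eq, _root_.reduceCtorEq, _root_.not_false_eq_true, _root_.Pi.single_eq_of_ne, _root_.add_zero, _root_.Sum.inr.injEq, _root_.zero_add, _root_.mul_ite, _root_.mul_one, _root_.MulZeroClass.mul_zero, _root_.Finset.sum_ite_eq', _root_.Finset.mem_univ, ↓ _root_.reduceIte]
    · intro i j; simp [polar_plusForm, Pi.single_apply]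
    · intro i j; simp [polar_plusForm, Pi.single_apply]
    · intro i j; simp only [polar_plusForm, Pi.single_apply, hkinj, eq_comm, _root_.Sum.inl.injEq, _root_.Sum.inr.injEq, _root_.mul_ite, _root_.mul_one, _root_.MulZeroClass.mul_zero, _root_.ne_eq, _root_.reduceCtorEq, _root_.not_false_eq_true, _root_.Pi.single_eq_of_ne, _root_.add_zero, _root_.Finset.sum_ite_eq', _root_.Finset.mem_univ, ↓ _root_.reduceIte]
    · intro i; simp only [polar_plusForm, Pi.single_apply, hkl, (hkl i).symm, _root_.QuadraticMap.polar_add_left, _root_.Sum.inl.injEq, _root_.ne_eq, _root_.reduceCtorEq, _root_.not_false_eq_true, _root_.Pi.single_eq_of_ne, _root_.MulZeroClass.mul_zero, _root_.add_zero, _root_.Finset.sum_const_zero, _root_.Sum.inr.injEq, _root_.mul_ite, _root_.mul_one, _root_.zero_add, _root_.Finset.sum_ite_eq', _root_.Finset.mem_univ, ↓ _root_.reduceIte]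
    · intro i; simp only [polar_plusForm, Pi.single_apply, hkl, (hkl i).symm, _root_.QuadraticMap.polar_add_left, _root_.Sum.inl.injEq, _root_.Sum.inr.injEq, _root_.mul_ite, _root_.mul_one, _root_.MulZeroClass.mul_zero, _root_.ne_eq, _root_.reduceCtorEq, _root_.not_false_eq_true, _root_.Pi.single_eq_of_ne, _root_.add_zero, _root_.Finset.sum_ite_eq', _root_.Finset.mem_univ, ↓ _root_.reduceIte, _root_.ite_self, _root_.Finset.sum_const_zero]
  obtain ⟨a, ha, hab⟩ := H.exists_seven h2
  rw [← coe_plusForm]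
  exact rowF_POmega h2 hG ha hab

/-- the row `PΩ_{2m+1}(q)`, `m ≥ 3`, `q` odd -/
theorem rowF_odd (h2 : (2 : F) ≠ 0) {m : ℕ} (hm : 3 ≤ m) : RowF (Cfsg.POmega F (Cfsg.quadFormOdd m F)) := by
  have hG : Good (oddForm m F) := OrthFinite.good_of_finite (nondeg_oddForm m F h2) (by
    rw [Module.finrank_fintype_fun_eq_card, Fintype.card_sum, Fintype.card_sum, Fintype.card_fin, Fintype.card_unit]
    omega)
  obtain ⟨k, hk⟩ : ∃ k : Fin 3 → Fin m, k = fun i => ⟨i, by omega⟩ := ⟨_, rfl⟩
  have hkinj : ∀ i j, (k i = k j) ↔ i = j := by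
    intro i j; rw [hk]; simp [Fin.ext_iff]
  have H : Fr (oddForm m F) (fun i => Pi.single (.inr (.inl (k i))) 1) (fun i => Pi.single (.inr (.inr (k i))) 1)
      (Pi.single (.inl ()) 1) := by
    constructor
    · intro i; rw [coe_oddForm]; simp [Cfsg.quadFormOdd, Pi.single_apply]
    · intro i; rw [coe_oddForm]; simp [Cfsg.quadFormOdd, Pi.single_apply]
    · rw [coe_oddForm]; simp [Cfsg.quadFormOdd, Pi.single_apply]
    · intro i j; simp [polar_oddForm, Pi.single_apply]
    · intro i j; simp [polar_oddForm, Pi.single_apply]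
    · intro i j; simp only [polar_oddForm, Pi.single_apply, hkinj, eq_comm, _root_.ne_eq, _root_.reduceCtorEq, _root_.not_false_eq_true, _root_.Pi.single_eq_of_ne, _root_.MulZeroClass.mul_zero, _root_.Sum.inr.injEq, _root_.Sum.inl.injEq, _root_.mul_ite, _root_.mul_one, _root_.add_zero, _root_.Finset.sum_ite_eq', _root_.Finset.mem_univ, ↓ _root_.reduceIte, _root_.zero_add]
    · intro i; simp [polar_oddForm, Pi.single_apply]
    · intro i; simp [polar_oddForm, Pi.single_apply]
  obtain ⟨a, ha, hab⟩ := H.exists_seven h2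
  rw [← coe_oddForm]
  exact rowF_POmega h2 hG ha hab

/-- the row `PΩ⁻_{2m+2}(q)`, `m ≥ 3`, `q` odd -/
theorem rowF_minus (h2 : (2 : F) ≠ 0) {m : ℕ} (hm : 3 ≤ m) {a b : F}
    (hab : ∀ z₁ z₂ : F, z₁ ^ 2 + a * z₁ * z₂ + b * z₂ ^ 2 = 0 → z₁ = 0 ∧ z₂ = 0) :
    RowF (Cfsg.POmega F (Cfsg.quadFormMinus m F a b)) := by
  have hG : Good (minusForm m F a b) := OrthFinite.good_of_finite (nondeg_minusForm m F a b hab) (by
    rw [Module.finrank_fintype_fun_eq_card, Fintype.card_sum, Fintype.card_sum, Fintype.card_fin, Fintype.card_fin]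
    omega)
  obtain ⟨k, hk⟩ : ∃ k : Fin 3 → Fin m, k = fun i => ⟨i, by omega⟩ := ⟨_, rfl⟩
  have hkinj : ∀ i j, (k i = k j) ↔ i = j := by
    intro i j; rw [hk]; simp [Fin.ext_iff]
  have H : Fr (minusForm m F a b) (fun i => Pi.single (.inl (.inl (k i))) 1)
      (fun i => Pi.single (.inl (.inr (k i))) 1) (Pi.single (.inr 0) 1) := by
    constructor
    · intro i; rw [coe_minusForm]; simp [Cfsg.quadFormMinus, Pi.single_apply]
    · intro i; rw [coe_minusForm]; simp [Cfsg.quadFormMinus, Pi.single_apply]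
    · rw [coe_minusForm]; simp [Cfsg.quadFormMinus, Pi.single_apply]
    · intro i j; simp [polar_minusForm, Pi.single_apply]
    · intro i j; simp [polar_minusForm, Pi.single_apply]
    · intro i j; simp only [polar_minusForm, Pi.single_apply, hkinj, eq_comm, _root_.Sum.inl.injEq, _root_.Sum.inr.injEq, _root_.mul_ite, _root_.mul_one, _root_.MulZeroClass.mul_zero, _root_.ne_eq, _root_.reduceCtorEq, _root_.not_false_eq_true, _root_.Pi.single_eq_of_ne, _root_.add_zero, _root_.Finset.sum_ite_eq', _root_.Finset.mem_univ, ↓ _root_.reduceIte, _root_.Fin.isValue]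
    · intro i; simp [polar_minusForm, Pi.single_apply]
    · intro i; simp [polar_minusForm, Pi.single_apply]
  obtain ⟨a', ha, hab'⟩ := H.exists_seven h2
  rw [← coe_minusForm]
  exact rowF_POmega h2 hG ha hab'

end Rows

end Cfsg.Agent.HoltZ.Orth

end

private theorem dce_9741d613746b : _root_.True := by
  try have : _root_.True := by simp only [_root_.Cfsg.quadFormOdd.eq_1]
  try have : _root_.True := by simp only [_root_.Cfsg.quadFormPlus.eq_1]
  try have : _root_.True := by simp only [_root_.Cfsg.quadFormMinus.eq_1]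
  exact _root_.True.intro
end

-- part: HoltZ/OneClass
section
set_option linter.all false
open scoped Cfsg.Agent.FastGrp

/-!
# Groups with one class of involutions: the format (helper69)

`OneInv G` : all involutions of `G` are conjugate. `OneInv.row : OneInv G → Row G`, `OneInv.congr`.
-/

set_option autoImplicit false

namespace Cfsg.Agent.HoltZ.OneClass

open Subgroup Cfsg

/-- all involutions are conjugate -/
def OneInv (G : Type*) [Group G] : Prop :=
  ∀ s t : G, orderOf s = 2 → orderOf t = 2 → ∃ g : G, t = g * s * g⁻¹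

theorem OneInv.row {G : Type*} [Group G] [Finite G] (h : OneInv G) : Row G := row_of_class h

theorem OneInv.congr {G H : Type*} [Group G] [Group H] (e : G ≃* H) (h : OneInv H) : OneInv G := by
  intro s t hs ht
  obtain ⟨g, hg⟩ := h (e s) (e t) (by rw [MulEquiv.orderOf_eq, hs]) (by rw [MulEquiv.orderOf_eq, ht])
  refine ⟨e.symm g, e.injective ?_⟩
  rw [map_mul, map_mul, map_inv, e.apply_symm_apply, hg]

theorem sq_ne {X : Type*} [Group X] {s : X} (hs : orderOf s = 2) : s * s = 1 ∧ s ≠ 1 := by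
  refine ⟨by rw [← pow_two, ← hs, pow_orderOf_eq_one], ?_⟩
  rintro rfl
  rw [orderOf_one] at hs
  omega

/-- from one base point -/
theorem OneInv.of_base {G : Type*} [Group G] (a : G) (h : ∀ t : G, t * t = 1 → t ≠ 1 → ∃ g : G, g * a * g⁻¹ = t) :
    OneInv G := by
  intro s t hs ht
  obtain ⟨x, hx⟩ := h s (sq_ne hs).1 (sq_ne hs).2
  obtain ⟨y, hy⟩ := h t (sq_ne ht).1 (sq_ne ht).2
  refine ⟨y * x⁻¹, ?_⟩
  rw [← hx, ← hy]
  group

/-- in the `IsConj` form -/
theorem OneInv.of_isConj {G : Type*} [Group G]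
    (h : ∀ s t : G, s * s = 1 → s ≠ 1 → t * t = 1 → t ≠ 1 → IsConj s t) : OneInv G := by
  intro s t hs ht
  obtain ⟨g, hg⟩ := isConj_iff.1 (h s t (sq_ne hs).1 (sq_ne hs).2 (sq_ne ht).1 (sq_ne ht).2)
  exact ⟨g, hg.symm⟩

end Cfsg.Agent.HoltZ.OneClass
end
end
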