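import Mathlib
import Cfsg.Agent.ClassicalGeometry.UnitAutBasic
import Cfsg.Agent.LieClassical.HermCount
import Cfsg.Agent.HoltZ.Base
import Cfsg.Agent.HoltZ.Crit
import Cfsg.Agent.QTUnique.MTwelve
import Cfsg.Agent.Lib.SylowNormalInf
import Cfsg.Agent.NotResT.NotC
import Cfsg.Agent.Mrg.Omega.Lie.CenSL
import Cfsg.Agent.Mrg.Omega.Lie.CenTwist
import Cfsg.Agent.OddHalf.D4.Spor.Fi22
import Cfsg.Agent.R08.X4Gamma_m3
import Cfsg.Agent.R01.GlueFi23
import Cfsg.Agent.KFacts.FiTF.FixZ_m3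
import Cfsg.Agent.KFacts.FiTTh.Has
import Cfsg.Agent.KFacts.MM.OutC_m3
import Cfsg.Agent.OddHalf.D4.Spor.FiTF_m3
import Cfsg.Agent.HoltZ.Psp
import Cfsg.Agent.HoltZ.Psl4
import Cfsg.Agent.ClassicalGeometry.UnitGenTwo
import Cfsg.Agent.HoltZ.Orth_m3
import Cfsg.Agent.Lib.PSL2Torus
import Cfsg.Agent.GTwoOdd.Core.HFive_m3
import Cfsg.Agent.H165.RV.HexLin
import Cfsg.Agent.Cit.HexG2
import Cfsg.Agent.Cit.HexD4
import Cfsg.Agent.LieRecognition.ReeCent_mg
import Cfsg.Agent.S1152
import Cfsg.Agent.S1157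
import Cfsg.Agent.S1116
import Cfsg.Prelude.Def_LieTypeChar
import Cfsg.Agent.UGT.EndJ1.Data
import Cfsg.Agent.TypeM.FactsLy
import Cfsg.Agent.TypeM.FactsMcL
import Cfsg.Agent.KFacts.ON.Words_m3
import Cfsg.Agent.KFacts.AutLarge
import Cfsg.Agent.KFacts.J2.SheetX
import Cfsg.Agent.KFacts.HS.Sheet2_m3
import Cfsg.Agent.KFacts.SuzOut
import Cfsg.Agent.KFacts.Ru.Core
import Cfsg.Agent.OddHalf.D5.EightCleanSwp_m3
import Cfsg.Agent.OddHalf.D5.DblClean_m3
import Cfsg.Agent.KFacts.Co3.Syl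
import Cfsg.Agent.SporRec.Co3.Model
import Cfsg.Agent.KFacts.Co1.InCo1
import Cfsg.Agent.KFacts.Co1.CaseM_m3
import Cfsg.Agent.CoOneType.GenCrit
import Cfsg.Agent.KFacts.HN.Sheet
import Cfsg.Agent.OddHalf.D4.Spor.HN_m3
import Cfsg.Agent.KFacts.Baby.RowB_m3
import Cfsg.Agent.KFacts.MonsterE
import Cfsg.Agent.MonsterU.Uncond
import Cfsg.Agent.H850.MonSub
import Cfsg.Prelude.Def_Spor_Mathieu
import Cfsg.Prelude.Def_Spor_J1
import Cfsg.Prelude.Def_Spor_J2
import Cfsg.Prelude.Def_Spor_Conway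
import Cfsg.Prelude.Def_Spor_Ly
import Cfsg.Prelude.Def_Spor_He
import Cfsg.Prelude.Def_Spor_ON
import Cfsg.Prelude.Def_Spor_Suz
import Cfsg.Prelude.Def_Spor_Ru
import Cfsg.Prelude.Def_Spor_Fi22
import Cfsg.Prelude.Def_Spor_Fi23
import Cfsg.Prelude.Def_Spor_Fi24
import Cfsg.Prelude.Def_Spor_HN
import Cfsg.Prelude.Def_Spor_B
import Cfsg.Prelude.Def_Spor_M
import Cfsg.Agent.HoltZ.CentHe
import Cfsg.Prelude.Def_Classification2
import Cfsg.Prelude.Def_CaseTheorems
import Cfsg.Agent.EvenType.ZEmb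
import Cfsg.Agent.TwoUniq.ZEmb
import Cfsg.Agent.NotResT.Listed
import Cfsg.Agent.EvenType.ChevTwo
import Cfsg.Agent.ResEven.Congr_m3
import Cfsg.Agent.FastGrp
import Cfsg.Agent.Prune
set_option linter.all false
prune_inst 0x7ffcfdfb0ff83ddedfff7e75fed1dffc39d15fffefdff94bbfe02bef0bdf03000dc57bad0de000fe0ec2e01410b87843fbffeabfe26bdc7ffffd5df41ffbee4ff5f6b50811968c340fbc0ff603f0678e7f3fffffffffffffffffffffffffffbeffffffffffff
open scoped Cfsg.Agent.FastGrp

-- merged: Cfsg.Agent.ClassicalGeometry.UnitAutHua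
section

/-!
A version of Hua's theorem for two additive maps, and the extension of automorphisms of subfields of
finite fields.
-/

set_option autoImplicit false

namespace Cfsg.Agent.ClassicalGeometry.UnitAutHua

end Cfsg.Agent.ClassicalGeometry.UnitAutHua

end

-- merged: Cfsg.Agent.ClassicalGeometry.UnitAutSylow
section

/-!
# Centres of Sylow subgroups of `SU_n(q)` in the defining characteristic

The centre of a Sylow `p`-subgroup of `SU_n(q)`, `n ≥ 3`, consists of the transvections with a fixed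
centre. Consequently automorphisms of `PSU_n(q)` permute the images of transvections.
-/

set_option autoImplicit false

namespace Cfsg.Agent.ClassicalGeometry.UnitAutSylow

open Cfsg Cfsg.Agent.LieClassical.HermBasic Cfsg.Agent.LieClassical.HermSiegel
open Cfsg.Agent.ClassicalGeometry.UnitAutBasic
open scoped Pointwise

variable {F : Type*} [Field F] [Fintype F] {q n : ℕ}

/-- The group of Siegel transformations with isotropic vector `u`. -/
def siegelAt (hF : Fintype.card F = q ^ 2) (u : Fin n → F) (hu : hermForm n F q u u = 0) :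
    Subgroup (SU n F q) where
  carrier := {g | ∃ (w : Fin n → F) (μ : F) (h : IsSiegel q u w μ), g = siegel hF u w μ h}
  mul_mem' := by
    rintro _ _ ⟨w, μ, h, rfl⟩ ⟨w', μ', h', rfl⟩
    exact ⟨_, _, _, siegel_mul hF h h'⟩
  one_mem' := ⟨0, 0, IsSiegel.zero hF hu, (siegel_zero hF _).symm⟩
  inv_mem' := by
    rintro _ ⟨w, μ, h, rfl⟩
    exact ⟨_, _, _, siegel_inv hF h⟩

theorem siegel_mem (hF : Fintype.card F = q ^ 2) {u w : Fin n → F} {μ : F}
    (hu : hermForm n F q u u = 0) (h : IsSiegel q u w μ) :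
    siegel hF u w μ h ∈ siegelAt hF u hu := ⟨w, μ, h, rfl⟩

theorem pow_card_siegel (hF : Fintype.card F = q ^ 2) {u w : Fin n → F} {μ : F}
    (h : IsSiegel q u w μ) : (siegel hF u w μ h) ^ Fintype.card F = 1 := by
  have h2 := two_le hF
  have hcube : (siegelMat q u w μ - 1) * (siegelMat q u w μ - 1) * (siegelMat q u w μ - 1) = 0 := by
    apply Matrix.ext_of_mulVec_single
    intro i
    set e : Fin n → F := Pi.single i 1
    have key : ∀ v : Fin n → F, (siegelMat q u w μ - 1).mulVec v =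
        hermForm n F q v u • w + (μ * hermForm n F q v u - hermForm n F q v w) • u := by
      intro v
      rw [Matrix.sub_mulVec, siegelMat_mulVec, Matrix.one_mulVec]
      abel
    rw [Matrix.zero_mulVec, ← Matrix.mulVec_mulVec, ← Matrix.mulVec_mulVec, key e, key, key]
    simp only [herm_add_left, herm_smul_left, h.iso, h.orth, h.orth' hF, mul_zero, add_zero,
      zero_sub, zero_smul, zero_add, sub_self]
  obtain ⟨p, hp⟩ := CharP.exists F
  obtain ⟨k, hprime, hcard⟩ := FiniteField.card F p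
  have := Fact.mk hprime
  have h3 : 3 ≤ Fintype.card F := by rw [hF]; nlinarith only [h2]
  apply mat_injective
  have hmat : ∀ m : ℕ, mat ((siegel hF u w μ h) ^ m) = siegelMat q u w μ ^ m := by
    intro m
    induction m with
    | zero => rw [pow_zero, pow_zero, mat_one]
    | succ m ih => rw [pow_succ, mat_mul, ih, pow_succ]; rfl
  rw [hmat, mat_one]
  rcases Nat.eq_zero_or_pos n with rfl | hn
  · exact Subsingleton.elim _ _
  have : Nonempty (Fin n) := ⟨⟨0, hn⟩⟩
  set M := siegelMat q u w μ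
  have hc : (M - 1) ^ Fintype.card F = M ^ Fintype.card F - 1 := by
    rw [hcard]
    have := sub_pow_char_pow_of_commute (R := Matrix (Fin n) (Fin n) F) (p := p) (n := (k : ℕ))
      (Commute.one_right M)
    rw [this, one_pow]
  have h0 : (M - 1) ^ Fintype.card F = 0 := by
    obtain ⟨m, hm⟩ := Nat.exists_eq_add_of_le h3
    rw [hm, pow_add, pow_succ, pow_two, hcube, zero_mul]
  rw [h0] at hc
  exact (sub_eq_zero.1 hc.symm)

theorem isPGroup_siegelAt (hF : Fintype.card F = q ^ 2) {p f : ℕ} (hq : q = p ^ f)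
    {u : Fin n → F} (hu : hermForm n F q u u = 0) : IsPGroup p (siegelAt hF u hu) := by
  rintro ⟨g, w, μ, h, rfl⟩
  refine ⟨f * 2, ?_⟩
  apply Subtype.ext
  change (siegel hF u w μ h) ^ p ^ (f * 2) = 1
  rw [pow_mul, ← hq, ← hF]
  exact pow_card_siegel hF h

theorem le_normalizer_siegelAt (hF : Fintype.card F = q ^ 2)
    {u : Fin n → F} (hu : hermForm n F q u u = 0) {P : Subgroup (SU n F q)}
    (hP : ∀ g ∈ P, act g u = u) : P ≤ Subgroup.normalizer (siegelAt hF u hu : Set (SU n F q)) := by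
  have key : ∀ g ∈ P, ∀ x ∈ siegelAt hF u hu, g * x * g⁻¹ ∈ siegelAt hF u hu := by
    rintro g hg _ ⟨w, μ, h, rfl⟩
    rw [conj_siegel]
    have h1 := h.map g
    have h2 := hP g hg
    refine ⟨act g w, μ, ?_, ?_⟩
    · rw [h2] at h1; exact h1
    · exact siegel_congr hF _ _ h2 rfl rfl
  intro g hg
  rw [Subgroup.mem_normalizer_iff]
  intro x
  constructor
  · exact key g hg x
  · intro h
    have := key g⁻¹ (P.inv_mem hg) _ h
    simpa only [mul_assoc, _root_.inv_mul_cancel_left, _root_.inv_inv, _root_.inv_mul_cancel, _root_.mul_one] using this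

/-- A Sylow subgroup fixing `u` contains the Siegel transformations at `u`. -/
theorem siegelAt_le (hF : Fintype.card F = q ^ 2) {p f : ℕ} (hq : q = p ^ f)
    {u : Fin n → F} (hu : hermForm n F q u u = 0) (P : Sylow p (SU n F q))
    (hP : ∀ g ∈ P, act g u = u) : siegelAt hF u hu ≤ P := by
  have h1 : (IsPGroup p ((P : Subgroup (SU n F q)) ⊔ siegelAt hF u hu : Subgroup (SU n F q)) :) :=
    P.isPGroup'.to_sup_of_normal_right' (isPGroup_siegelAt hF hq hu)
      (le_normalizer_siegelAt hF hu hP)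
  have h2 := P.is_maximal' h1 le_sup_left
  rw [← h2]
  exact le_sup_right

/-! ### Fixed isotropic vectors -/

/-- The isotropic vectors. -/
def Iso (n : ℕ) (F : Type*) [Field F] (q : ℕ) : Type _ := {v : Fin n → F // hermForm n F q v v = 0}

instance isoAction : MulAction (SU n F q) (Iso n F q) where
  smul g v := ⟨act g v.1, iso_act g v.2⟩
  one_smul v := Subtype.ext (act_one v.1)
  mul_smul g g' v := Subtype.ext (act_mul g g' v.1)

theorem dvd_card_iso (hF : Fintype.card F = q ^ 2) (hn : 2 ≤ n) : q ∣ Nat.card (Iso n F q) := by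
  have h := LieClassical.HermCount.card_herm_eq_zero hF n
  have h2 := two_le hF
  have h3 : (q : ℤ) * q ∣ (q : ℤ) * Nat.card (Iso n F q) := by
    change (q : ℤ) * q ∣ (q : ℤ) * Nat.card {v : Fin n → F // hermForm n F q v v = 0}
    rw [h]
    obtain ⟨m, rfl⟩ := Nat.exists_eq_add_of_le hn
    refine ⟨(q : ℤ) ^ (2 + 2 * m) + (-q : ℤ) ^ m * (q - 1), ?_⟩
    rw [show 2 * (2 + m) = 2 + (2 + 2 * m) by ring, pow_add, pow_add]
    ring
  have h4 : (q : ℤ) ∣ Nat.card (Iso n F q) :=
    (mul_dvd_mul_iff_left (by positivity)).1 h3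
  exact_mod_cast h4

/-- Every `p`-subgroup of `SU` fixes a nonzero isotropic vector. -/
theorem exists_fixed_iso (hF : Fintype.card F = q ^ 2) (hn : 2 ≤ n) {p f : ℕ} [Fact p.Prime]
    (hf : 1 ≤ f) (hq : q = p ^ f) (P : Subgroup (SU n F q)) (hP : IsPGroup p P) :
    ∃ v : Fin n → F, v ≠ 0 ∧ hermForm n F q v v = 0 ∧ ∀ g ∈ P, act g v = v := by
  have : Finite (Iso n F q) := by unfold Iso; infer_instance
  have hdvd : p ∣ Nat.card (Iso n F q) :=
    (hq ▸ dvd_pow_self p (by omega) : p ∣ q).trans (dvd_card_iso hF hn)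
  let z : Iso n F q := ⟨0, herm_zero_left 0⟩
  have hz : z ∈ MulAction.fixedPoints P (Iso n F q) := by
    rintro ⟨g, hg⟩
    exact Subtype.ext (act_zero g)
  obtain ⟨v, hv, hne⟩ := hP.exists_fixed_point_of_prime_dvd_card_of_fixed_point _ hdvd hz
  refine ⟨v.1, ?_, v.2, ?_⟩
  · intro h
    exact hne (Subtype.ext h.symm)
  · intro g hg
    exact congrArg Subtype.val (hv ⟨g, hg⟩)

/-- An element fixing `u` and commuting with the Siegel transformations at `u` is a transvection with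
centre `u`. -/
theorem eq_T_of_comm (hF : Fintype.card F = q ^ 2) {u : Fin n → F} (h0 : u ≠ 0)
    (hu : hermForm n F q u u = 0) {g : SU n F q} (hg : act g u = u)
    (hc : ∀ x ∈ siegelAt hF u hu, g * x = x * g) : ∃ a : F, g = T hF (a • u) := by
  -- a vector with product one
  obtain ⟨y0, hy0⟩ : ∃ y : Fin n → F, hermForm n F q y u = 1 := by
    obtain ⟨y, hy⟩ := exists_herm_ne_zero hF h0
    have hy' : hermForm n F q y u ≠ 0 := fun h => hy (herm_eq_zero_swap hF h)
    exact ⟨(hermForm n F q y u)⁻¹ • y, by rw [herm_smul_left, inv_mul_cancel₀ hy']⟩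
  have step1 : ∀ w : Fin n → F, hermForm n F q w u = 0 →
      ∃ κ : F, κ ^ q = κ ∧ act g w = w + κ • u := by
    intro w hw
    obtain ⟨μ, hμ⟩ := exists_trace_eq hF (c := -hermForm n F q w w) (by
      rw [neg_pow_q hF, herm_self_pow hF])
    have hs : IsSiegel q u w μ := ⟨hu, hw, by rw [hμ]; ring⟩
    have h1 := hc _ (siegel_mem hF hu hs)
    have h2 : siegel hF (act g u) (act g w) μ (hs.map g) = siegel hF u w μ hs := by
      rw [← conj_siegel hF hs g, h1, mul_inv_cancel_right]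
    have h3 : ∀ y : Fin n → F, hermForm n F q y u • (act g w - w) =
        hermForm n F q y (act g w - w) • u := by
      intro y
      have h4 := congrArg (fun k : SU n F q => act k y) h2
      simp only [act_siegel] at h4
      rw [hg] at h4
      rw [herm_sub_right hF, smul_sub, sub_smul]
      have h5 : hermForm n F q y u • act g w - hermForm n F q y (act g w) • u =
          hermForm n F q y u • w - hermForm n F q y w • u := by
        have h6 : y + hermForm n F q y u • act g w +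
          (μ * hermForm n F q y u - hermForm n F q y (act g w)) • u -
          (y + (μ * hermForm n F q y u) • u) = y + hermForm n F q y u • w +
          (μ * hermForm n F q y u - hermForm n F q y w) • u -
          (y + (μ * hermForm n F q y u) • u) := by rw [h4]
        rw [sub_smul, sub_smul] at h6
        have e1 : ∀ a b c d e : Fin n → F, a + b + (c - d) - (a + c) = b - d := by
          intros; abel
        rwa [e1 _ _ _ _ 0, e1 _ _ _ _ 0] at h6
      have e2 : ∀ a b c d : Fin n → F, a - b = c - d → a - c = b - d := by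
        intro a b c d h
        rw [sub_eq_sub_iff_add_eq_add] at h ⊢
        rw [h, add_comm]
      exact e2 _ _ _ _ h5
    have h4 := h3 y0
    rw [hy0, one_smul] at h4
    set κ := hermForm n F q y0 (act g w - w) with hκ
    refine ⟨κ, ?_, by rw [← h4]; abel⟩
    have h5 : hermForm n F q y0 (act g w - w) = κ ^ q := by
      conv_lhs => rw [h4, herm_smul_right, hy0, mul_one]
    rw [← h5]
  have step2 : ∀ w : Fin n → F, hermForm n F q w u = 0 → act g w = w := by
    intro w hw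
    obtain ⟨κ, hκ, hgw⟩ := step1 w hw
    obtain ⟨t, ht⟩ := exists_not_fixed hF
    obtain ⟨κ', hκ', hgw'⟩ := step1 (t • w) (by rw [herm_smul_left, hw, mul_zero])
    rw [act_smul, hgw, smul_add, smul_smul, add_right_inj] at hgw'
    have h1 : t * κ = κ' := smul_left_injective F h0 hgw'
    have h2 : (t ^ q - t) * κ = 0 := by
      rw [← h1, mul_pow, hκ] at hκ'
      linear_combination hκ'
    rcases mul_eq_zero.1 h2 with h3 | h3
    · exact absurd (sub_eq_zero.1 h3) ht
    · rw [hgw, h3, zero_smul, add_zero]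
  have step3 : ∃ c : F, act g y0 = y0 + c • u := by
    -- `g y0 - y0` is orthogonal to everything orthogonal to `u`
    have h1 : ∀ w : Fin n → F, hermForm n F q w u = 0 → hermForm n F q (act g y0 - y0) w = 0 := by
      intro w hw
      rw [herm_sub_left, sub_eq_zero]
      conv_lhs => rw [← step2 w hw]
      rw [herm_act]
    set d := act g y0 - y0 with hd
    refine ⟨hermForm n F q d y0, ?_⟩
    have h2 : d = hermForm n F q d y0 • u := by
      have h3 : ∀ y, hermForm n F q (d - hermForm n F q d y0 • u) y = 0 := by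
        intro y
        have h4 := h1 (y - hermForm n F q y u • y0) (by
          rw [herm_sub_left, herm_smul_left, hy0, mul_one, sub_self])
        rw [herm_sub_right hF, herm_smul_right] at h4
        rw [herm_sub_left, herm_smul_left, herm_swap hF y u]
        linear_combination h4
      exact sub_eq_zero.1 (herm_nondeg hF h3)
    rw [← h2, hd]
    abel
  obtain ⟨c, hc'⟩ := step3
  have hcc : c + c ^ q = 0 := by
    have h1 := herm_act g y0 y0
    rw [hc'] at h1
    simp only [herm_add_left, herm_add_right hF, herm_smul_left, herm_smul_right, hu, hy0,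
      herm_swap hF y0 u, one_pow] at h1
    linear_combination h1
  obtain ⟨a, ha⟩ := exists_c0_mul_norm hF hcc
  refine ⟨a, ?_⟩
  apply ext_act
  intro x
  rw [act_T_smul hF hu, ha]
  have h1 : act g (x - hermForm n F q x u • y0) = x - hermForm n F q x u • y0 :=
    step2 _ (by rw [herm_sub_left, herm_smul_left, hy0, mul_one, sub_self])
  rw [act_sub, act_smul, hc', smul_add, smul_smul] at h1
  have h2 : act g x = x + (hermForm n F q x u * c) • u := by
    have e1 : ∀ a b c d : Fin n → F, a - (b + c) = d - b → a = d + c := by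
      intro a b c d h
      have : a = (a - (b + c)) + (b + c) := by abel
      rw [this, h]; abel
    exact e1 _ _ _ _ h1
  rw [h2, mul_comm]

/-- Transvections with centre `u` are Siegel transformations at `u`. -/
theorem T_smul_mem_siegelAt (hF : Fintype.card F = q ^ 2) {u : Fin n → F}
    (hu : hermForm n F q u u = 0) (a : F) : T hF (a • u) ∈ siegelAt hF u hu := by
  have hs : IsSiegel q u 0 (c0 hF * (a * a ^ q)) := by
    refine ⟨hu, herm_zero_left u, ?_⟩
    rw [herm_zero_left, mul_pow, norm_pow_q hF, c0_pow]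
    ring
  refine ⟨0, _, hs, ?_⟩
  apply ext_act
  intro x
  rw [act_T_smul hF hu, act_siegel, herm_zero_right hF, smul_zero, sub_zero, add_zero]

/-- The image in `PSU` of a transvection lies in, and centralises, a Sylow subgroup which fixes its
centre. -/
theorem tau_comm_sylow (hF : Fintype.card F = q ^ 2) {u : Fin n → F}
    (hu : hermForm n F q u u = 0) {g : SU n F q} (hg : act g u = u) :
    g * T hF u = T hF u * g := by
  have h := conj_T hF g hu
  rw [hg] at h
  exact mul_inv_eq_iff_eq_mul.1 h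

/-- A central element of `SU` of `p`-power order is trivial. -/
theorem eq_one_of_center (hF : Fintype.card F = q ^ 2) (hn : 3 ≤ n) {p f : ℕ} [Fact p.Prime]
    (hf : 1 ≤ f) (hq : q = p ^ f)
    {z : SU n F q} (hz : z ∈ Subgroup.center (SU n F q)) {k : ℕ} (hk : z ^ p ^ k = 1) : z = 1 := by
  obtain ⟨c, hc, hx⟩ := exists_scalar_of_mem_center hF hn hz
  have h1 : ∀ (m : ℕ) (x : Fin n → F), act (z ^ m) x = c ^ m • x := by
    intro m
    induction m with
    | zero => intro x; rw [pow_zero, pow_zero, act_one, one_smul]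
    | succ m ih => intro x; rw [pow_succ, act_mul, hx, act_smul, ih, smul_smul, pow_succ, mul_comm]
  have i0 : Fin n := ⟨0, by omega⟩
  have hck : c ^ p ^ k = 1 := by
    have h2 := congrFun (h1 (p ^ k) (Pi.single i0 1)) i0
    rw [hk, act_one] at h2
    simpa using h2.symm
  have hcop : Nat.Coprime (q + 1) (p ^ k) := by
    apply Nat.Coprime.pow_right
    rw [Nat.coprime_comm, Nat.Prime.coprime_iff_not_dvd Fact.out]
    intro h
    have h3 : p ∣ q := hq ▸ dvd_pow_self p (by omega)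
    have h4 : p ∣ 1 := (Nat.dvd_add_right h3).1 h
    exact (Fact.out : p.Prime).one_lt.ne' (Nat.dvd_one.1 h4)
  have hc1 : c = 1 := by
    have h2 : c ^ (q + 1) = 1 := by rw [pow_succ']; exact hc
    have h3 := pow_gcd_eq_one.2 ⟨h2, hck⟩
    rwa [Nat.Coprime.gcd_eq_one hcop, pow_one] at h3
  apply ext_act
  intro x
  rw [hx, hc1, one_smul, act_one]

/-- Automorphisms of `PSU` permute the groups of transvections with a given centre. -/
theorem exists_tau_smul_eq (hF : Fintype.card F = q ^ 2) (hn : 3 ≤ n) (α : MulAut (PSU n F q))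
    {v : Fin n → F} (h0 : v ≠ 0) (hv : hermForm n F q v v = 0) :
    ∃ u : Fin n → F, u ≠ 0 ∧ hermForm n F q u u = 0 ∧
      ∀ c : F, ∃ a : F, α (tau hF (c • v)) = tau hF (a • u) := by
  classical
  obtain ⟨p, f, hp, -, hq, hf⟩ := exists_prime_pow hF
  have := Fact.mk hp
  -- a Sylow subgroup fixing `v`
  obtain ⟨P, hP⟩ : ∃ P : Sylow p (SU n F q), ∀ g ∈ P, act g v = v := by
    obtain ⟨P0⟩ : Nonempty (Sylow p (SU n F q)) := inferInstance
    obtain ⟨v0, hv00, hv0, hP0⟩ := exists_fixed_iso hF (n := n) (by omega) hf hq P0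
      P0.isPGroup'
    obtain ⟨g, -, hg⟩ := LieClassical.HermGen.exists_map_iso hF hn le_rfl
      (LieClassical.HermGen.mem_coordSub_top v0) (LieClassical.HermGen.mem_coordSub_top v)
      hv00 h0 hv0 hv
    refine ⟨g • P0, ?_⟩
    intro x hx
    have hx' : x ∈ MulAut.conj g • (P0 : Subgroup (SU n F q)) := hx
    obtain ⟨y, hy, hyx⟩ := hx'
    have hy' := hP0 y hy
    rw [← hyx]
    change act (g * y * g⁻¹) v = v
    rw [act_mul, act_mul, ← hg, act_inv_act, hy']
  have hTP : ∀ c : F, T hF (c • v) ∈ P := fun c =>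
    siegelAt_le hF hq hv P hP (T_smul_mem_siegelAt hF hv c)
  -- the image Sylow subgroup and its image under `α`
  let P1 : Sylow p (PSU n F q) := P.mapSurjective (pr_surjective (n := n) (F := F) (q := q))
  let P2 : Sylow p (PSU n F q) := P1.mapSurjective (f := α.toMonoidHom) α.surjective
  obtain ⟨R, hR⟩ := Sylow.mapSurjective_surjective
    (pr_surjective (n := n) (F := F) (q := q)) p P2
  obtain ⟨u, hu0, hu, hfix⟩ := exists_fixed_iso hF (n := n) (by omega) hf hq R R.isPGroup'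
  have hRmem : ∀ y, y ∈ P2 ↔ ∃ x ∈ R, pr n F q x = y := by
    intro y
    rw [← hR]
    exact Subgroup.mem_map
  refine ⟨u, hu0, hu, fun c => ?_⟩
  have hmem : α (tau hF (c • v)) ∈ P2 := ⟨tau hF (c • v), ⟨T hF (c • v), hTP c, rfl⟩, rfl⟩
  obtain ⟨x, hxR, hx⟩ := (hRmem _).1 hmem
  have hcomm : ∀ y ∈ R, x * y = y * x := by
    intro y hy
    -- the images commute
    have h1 : pr n F q y ∈ P2 := (hRmem _).2 ⟨y, hy, rfl⟩
    obtain ⟨z', ⟨z, hz, hz'⟩, hyz⟩ := h1
    have h2 : pr n F q x * pr n F q y = pr n F q y * pr n F q x := by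
      rw [hx, ← hyz, ← hz']
      change α (tau hF (c • v)) * α (pr n F q z) = α (pr n F q z) * α (tau hF (c • v))
      rw [← map_mul, ← map_mul, tau_def, ← map_mul, ← map_mul,
        tau_comm_sylow hF (iso_smul c hv) (by rw [act_smul, hP z hz])]
    have h3 : (x * y)⁻¹ * (y * x) ∈ Subgroup.center (SU n F q) := by
      rw [← pr_eq_pr_iff, map_mul, map_mul, h2]
    have h4 : (x * y)⁻¹ * (y * x) ∈ (R : Subgroup (SU n F q)) :=
      mul_mem (inv_mem (mul_mem hxR hy)) (mul_mem hy hxR)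
    obtain ⟨k, hk⟩ := R.isPGroup' ⟨_, h4⟩
    have h5 : ((x * y)⁻¹ * (y * x)) ^ p ^ k = 1 := congrArg Subtype.val hk
    have h6 := eq_one_of_center hF hn hf hq h3 h5
    exact inv_mul_eq_one.1 h6
  obtain ⟨a, ha⟩ := eq_T_of_comm hF hu0 hu (hfix x hxR)
    (fun y hy => hcomm y (siegelAt_le hF hq hu R hfix hy))
  exact ⟨a, by rw [tau_def hF (a • u), ← ha, hx]⟩

end Cfsg.Agent.ClassicalGeometry.UnitAutSylow

end

-- merged: Cfsg.Agent.ClassicalGeometry.UnitAutRel
section

/-!
# The action of an automorphism of `PSU` on transvections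

`Rel hF α v w` says that `v`, `w` are nonzero isotropic vectors with `α (tau v) = tau w`.
-/

set_option autoImplicit false

namespace Cfsg.Agent.ClassicalGeometry.UnitAutRel

open Cfsg Cfsg.Agent.LieClassical.HermBasic Cfsg.Agent.LieClassical.HermSiegel
open Cfsg.Agent.ClassicalGeometry.UnitAutBasic
open Cfsg.Agent.ClassicalGeometry.UnitAutSylow (exists_tau_smul_eq)

variable {F : Type*} [Field F] [Fintype F] {q n : ℕ}

/-- The image of `tau v` under `α` is `tau w`. -/
structure Rel (hF : Fintype.card F = q ^ 2) (α : MulAut (PSU n F q)) (v w : Fin n → F) : Prop where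
  ne : v ≠ 0
  iso : hermForm n F q v v = 0
  ne' : w ≠ 0
  iso' : hermForm n F q w w = 0
  eq : α (tau hF v) = tau hF w

section

variable {hF : Fintype.card F = q ^ 2} {α : MulAut (PSU n F q)}

theorem Rel.inv {v w : Fin n → F} (h : Rel hF α v w) : Rel hF α⁻¹ w v :=
  ⟨h.ne', h.iso', h.ne, h.iso, by rw [← h.eq]; exact α.symm_apply_apply _⟩

theorem Rel.mul {β : MulAut (PSU n F q)} {u v w : Fin n → F} (h : Rel hF α u v)
    (h' : Rel hF β v w) : Rel hF (β * α) u w :=
  ⟨h.ne, h.iso, h'.ne', h'.iso', by rw [MulAut.mul_apply, h.eq, h'.eq]⟩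

theorem Rel.unique (hn : 3 ≤ n) {v w w' : Fin n → F} (h : Rel hF α v w) (h' : Rel hF α v w') :
    ∃ ζ : F, ζ * ζ ^ q = 1 ∧ w' = ζ • w :=
  (tau_eq_tau_iff hF hn h.iso' h'.iso' h.ne').1 (by rw [← h.eq, ← h'.eq])

theorem norm_ne_zero {ζ : F} (hζ : ζ * ζ ^ q = 1) : ζ ≠ 0 := by
  rintro rfl
  rw [zero_mul] at hζ
  exact zero_ne_one hζ

/-- Scalar multiples go to scalar multiples. -/
theorem Rel.exists_smul (hn : 3 ≤ n) {v w : Fin n → F} (h : Rel hF α v w) (a : F) :
    ∃ b : F, α (tau hF (a • v)) = tau hF (b • w) := by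
  obtain ⟨u, hu0, hu, hu'⟩ := exists_tau_smul_eq hF hn α h.ne h.iso
  obtain ⟨a1, ha1⟩ := hu' 1
  obtain ⟨a2, ha2⟩ := hu' a
  rw [one_smul, h.eq] at ha1
  obtain ⟨ζ, hζ, h1⟩ := (tau_eq_tau_iff hF hn h.iso' (iso_smul a1 hu) h.ne').1 ha1
  have ha10 : a1 ≠ 0 := by
    rintro rfl
    rw [zero_smul] at h1
    exact smul_ne_zero (norm_ne_zero hζ) h.ne' h1.symm
  have h2 : u = (a1⁻¹ * ζ) • w := by rw [mul_smul, ← h1, smul_smul, inv_mul_cancel₀ ha10, one_smul]
  exact ⟨a2 * (a1⁻¹ * ζ), by rw [ha2, h2, smul_smul]⟩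

theorem Rel.smul_of_eq {v w : Fin n → F} (h : Rel hF α v w) (hn : 3 ≤ n) {a b : F} (ha : a ≠ 0)
    (hab : α (tau hF (a • v)) = tau hF (b • w)) : Rel hF α (a • v) (b • w) := by
  refine ⟨smul_ne_zero ha h.ne, iso_smul a h.iso, ?_, iso_smul b h.iso', hab⟩
  intro h1
  rw [h1, tau_zero] at hab
  have h2 : tau hF (a • v) = 1 := α.injective (by rw [hab, map_one])
  exact smul_ne_zero ha h.ne ((tau_eq_one_iff hF hn (iso_smul a h.iso)).1 h2)

theorem Rel.act {v w : Fin n → F} (h : Rel hF α v w) {g g' : SU n F q}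
    (hg : pr n F q g' = α (pr n F q g)) : Rel hF α (act g v) (act g' w) :=
  ⟨fun h0 => h.ne ((act_eq_zero g).1 h0), iso_act g h.iso,
    fun h0 => h.ne' ((act_eq_zero g').1 h0), iso_act g' h.iso', by
    rw [← conj_tau hF g h.iso, ← conj_tau hF g' h.iso', map_mul, map_mul, map_inv, hg, h.eq]⟩

theorem Rel.orth (hn : 3 ≤ n) {u u' v v' : Fin n → F} (h : Rel hF α u u') (h' : Rel hF α v v') :
    hermForm n F q u v = 0 ↔ hermForm n F q u' v' = 0 := by
  rw [← tau_comm_iff hF hn h'.iso h.iso h.ne, ← tau_comm_iff hF hn h'.iso' h.iso' h.ne',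
    ← h.eq, ← h'.eq, ← map_mul, ← map_mul]
  exact α.injective.eq_iff.symm

/-! ### Norms -/

/-- The fixed field. -/
def Kf (hF : Fintype.card F = q ^ 2) : Subfield F where
  carrier := {x | x ^ q = x}
  mul_mem' {a b} ha hb := by
    change (a * b) ^ q = a * b
    rw [mul_pow, show a ^ q = a from ha, show b ^ q = b from hb]
  one_mem' := one_pow q
  add_mem' {a b} ha hb := by
    change (a + b) ^ q = a + b
    rw [add_pow_q hF, show a ^ q = a from ha, show b ^ q = b from hb]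
  zero_mem' := zero_pow_q hF
  neg_mem' {a} ha := by
    change (-a) ^ q = -a
    rw [neg_pow_q hF, show a ^ q = a from ha]
  inv_mem' a ha := by
    change (a⁻¹) ^ q = a⁻¹
    rw [inv_pow, show a ^ q = a from ha]

theorem mem_Kf (hF : Fintype.card F = q ^ 2) {x : F} : x ∈ Kf hF ↔ x ^ q = x := Iff.rfl

/-! ### The key relation -/

theorem act_TTT (hF : Fintype.card F = q ^ 2) {u v : Fin n → F} (hu : hermForm n F q u u = 0)
    (hv : hermForm n F q v v = 0) (a b : F) :
    LieClassical.HermSiegel.act (T hF (a • u) * T hF (b • v) * T hF (a • u)) u =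
      (1 + c0 hF ^ 2 * (a * a ^ q) * (b * b ^ q) *
        (hermForm n F q u v * hermForm n F q v u)) • u +
      (c0 hF * (b * b ^ q) * hermForm n F q u v) • v := by
  rw [act_mul, act_mul, act_T_smul hF hu a u, hu, mul_zero, zero_smul, add_zero,
    act_T_smul hF hv b u, act_T_smul hF hu, herm_add_left, herm_smul_left, hu]
  ext i
  simp only [Pi.add_apply, Pi.smul_apply, smul_eq_mul]
  ring

theorem Rel.key (hn : 3 ≤ n) {u u' v v' : Fin n → F} (h1 : Rel hF α u u') (h2 : Rel hF α v v')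
    (hne : hermForm n F q u v ≠ 0) {a b a' b' : F}
    (ha : α (tau hF (a • u)) = tau hF (a' • u')) (hb : α (tau hF (b • v)) = tau hF (b' • v'))
    (h : 1 + c0 hF ^ 2 * (a * a ^ q) * (b * b ^ q) *
        (hermForm n F q u v * hermForm n F q v u) = 0) :
    1 + c0 hF ^ 2 * (a' * a' ^ q) * (b' * b' ^ q) *
        (hermForm n F q u' v' * hermForm n F q v' u') = 0 := by
  have hb0 : b ≠ 0 := by
    rintro rfl
    simp at h
  have hne' : hermForm n F q u' v' ≠ 0 := fun h0 => hne ((h1.orth hn h2).2 h0)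
  have h3 : pr n F q (T hF (a' • u') * T hF (b' • v') * T hF (a' • u')) =
      α (pr n F q (T hF (a • u) * T hF (b • v) * T hF (a • u))) := by
    simp only [map_mul, ← tau_def, ha, hb]
  have h4 := h1.act h3
  rw [act_TTT hF h1.iso h2.iso, act_TTT hF h1.iso' h2.iso', h, zero_smul, zero_add] at h4
  set κ : F := c0 hF * (b * b ^ q) * hermForm n F q u v with hκ
  have hκ0 : κ ≠ 0 := mul_ne_zero (mul_ne_zero (c0_ne_zero hF)
    (fun h0 => hb0 ((norm_eq_zero hF).1 h0))) hne
  obtain ⟨κ', hκ'⟩ := h2.exists_smul hn κ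
  have h5 := h2.smul_of_eq hn hκ0 hκ'
  obtain ⟨ζ, hζ, h6⟩ := h5.unique hn h4
  by_contra hcon
  apply hne'
  set C := 1 + c0 hF ^ 2 * (a' * a' ^ q) * (b' * b' ^ q) *
        (hermForm n F q u' v' * hermForm n F q v' u') with hC
  have h7 : C • u' = (ζ * κ' - c0 hF * (b' * b' ^ q) * hermForm n F q u' v') • v' := by
    rw [sub_smul, mul_smul, ← h6, add_sub_cancel_right]
  have h8 : C * hermForm n F q u' v' = 0 := by
    rw [← herm_smul_left, h7, herm_smul_left, h2.iso', mul_zero]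
  rcases mul_eq_zero.1 h8 with h9 | h9
  · exact absurd h9 hcon
  · exact h9

end

end Cfsg.Agent.ClassicalGeometry.UnitAutRel

end

-- merged: Cfsg.Agent.HoltZ.Alt
section

/-!
# Holt pairs in alternating groups of even degree (helper5, S1729)

`rowF : Even (card α) → 8 ≤ card α → RowF (alternatingGroup α)`; `row : Even n → 6 ≤ n → Row (alternatingGroup (Fin n))`.

If `UF M z` and `(a b)`, `(x y)`, `(u v)` are three transpositions of `z` then `(a b)(u v)` commutes with `z` and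
`g = (b x)(u v)` moves `z` to a commuting conjugate, so both are in `M` and `M` contains the three-cycle `(a b)(a x)`.
-/

set_option autoImplicit false

namespace Cfsg.Agent.HoltZ.Alt

open Equiv Equiv.Perm Subgroup Cfsg Cfsg.Agent.HoltZ

variable {α : Type*} [Fintype α] [DecidableEq α]

/-- `x` is even and lies in `M` -/
def K (M : Subgroup (alternatingGroup α)) (x : Perm α) : Prop :=
  ∃ h : x ∈ alternatingGroup α, (⟨x, h⟩ : alternatingGroup α) ∈ M

section basic

variable {M : Subgroup (alternatingGroup α)}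

theorem K.mul {x y : Perm α} (hx : K M x) (hy : K M y) : K M (x * y) := by
  obtain ⟨h1, h2⟩ := hx
  obtain ⟨h3, h4⟩ := hy
  exact ⟨mul_mem h1 h3, M.mul_mem h2 h4⟩

theorem K.inv {x : Perm α} (hx : K M x) : K M x⁻¹ := by
  obtain ⟨h1, h2⟩ := hx
  exact ⟨inv_mem h1, M.inv_mem h2⟩

theorem K.one : K M 1 := ⟨one_mem _, M.one_mem⟩

/-- the three-cycle on `p`, `q`, `r` is in `M` -/
def T (M : Subgroup (alternatingGroup α)) (p q r : α) : Prop := K M (swap p q * swap p r)

theorem T.map {p q r : α} (h : T M p q r) {g : Perm α} (hg : K M g) : T M (g p) (g q) (g r) := by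
  have h1 := (hg.mul h).mul hg.inv
  have e : g * (swap p q * swap p r) * g⁻¹ = swap (g p) (g q) * swap (g p) (g r) := by
    rw [swap_apply_apply, swap_apply_apply]
    group
  rwa [e] at h1

theorem T.flip {p q r : α} (h : T M p q r) : T M p r q := by
  have h1 := h.inv
  rwa [mul_inv_rev, swap_inv, swap_inv] at h1

/-- move the third point of a three-cycle along another one -/
theorem T.move {p q w x y : α} (h : T M p q w) (h' : T M x y w) (hpx : p ≠ x) (hpy : p ≠ y) (hpw : p ≠ w)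
    (hqx : q ≠ x) (hqy : q ≠ y) (hqw : q ≠ w) (hwx : w ≠ x) (hwy : w ≠ y) : T M p q x := by
  have h1 : K M (swap x w * swap x y) := h'.flip
  have h2 := h.map h1
  have e1 : (swap x w * swap x y) p = p := by
    rw [Perm.mul_apply, swap_apply_of_ne_of_ne hpx hpy, swap_apply_of_ne_of_ne hpx hpw]
  have e2 : (swap x w * swap x y) q = q := by
    rw [Perm.mul_apply, swap_apply_of_ne_of_ne hqx hqy, swap_apply_of_ne_of_ne hqx hqw]
  have e3 : (swap x w * swap x y) w = x := by
    rw [Perm.mul_apply, swap_apply_of_ne_of_ne hwx hwy, swap_apply_right]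
  rwa [e1, e2, e3] at h2

/-- all the three-cycles on two fixed points generate the alternating group -/
theorem eq_top_of_star {a b : α} (hab : a ≠ b) (h : ∀ x, x ≠ a → x ≠ b → T M a b x) : M = ⊤ := by
  have hst : ∀ x y, x ≠ a → y ≠ a → K M (swap a x * swap a y) := by
    have h1 : ∀ y, y ≠ a → K M (swap a b * swap a y) := by
      intro y hy
      by_cases hyb : y = b
      · rw [hyb, swap_mul_self]; exact K.one
      · exact h y hy hyb
    intro x y hx hy
    have h2 := (h1 x hx).inv.mul (h1 y hy)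
    rwa [mul_inv_rev, swap_inv, swap_inv, mul_assoc, ← mul_assoc (swap a b) (swap a b), swap_mul_self, one_mul] at h2
  have hsw : ∀ x y, x ≠ y → K M (swap a b * swap x y) := by
    intro x y hxy
    by_cases hx : x = a
    · subst hx
      exact hst b y (Ne.symm hab) (Ne.symm hxy)
    · by_cases hy : y = a
      · subst hy
        rw [swap_comm x y]
        exact hst b x (Ne.symm hab) hx
      · have e : swap x y = swap a x * swap a y * swap a x := by
          have h2 : swap a x * swap a y * (swap a x)⁻¹ = swap x y := by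
            rw [← swap_apply_apply, swap_apply_left, swap_apply_of_ne_of_ne hy (Ne.symm hxy)]
          rw [← h2, swap_inv]
        rw [e, ← mul_assoc, ← mul_assoc, mul_assoc (swap a b * swap a x)]
        exact (hst b x (Ne.symm hab) hx).mul (hst y x hy hx)
  have key : ∀ σ : Perm α, (sign σ = 1 → K M σ) ∧ (sign σ = -1 → K M (swap a b * σ)) := by
    intro σ
    induction σ using Equiv.Perm.swap_induction_on with
    | one => exact ⟨fun _ => K.one, fun h => absurd h (by rw [Perm.sign_one]; decide)⟩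
    | swap_mul f x y hxy ih =>
      have hs : sign (swap x y * f) = - sign f := by
        rw [Perm.sign_mul, sign_swap hxy, neg_one_mul]
      constructor
      · intro h1
        rw [hs] at h1
        have h2 : sign f = -1 := by rw [← h1, neg_neg]
        have h3 := (hsw x y hxy).inv.mul (ih.2 h2)
        rwa [mul_inv_rev, swap_inv, swap_inv, mul_assoc, ← mul_assoc (swap a b) (swap a b), swap_mul_self,
          one_mul] at h3
      · intro h1
        rw [hs, neg_inj] at h1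
        have h3 := (hsw x y hxy).mul (ih.1 h1)
        rwa [mul_assoc] at h3
  rw [eq_top_iff]
  rintro ⟨σ, hσ⟩ -
  obtain ⟨h1, h2⟩ := (key σ).1 (mem_alternatingGroup.1 hσ)
  exact h2

end basic

omit [Fintype α] in
theorem dt_sq {a b c d : α} (h : [a, b, c, d].Nodup) : (swap a b * swap c d) * (swap a b * swap c d) = 1 := by
  have hc : swap a b * swap c d = swap c d * swap a b := (disjoint_swap_swap h).commute
  rw [show (swap a b * swap c d) * (swap a b * swap c d) = swap a b * (swap c d * swap a b) * swap c d by group,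
    ← hc, ← mul_assoc, swap_mul_self, one_mul, swap_mul_self]

section holt

variable {M : Subgroup (alternatingGroup α)} {z : alternatingGroup α}

theorem K.of_comm (h : UF M z) {g : Perm α} (hg : sign g = 1) (hc : g * z = z * g) : K M g :=
  ⟨mem_alternatingGroup.2 hg, h.comm (y := ⟨g, mem_alternatingGroup.2 hg⟩) (Subtype.ext hc)⟩

/-- `g` moves `z` to a commuting conjugate -/
theorem K.of_exch (h : UF M z) (hz : z * z = 1) {g : Perm α} (hg : sign g = 1)
    (hc : ((z : Perm α) * g * (z : Perm α)⁻¹ * g⁻¹) * ((z : Perm α) * g * (z : Perm α)⁻¹ * g⁻¹) = 1) : K M g := by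
  have hg' : g ∈ alternatingGroup α := mem_alternatingGroup.2 hg
  refine ⟨hg', h.exch (σ := ⟨g, hg'⟩) (Subtype.ext ?_)⟩
  change g * (z : Perm α) * g⁻¹ * z = z * (g * z * g⁻¹)
  have hz1 : (z : Perm α) * z = 1 := congrArg Subtype.val hz
  have hzi : (z : Perm α)⁻¹ = z := inv_eq_of_mul_eq_one_right hz1
  have h1 : (z : Perm α) * (g * z * g⁻¹) = (z * (g * z * g⁻¹))⁻¹ := by
    rw [eq_inv_iff_mul_eq_one]
    have e : (z : Perm α) * (g * z * g⁻¹) = z * g * (z : Perm α)⁻¹ * g⁻¹ := by rw [hzi]; group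
    rw [e]
    exact hc
  rw [h1]
  simp only [mul_inv_rev, hzi, inv_inv, mul_assoc]

omit [Fintype α] in
theorem conj_swap (σ : Perm α) (p q : α) : σ * swap p q * σ⁻¹ = swap (σ p) (σ q) := (swap_apply_apply σ p q).symm

variable (h : UF M z) (hz : z * z = 1)

include h hz

/-- three transpositions of `z` -/
theorem T.of_three {a x u : α} (ha : (z : Perm α) a ≠ a) (hx : (z : Perm α) x ≠ x) (hu : (z : Perm α) u ≠ u)
    (hxa : x ≠ a) (hxb : x ≠ (z : Perm α) a) (hua : u ≠ a) (hub : u ≠ (z : Perm α) a) (hux : u ≠ x)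
    (huy : u ≠ (z : Perm α) x) : T M a ((z : Perm α) a) x := by
  set σ : Perm α := (z : Perm α) with hσ
  have hz1 : σ * σ = 1 := congrArg Subtype.val hz
  have hzz : ∀ p, σ (σ p) = p := fun p => congrArg (fun f : Perm α => f p) hz1
  have hbx : σ a ≠ x := Ne.symm hxb
  have hby : σ a ≠ σ x := fun e => hxa (σ.injective e).symm
  have hay : a ≠ σ x := fun e => hxb (by rw [e, hzz])
  have hva : σ u ≠ a := fun e => hub (by rw [← e, hzz])
  have hvb : σ u ≠ σ a := fun e => hua (σ.injective e)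
  have hvx : σ u ≠ x := fun e => huy (by rw [← e, hzz])
  have hvy : σ u ≠ σ x := fun e => hux (σ.injective e)
  have hnd : [a, σ x, σ a, x].Nodup := by
    simp only [List.nodup_cons, List.mem_cons, List.not_mem_nil, or_false, not_or, List.nodup_nil, and_true,
      not_false_eq_true]
    exact ⟨⟨hay, Ne.symm ha, Ne.symm hxa⟩, ⟨Ne.symm hby, hx⟩, hbx⟩
  -- `c = (a b)(u v)`
  have hc : K M (swap a (σ a) * swap u (σ u)) := by
    refine K.of_comm h ?_ ?_
    · rw [Perm.sign_mul, sign_swap (Ne.symm ha), sign_swap (Ne.symm hu)]; decide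
    · rw [← hσ, eq_comm, ← mul_inv_eq_iff_eq_mul]
      rw [show σ * (swap a (σ a) * swap u (σ u)) * σ⁻¹ = (σ * swap a (σ a) * σ⁻¹) * (σ * swap u (σ u) * σ⁻¹) by group,
        conj_swap, conj_swap, hzz, hzz, swap_comm (σ a) a, swap_comm (σ u) u]
  -- `g = (b x)(u v)`
  have hg : K M (swap (σ a) x * swap u (σ u)) := by
    refine K.of_exch h hz ?_ ?_
    · rw [Perm.sign_mul, sign_swap hbx, sign_swap (Ne.symm hu)]; decide
    · have e : σ * (swap (σ a) x * swap u (σ u)) * σ⁻¹ * (swap (σ a) x * swap u (σ u))⁻¹ =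
          swap a (σ x) * swap (σ a) x := by
        rw [show σ * (swap (σ a) x * swap u (σ u)) * σ⁻¹ = (σ * swap (σ a) x * σ⁻¹) * (σ * swap u (σ u) * σ⁻¹) by
          group, conj_swap, conj_swap, hzz, hzz, swap_comm (σ u) u, mul_inv_rev, swap_inv, swap_inv]
        rw [show swap a (σ x) * swap u (σ u) * (swap u (σ u) * swap (σ a) x) =
          swap a (σ x) * (swap u (σ u) * swap u (σ u)) * swap (σ a) x by group, swap_mul_self, mul_one]
      rw [← hσ, e]
      exact dt_sq hnd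
  have h1 := hc.mul ((hg.mul hc).mul hg.inv)
  have e1 : (swap (σ a) x * swap u (σ u)) * (swap a (σ a) * swap u (σ u)) * (swap (σ a) x * swap u (σ u))⁻¹ =
      swap a x * swap u (σ u) := by
    have g1 : (swap (σ a) x * swap u (σ u)) a = a := by
      rw [Perm.mul_apply, swap_apply_of_ne_of_ne (Ne.symm hua) (Ne.symm hva),
        swap_apply_of_ne_of_ne (Ne.symm ha) (Ne.symm hxa)]
    have g2 : (swap (σ a) x * swap u (σ u)) (σ a) = x := by
      rw [Perm.mul_apply, swap_apply_of_ne_of_ne (Ne.symm hub) (Ne.symm hvb), swap_apply_left]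
    have g3 : (swap (σ a) x * swap u (σ u)) u = σ u := by
      rw [Perm.mul_apply, swap_apply_left, swap_apply_of_ne_of_ne hvb hvx]
    have g4 : (swap (σ a) x * swap u (σ u)) (σ u) = u := by
      rw [Perm.mul_apply, swap_apply_right, swap_apply_of_ne_of_ne hub hux]
    rw [show (swap (σ a) x * swap u (σ u)) * (swap a (σ a) * swap u (σ u)) * (swap (σ a) x * swap u (σ u))⁻¹ =
      ((swap (σ a) x * swap u (σ u)) * swap a (σ a) * (swap (σ a) x * swap u (σ u))⁻¹) *
      ((swap (σ a) x * swap u (σ u)) * swap u (σ u) * (swap (σ a) x * swap u (σ u))⁻¹) by group,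
      conj_swap, conj_swap, g1, g2, g3, g4, swap_comm (σ u) u]
  rw [e1] at h1
  have hcomm : swap a x * swap u (σ u) = swap u (σ u) * swap a x := by
    refine (disjoint_swap_swap ?_).commute
    simp only [List.nodup_cons, List.mem_cons, List.not_mem_nil, or_false, not_or, List.nodup_nil, and_true,
      not_false_eq_true]
    exact ⟨⟨Ne.symm hxa, Ne.symm hua, Ne.symm hva⟩, ⟨Ne.symm hux, Ne.symm hvx⟩, Ne.symm hu⟩
  have e2 : swap a (σ a) * swap u (σ u) * (swap a x * swap u (σ u)) = swap a (σ a) * swap a x := by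
    rw [hcomm, ← mul_assoc, mul_assoc (swap a (σ a)), swap_mul_self, mul_one]
  rw [e2] at h1
  exact h1

/-- a transposition of `z` moved to two fixed points -/
theorem K.of_fixed {a x y : α} (ha : (z : Perm α) a ≠ a) (hx : (z : Perm α) x = x) (hy : (z : Perm α) y = y)
    (hxy : x ≠ y) : K M (swap a x * swap ((z : Perm α) a) y) := by
  set σ : Perm α := (z : Perm α) with hσ
  have hz1 : σ * σ = 1 := congrArg Subtype.val hz
  have hzz : ∀ p, σ (σ p) = p := fun p => congrArg (fun f : Perm α => f p) hz1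
  have hax : a ≠ x := fun e => ha (by rw [e, hx])
  have hay : a ≠ y := fun e => ha (by rw [e, hy])
  have hbx : σ a ≠ x := fun e => hax (σ.injective (by rw [e, hx]))
  have hby : σ a ≠ y := fun e => hay (σ.injective (by rw [e, hy]))
  refine K.of_exch h hz ?_ ?_
  · rw [Perm.sign_mul, sign_swap hax, sign_swap hby]; decide
  · set u := swap a x * swap (σ a) y with hu
    have g1 : u a = x := by
      rw [hu, Perm.mul_apply, swap_apply_of_ne_of_ne (Ne.symm ha) hay, swap_apply_left]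
    have g2 : u (σ a) = y := by
      rw [hu, Perm.mul_apply, swap_apply_left, swap_apply_of_ne_of_ne (Ne.symm hay) (Ne.symm hxy)]
    have e1 : σ * u * σ⁻¹ = swap a (σ a) * u * (swap a (σ a))⁻¹ := by
      rw [hu, show σ * (swap a x * swap (σ a) y) * σ⁻¹ = (σ * swap a x * σ⁻¹) * (σ * swap (σ a) y * σ⁻¹) by group,
        show swap a (σ a) * (swap a x * swap (σ a) y) * (swap a (σ a))⁻¹ = (swap a (σ a) * swap a x * (swap a (σ a))⁻¹) *
        (swap a (σ a) * swap (σ a) y * (swap a (σ a))⁻¹) by group, conj_swap, conj_swap, conj_swap, conj_swap, hzz,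
        hx, hy, swap_apply_left, swap_apply_right, swap_apply_of_ne_of_ne (Ne.symm hax) (Ne.symm hbx),
        swap_apply_of_ne_of_ne (Ne.symm hay) (Ne.symm hby)]
    have e2 : σ * u * σ⁻¹ * u⁻¹ = swap a (σ a) * swap x y := by
      rw [e1, swap_inv, show swap a (σ a) * u * swap a (σ a) * u⁻¹ = swap a (σ a) * (u * swap a (σ a) * u⁻¹) by group,
        conj_swap, g1, g2]
    rw [← hσ, e2]
    refine dt_sq ?_
    simp only [List.nodup_cons, List.mem_cons, List.not_mem_nil, or_false, not_or, List.nodup_nil, and_true,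
      not_false_eq_true]
    exact ⟨⟨Ne.symm ha, hax, hay⟩, ⟨hbx, hby⟩, hxy⟩

/-- three fixed points -/
theorem T.of_fixed {a w x y : α} (ha : (z : Perm α) a ≠ a) (hw : (z : Perm α) w = w) (hx : (z : Perm α) x = x)
    (hy : (z : Perm α) y = y) (hxy : x ≠ y) (hwx : w ≠ x) (hwy : w ≠ y) : T M a ((z : Perm α) a) w := by
  have hg := K.of_fixed h hz ha hx hy hxy
  set σ : Perm α := (z : Perm α) with hσ
  have hax : a ≠ x := fun e => ha (by rw [e, hx])
  have hay : a ≠ y := fun e => ha (by rw [e, hy])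
  have haw : a ≠ w := fun e => ha (by rw [e, hw])
  have hbx : σ a ≠ x := fun e => hax (σ.injective (by rw [e, hx]))
  have hby : σ a ≠ y := fun e => hay (σ.injective (by rw [e, hy]))
  have hbw : σ a ≠ w := fun e => haw (σ.injective (by rw [e, hw]))
  have h1 : T M x y w := by
    refine K.of_comm h ?_ ?_
    · rw [Perm.sign_mul, sign_swap hxy, sign_swap (Ne.symm hwx)]; decide
    · rw [← hσ, eq_comm, ← mul_inv_eq_iff_eq_mul,
        show σ * (swap x y * swap x w) * σ⁻¹ = (σ * swap x y * σ⁻¹) * (σ * swap x w * σ⁻¹) by group,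
        conj_swap, conj_swap, hx, hy, hw]
  have h2 := h1.map hg
  have g1 : (swap a x * swap (σ a) y) x = a := by
    rw [Perm.mul_apply, swap_apply_of_ne_of_ne (Ne.symm hbx) hxy, swap_apply_right]
  have g2 : (swap a x * swap (σ a) y) y = σ a := by
    rw [Perm.mul_apply, swap_apply_right, swap_apply_of_ne_of_ne ha hbx]
  have g3 : (swap a x * swap (σ a) y) w = w := by
    rw [Perm.mul_apply, swap_apply_of_ne_of_ne (Ne.symm hbw) hwy, swap_apply_of_ne_of_ne (Ne.symm haw) hwx]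
  rwa [g1, g2, g3] at h2

/-- **no Holt pair** -/
theorem false_of_even (hz1 : z ≠ 1) (he : Even (Fintype.card α)) (h8 : 8 ≤ Fintype.card α) : False := by
  set! σ : Perm α := (z : Perm α) with hσ
  have hzz1 : σ * σ = 1 := congrArg Subtype.val hz
  have hzz : ∀ p, σ (σ p) = p := fun p => congrArg (fun f : Perm α => f p) hzz1
  have hσ1 : σ ≠ 1 := fun e => hz1 (Subtype.ext e)
  have hsg : sign σ = 1 := mem_alternatingGroup.1 z.2
  have hev : Even (σ.supportᶜ.card) := by
    have hp : Fact (Nat.Prime 2) := ⟨Nat.prime_two⟩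
    have h1 : σ.supportᶜ.card ≡ Fintype.card α [MOD 2] :=
      Equiv.Perm.card_compl_support_modEq (p := 2) (n := 1) (by rw [pow_one, pow_two, hzz1])
    rw [Nat.even_iff] at he ⊢
    rw [← he]
    exact h1
  have hsum : σ.support.card + σ.supportᶜ.card = Fintype.card α := Finset.card_add_card_compl _
  obtain ⟨a, ha⟩ : ∃ a, σ a ≠ a := by
    by_contra hcon
    push Not at hcon
    exact hσ1 (Perm.ext hcon)
  apply h.ne
  refine eq_top_of_star (a := a) (b := σ a) (Ne.symm ha) ?_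
  -- a second transposition
  obtain ⟨u, hu, hua, hub⟩ : ∃ u, σ u ≠ u ∧ u ≠ a ∧ u ≠ σ a := by
    by_contra hcon
    push Not at hcon
    have h2 : σ = swap a (σ a) := by
      ext y
      by_cases hy : y = a
      · rw [hy, swap_apply_left]
      · by_cases hy' : y = σ a
        · rw [hy', swap_apply_right, hzz]
        · rw [swap_apply_of_ne_of_ne hy hy']
          by_contra hne
          exact hy' (hcon y hne hy)
    rw [h2, sign_swap (Ne.symm ha)] at hsg
    exact absurd hsg (by decide)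
  by_cases hcard : 4 < σ.support.card
  · have third : ∀ x, ∃ w, σ w ≠ w ∧ w ≠ a ∧ w ≠ σ a ∧ w ≠ x ∧ w ≠ σ x := by
      intro x
      have h1 : ({a, σ a, x, σ x} : Finset α).card < σ.support.card := lt_of_le_of_lt Finset.card_le_four hcard
      obtain ⟨w, hw, hw'⟩ := Finset.exists_mem_notMem_of_card_lt_card h1
      simp only [Finset.mem_insert, Finset.mem_singleton, not_or] at hw'
      exact ⟨w, mem_support.1 hw, hw'.1, hw'.2.1, hw'.2.2.1, hw'.2.2.2⟩
    have hmoved : ∀ x, σ x ≠ x → x ≠ a → x ≠ σ a → T M a (σ a) x := by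
      intro x hx hxa hxb
      obtain ⟨w, hw, h1, h2, h3, h4⟩ := third x
      exact T.of_three h hz ha hx hw hxa hxb h1 h2 h3 h4
    intro x hxa hxb
    by_cases hx : σ x = x
    · -- a second fixed point
      have hxm : x ∈ σ.supportᶜ := by
        rw [Finset.mem_compl, mem_support, not_not]; exact hx
      have h1 : 1 < σ.supportᶜ.card := by
        have h2 : 0 < σ.supportᶜ.card := Finset.card_pos.2 ⟨x, hxm⟩
        rcases hev with ⟨m, hm⟩
        omega
      obtain ⟨y, hy, hyx⟩ := Finset.exists_mem_ne h1 x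
      have hy' : σ y = y := by
        rw [Finset.mem_compl, mem_support, not_not] at hy; exact hy
      have hg := K.of_fixed h hz ha hx hy' (Ne.symm hyx)
      have h2 := hmoved u hu hua hub
      have h3 := h2.map hg
      have hux : u ≠ x := fun e => hu (by rw [e, hx])
      have huy : u ≠ y := fun e => hu (by rw [e, hy'])
      have hya : y ≠ a := fun e => ha (by rw [← e, hy'])
      have hyb : y ≠ σ a := fun e => hya (σ.injective (by rw [hy', e]))
      have g1 : (swap a x * swap (σ a) y) a = x := by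
        rw [Perm.mul_apply, swap_apply_of_ne_of_ne (Ne.symm ha) (Ne.symm hya), swap_apply_left]
      have g2 : (swap a x * swap (σ a) y) (σ a) = y := by
        rw [Perm.mul_apply, swap_apply_left, swap_apply_of_ne_of_ne hya hyx]
      have g3 : (swap a x * swap (σ a) y) u = u := by
        rw [Perm.mul_apply, swap_apply_of_ne_of_ne hub huy, swap_apply_of_ne_of_ne hua hux]
      rw [← hσ, g1, g2, g3] at h3
      exact h2.move h3 (Ne.symm hxa) (Ne.symm hya) (Ne.symm hua) (Ne.symm hxb) (Ne.symm hyb) (Ne.symm hub) hux huy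
    · exact hmoved x hx hxa hxb
  · -- at least four fixed points
    have hf : 4 ≤ σ.supportᶜ.card := by omega
    have hfix : ∀ e w, σ e ≠ e → σ w = w → T M e (σ e) w := by
      intro e w he hw
      have h1 : 1 < (σ.supportᶜ.erase w).card := by
        have := Finset.pred_card_le_card_erase (s := σ.supportᶜ) (a := w)
        omega
      obtain ⟨x, hx, y, hy, hxy⟩ := Finset.one_lt_card.1 h1
      rw [Finset.mem_erase, Finset.mem_compl, mem_support, not_not] at hx hy
      exact T.of_fixed h hz he hw hx.2 hy.2 hxy (Ne.symm hx.1) (Ne.symm hy.1)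
    intro x hxa hxb
    by_cases hx : σ x = x
    · exact hfix a x ha hx
    · obtain ⟨w, hw⟩ : ∃ w, w ∈ σ.supportᶜ := Finset.card_pos.1 (by omega)
      have hw' : σ w = w := by
        rw [Finset.mem_compl, mem_support, not_not] at hw; exact hw
      have h1 := hfix a w ha hw'
      have h2 := hfix x w hx hw'
      have hwx : w ≠ x := fun e => hx (by rw [← e, hw'])
      have hwy : w ≠ σ x := fun e => hwx (σ.injective (by rw [hw', e]))
      have haw : a ≠ w := fun e => ha (by rw [e, hw'])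
      have hbw : σ a ≠ w := fun e => haw (σ.injective (by rw [e, hw']))
      have hay : a ≠ σ x := fun e => hxb (by rw [e, hzz])
      exact h1.move h2 (Ne.symm hxa) hay haw (Ne.symm hxb) (fun e => hxa (σ.injective e).symm) hbw hwx hwy

end holt

/-- **No Holt pair in alternating groups of even degree at least 8.** -/
theorem rowF (he : Even (Fintype.card α)) (h8 : 8 ≤ Fintype.card α) : RowF (alternatingGroup α) := by
  intro M z hz hU
  have h1 := pow_orderOf_eq_one z
  rw [hz.1, pow_two] at h1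
  refine false_of_even hU h1 ?_ he h8
  rintro rfl
  have := hz.1
  rw [orderOf_one] at this
  omega

/-- **Degree 6: one class of involutions.** -/
theorem row_six (h6 : Fintype.card α = 6) : Row (alternatingGroup α) := by
  -- even involutions have exactly two transpositions
  have hct : ∀ t : alternatingGroup α, orderOf t = 2 → (t : Perm α).cycleType = Multiset.replicate 2 2 := by
    intro t ht
    have hσo : orderOf (t : Perm α) = 2 := by rw [Subgroup.orderOf_coe, ht]
    obtain ⟨n, hn⟩ := cycleType_prime_order (σ := (t : Perm α)) (by rw [hσo]; exact Nat.prime_two)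
    rw [hσo] at hn
    have hsg : sign (t : Perm α) = 1 := mem_alternatingGroup.1 t.2
    have hle : (t : Perm α).cycleType.sum ≤ 6 := by
      rw [sum_cycleType, ← h6]
      exact Finset.card_le_univ _
    rw [hn, Multiset.sum_replicate, smul_eq_mul] at hle
    rw [sign_of_cycleType, hn] at hsg
    have h3 : n = 0 ∨ n = 1 ∨ n = 2 := by omega
    rcases h3 with rfl | rfl | rfl
    · exact absurd hsg (by decide)
    · rw [hn]
    · exact absurd hsg (by decide)
  refine row_of_class fun s t hs ht => ?_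
  have h1 : IsConj (s : Perm α) (t : Perm α) := by
    rw [isConj_iff_cycleType_eq, hct s hs, hct t ht]
  obtain ⟨g, hg⟩ := isConj_iff.1 h1
  -- an odd element commuting with `s`
  obtain ⟨a, ha⟩ : ∃ a, (s : Perm α) a ≠ a := by
    by_contra hcon
    push Not at hcon
    have : s = 1 := Subtype.ext (Perm.ext hcon)
    rw [this, orderOf_one] at hs
    omega
  have hss : (s : Perm α) * s = 1 := by
    have := pow_orderOf_eq_one s
    rw [hs, pow_two] at this
    exact congrArg Subtype.val this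
  have hc : swap a ((s : Perm α) a) * s * (swap a ((s : Perm α) a))⁻¹ = s := by
    have h2 : (s : Perm α) * swap a ((s : Perm α) a) * (s : Perm α)⁻¹ = swap a ((s : Perm α) a) := by
      rw [conj_swap, show (s : Perm α) ((s : Perm α) a) = a from congrArg (fun f : Perm α => f a) hss, swap_comm]
    rw [mul_inv_eq_iff_eq_mul] at h2 ⊢
    exact h2.symm
  rcases Int.units_eq_one_or (sign g) with h2 | h2
  · exact ⟨⟨g, mem_alternatingGroup.2 h2⟩, Subtype.ext hg.symm⟩
  · refine ⟨⟨g * swap a ((s : Perm α) a), mem_alternatingGroup.2 ?_⟩, Subtype.ext ?_⟩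
    · rw [Perm.sign_mul, h2, sign_swap (Ne.symm ha)]; decide
    · change (t : Perm α) = g * swap a ((s : Perm α) a) * s * (g * swap a ((s : Perm α) a))⁻¹
      rw [show g * swap a ((s : Perm α) a) * (s : Perm α) * (g * swap a ((s : Perm α) a))⁻¹ =
        g * (swap a ((s : Perm α) a) * s * (swap a ((s : Perm α) a))⁻¹) * g⁻¹ by group, hc, hg]

/-- **Holt's theorem for alternating groups of even degree.** -/
theorem row {n : ℕ} (he : Even n) (h6 : 6 ≤ n) : Row (alternatingGroup (Fin n)) := by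
  rcases Nat.lt_or_ge n 8 with h | h
  · have : n = 6 := by
      rcases he with ⟨m, hm⟩
      omega
    exact row_six (by rw [Fintype.card_fin, this])
  · exact (rowF (by rw [Fintype.card_fin]; exact he) (by rw [Fintype.card_fin]; exact h)).row

end Cfsg.Agent.HoltZ.Alt

end

-- merged: Cfsg.Agent.HoltZ.CentMTwelve
section

/-!
# No Holt pair in `M₁₂` (helper5)

The centre of the Sylow 2-subgroup `T` of the model is `⟨z⟩`, so all 2-central involutions are conjugate.
-/

set_option autoImplicit false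

namespace Cfsg.Agent.HoltZ.CentMTwelve

open Subgroup Cfsg Cfsg.Agent.GH.Pc Cfsg.Agent.GH.Models.Proj Cfsg.Agent.CoThreeStd.M12 Cfsg.Agent.QTUnique.MTwelve
  Cfsg.Agent.HoltZ.TwoGen

/-- the word of a normal form -/
def W (e : Fin 6 → Bool) : List (Fin 6) := ((List.finRange 6).filter fun i => e i).flatMap xw

def cen (e : Fin 6 → Bool) : Bool :=
  Nat.beq (wt (W e)) oneT || (Nat.beq (wt (W e)) (wt (xw 5)) ||
    !((List.finRange 6).all fun i => Nat.beq (wt (W e ++ xw i)) (wt (xw i ++ W e))))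

private theorem wt_append (a b : List (Fin 6)) : wt (a ++ b) = mulT (wt a) (wt b) :=
  ((el_rep (a ++ b)).eq_iff ((el_rep a).mul (el_rep b))).1 (by rw [el_append, Subgroup.coe_mul])

private theorem wt_flat (l : List (Fin 6)) :
    wt (l.flatMap xw) = l.foldr (fun i t => mulT (wt (xw i)) t) oneT := by
  induction l with
  | nil =>
    rw [List.flatMap_nil, List.foldr_nil]
    delta wt
    exact List.foldr_nil
  | cons i l ih => rw [List.flatMap_cons, wt_append, ih, List.foldr_cons]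

private def cen2 (t : ℕ) : Bool :=
  Nat.beq t oneT || (Nat.beq t (wt (xw 5)) ||
    !((List.finRange 6).all fun i => Nat.beq (mulT t (wt (xw i))) (mulT (wt (xw i)) t)))

theorem cen_chk : allB 6 cen = true := by
  have h : cen = fun e => cen2 (((List.finRange 6).filter fun i => e i).foldr (fun i t => mulT (wt (xw i)) t) oneT) := by
    funext e
    unfold cen cen2 W
    simp only [wt_append, wt_flat]
  rw [h]
  decide +kernel

theorem center_T {g : G12} (hg : g ∈ Subgroup.closure (Set.range x))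
    (hc : ∀ t ∈ Subgroup.closure (Set.range x), t * g = g * t) : g = 1 ∨ g = x 5 := by
  obtain ⟨e, rfl⟩ := exists_nf P_ok sat hg
  have hW : nf x e = el (W e) := by unfold nf; rw [word_x]; rfl
  rw [hW] at hc ⊢
  have h1 := allB_spec cen_chk e
  unfold cen at h1
  rw [Bool.or_eq_true, Bool.or_eq_true] at h1
  rcases h1 with h1 | h1 | h1
  · left
    rw [← el_nil]
    exact el_eq (Nat.eq_of_beq_eq_true h1)
  · right
    exact el_eq (Nat.eq_of_beq_eq_true h1)
  · exfalso
    rw [Bool.not_eq_true', List.all_eq_false] at h1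
    obtain ⟨i, -, hi⟩ := h1
    apply hi
    have h2 := hc (x i) (subset_closure ⟨i, rfl⟩)
    have h3 : el (W e ++ xw i) = el (xw i ++ W e) := by
      rw [el_append, el_append]
      exact h2.symm
    rw [el_eq_iff] at h3
    rw [h3]
    simp

theorem central : Central G12 := by
  obtain ⟨T, hT⟩ := exists_T
  refine central_of_sylow T fun a ha b hb ha2 hb2 hac hbc => ?_
  rw [hT] at ha hb hac hbc
  have ha' : a = x 5 := (center_T ha hac).resolve_left (by rintro rfl; simp at ha2)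
  have hb' : b = x 5 := (center_T hb hbc).resolve_left (by rintro rfl; simp at hb2)
  rw [ha', hb']

theorem rowF : RowF G12 := rowF_of_gen gen_model central

/-- **no Holt pair in `M₁₂`** -/
theorem rowF_mTwelve {G : Type*} [Group G] [Finite G] (h : Spor.IsoM12 G) : RowF G := by
  obtain ⟨e⟩ := h
  exact rowF.congr (e.trans equiv)

end Cfsg.Agent.HoltZ.CentMTwelve

end

-- merged: Cfsg.Agent.HoltZ.Comp
section

/-!
# Holt pairs and components of centralizers of involutions (helper34)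

* `mem_sylow_of_comm` : a `p`-element centralizing a Sylow `p`-subgroup lies in it;
* `le_of_rowF` : `(M, z)` a Holt pair, `x = y c ∈ M` conjugate to `z`, `y ∈ L`, `c` centralizes `L`, `x` centralizes a
  Sylow 2-subgroup of `L`, `L / Z(L)` has no Holt pair: then `L ≤ M`;
* `cent_le_of_comp` : for an involution `u ∈ M`, `L, C` normal in `X = C_G(u)`, `[L, C] = 1`, `C` a 2-group,
  `L / Z(L)` without Holt pair, and every conjugate of `z` central in a Sylow 2-subgroup of `X` in `L C`: then `X ≤ M`.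
-/

set_option autoImplicit false

namespace Cfsg.Agent.HoltZ.Comp

open Cfsg Subgroup Cfsg.Agent.HoltZ Cfsg.Agent.HoltZ.Cent Cfsg.Agent.HoltZ.TwoGen

theorem mem_sylow_of_comm {G : Type*} [Group G] {p : ℕ} [Fact p.Prime] (P : Sylow p G) {y : G}
    (hy : IsPGroup p (zpowers y)) (hc : ∀ t ∈ (P : Subgroup G), t * y = y * t) : y ∈ (P : Subgroup G) := by
  have hn : zpowers y ≤ normalizer ((P : Subgroup G) : Set G) := by
    rw [zpowers_le, mem_normalizer_iff]
    intro t
    constructor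
    · intro ht
      rw [← hc t ht]; simpa using ht
    · intro ht
      have h1 := hc _ ht
      have h2 : t = y * t * y⁻¹ := by
        have h3 : y * t * y⁻¹ * y = y * (y * t * y⁻¹) := h1
        have h4 : y * t = y * (y * t * y⁻¹) := by simpa only [mul_assoc, _root_.mul_right_inj, _root_.inv_mul_cancel, _root_.mul_one] using h3
        exact mul_left_cancel h4
      rw [h2]; exact ht
  have hsup : IsPGroup p (zpowers y ⊔ (P : Subgroup G) : Subgroup G) := IsPGroup.to_sup_of_normal_right' hy P.isPGroup' hn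
  have := P.is_maximal' hsup le_sup_right
  rw [← this]
  exact le_sup_left (a := zpowers y) (mem_zpowers y)

variable {G : Type*} [Group G] [Finite G] {M : Subgroup G} {z : G}

omit [Finite G] in
theorem _root_.Cfsg.Agent.HoltZ.Cent.HP.uf (h : HP M z) {x : G} (hx : IsConj z x) (hxM : x ∈ M) : UF M x :=
  ⟨h.ne, hxM, fun _ hg => h.conj' hx hxM hg⟩

end Cfsg.Agent.HoltZ.Comp

end

-- merged: Cfsg.Agent.HoltZ.EvenAlt
section

/-!
# `A_n`, `n` odd, is of even type only for `n = 9` (`n ≥ 9`) (helper34)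
-/

set_option autoImplicit false

namespace Cfsg.Agent.HoltZ.EvenAlt

open Subgroup Cfsg Equiv Equiv.Perm Cfsg.Agent.NotResT Cfsg.Agent.NotResT.AltSub Cfsg.Agent.NotResT.NotC

universe u

/-- the product of two transpositions on the first four points -/
theorem exists_x {n : ℕ} (hn : 4 ≤ n) : ∃ x : alternatingGroup (Fin n), orderOf x = 2 ∧
    ∀ i : Fin n, (x : Perm (Fin n)) i ≠ i ↔ i.val < 4 := by
  let a : Fin n := ⟨0, by omega⟩
  let b : Fin n := ⟨1, by omega⟩
  let c : Fin n := ⟨2, by omega⟩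
  let d : Fin n := ⟨3, by omega⟩
  have hab : a ≠ b := fun h => absurd (congrArg Fin.val h) (by norm_num)
  have hac : a ≠ c := fun h => absurd (congrArg Fin.val h) (by norm_num)
  have had : a ≠ d := fun h => absurd (congrArg Fin.val h) (by norm_num)
  have hbc : b ≠ c := fun h => absurd (congrArg Fin.val h) (by norm_num)
  have hbd : b ≠ d := fun h => absurd (congrArg Fin.val h) (by norm_num)
  have hcd : c ≠ d := fun h => absurd (congrArg Fin.val h) (by norm_num)
  let y : Perm (Fin n) := swap a b * swap c d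
  have hs : sign y = 1 := by
    rw [map_mul, sign_swap hab, sign_swap hcd]; rfl
  have ya : y a = b := by
    change swap a b (swap c d a) = b
    rw [swap_apply_of_ne_of_ne hac had, swap_apply_left]
  have yb : y b = a := by
    change swap a b (swap c d b) = a
    rw [swap_apply_of_ne_of_ne hbc hbd, swap_apply_right]
  have yc : y c = d := by
    change swap a b (swap c d c) = d
    rw [swap_apply_left, swap_apply_of_ne_of_ne had.symm hbd.symm]
  have yd : y d = c := by
    change swap a b (swap c d d) = c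
    rw [swap_apply_right, swap_apply_of_ne_of_ne hac.symm hbc.symm]
  have yo : ∀ i : Fin n, ¬ i.val < 4 → y i = i := by
    intro i hi
    have h1 : i ≠ a := fun h => hi (by rw [h]; norm_num [a])
    have h2 : i ≠ b := fun h => hi (by rw [h]; norm_num [b])
    have h3 : i ≠ c := fun h => hi (by rw [h]; norm_num [c])
    have h4 : i ≠ d := fun h => hi (by rw [h]; norm_num [d])
    change swap a b (swap c d i) = i
    rw [swap_apply_of_ne_of_ne h3 h4, swap_apply_of_ne_of_ne h1 h2]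
  have hcase : ∀ i : Fin n, i.val < 4 → i = a ∨ i = b ∨ i = c ∨ i = d := by
    intro i hi
    have h5 : i.val = 0 ∨ i.val = 1 ∨ i.val = 2 ∨ i.val = 3 := by omega
    rcases h5 with h | h | h | h
    · exact Or.inl (Fin.ext h)
    · exact Or.inr (Or.inl (Fin.ext h))
    · exact Or.inr (Or.inr (Or.inl (Fin.ext h)))
    · exact Or.inr (Or.inr (Or.inr (Fin.ext h)))
  have hyy : y * y = 1 := by
    ext i
    rw [Perm.mul_apply, Perm.one_apply]
    by_cases hi : i.val < 4
    · rcases hcase i hi with rfl | rfl | rfl | rfl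
      · rw [ya, yb]
      · rw [yb, ya]
      · rw [yc, yd]
      · rw [yd, yc]
    · rw [yo i hi, yo i hi]
  refine ⟨⟨y, mem_alternatingGroup.2 hs⟩, ?_, ?_⟩
  · refine orderOf_eq_prime (by rw [pow_two]; exact Subtype.ext hyy) fun h => hab ?_
    have h1 : y = 1 := congrArg Subtype.val h
    rw [h1, Perm.one_apply] at ya
    exact ya
  · intro i
    change y i ≠ i ↔ i.val < 4
    constructor
    · intro h
      by_contra hi
      exact h (yo i hi)
    · intro hi
      rcases hcase i hi with rfl | rfl | rfl | rfl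
      · rw [ya]; exact hab.symm
      · rw [yb]; exact hab
      · rw [yc]; exact hcd.symm
      · rw [yd]; exact hcd

theorem alt_not_chev (hCT : ChevCharTwo) {n : ℕ} (hn : n = 7 ∨ 9 ≤ n) :
    ¬ IsChevSimple 2 (alternatingGroup (Fin n)) := by
  rcases hn with rfl | h9
  · exact NotC.alt_not_chev hCT (Or.inl rfl)
  intro h
  have h5 : 5 ≤ Nat.card (Fin n) := by rw [Nat.card_fin]; omega
  have hs : IsSimpleGroup (alternatingGroup (Fin n)) := alternatingGroup.isSimpleGroup h5
  have hz : center (alternatingGroup (Fin n)) = ⊥ := alternatingGroup.center_eq_bot (by rw [Nat.card_fin]; omega)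
  have hna : ¬ IsMulCommutative (alternatingGroup (Fin n)) := by
    intro h
    have h1 : center (alternatingGroup (Fin n)) = ⊤ := by
      rw [eq_top_iff]
      intro a _
      exact mem_center_iff.2 fun b => h.is_comm.comm b a
    rw [hz] at h1
    exact bot_ne_top h1
  have hc := hCT _ hna h
  obtain ⟨x, hx, hmx⟩ := exists_x (n := n) (by omega)
  exact ResEven.Base.noComp_of_charTwo hc hx _ (isComponentOf hmx h9)

theorem cube_lt {m : ℕ} (hm : 7 ≤ m) : m * (m ^ 2 - 1) < m.factorial := by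
  induction m, hm using Nat.le_induction with
  | base => decide
  | succ m hm ih =>
    rw [Nat.factorial_succ]
    have h1 : (m + 1) ^ 2 - 1 ≤ m * (m ^ 2 - 1) := by
      have h2 : m + 2 ≤ m ^ 2 - 1 := by
        have : 7 * m ≤ m ^ 2 := by nlinarith only [hm]
        omega
      calc (m + 1) ^ 2 - 1 = m * (m + 2) := by
            have : (m + 1) ^ 2 = m * (m + 2) + 1 := by ring
            rw [this, Nat.add_sub_cancel]
        _ ≤ m * (m ^ 2 - 1) := Nat.mul_le_mul_left _ h2
    exact Nat.mul_lt_mul_of_pos_left (lt_of_le_of_lt h1 ih) (by omega)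

theorem list_ne {m : ℕ} (hm : 7 ≤ m) : ∀ k ∈ CList, 2 * k ≠ m.factorial := by
  by_cases h : m < 60
  · have key : ∀ m < 60, 7 ≤ m → ∀ k ∈ CList, 2 * k ≠ m.factorial := by decide +kernel
    exact key m h hm
  · intro k hk e
    have h1 : ∀ k ∈ CList, 2 * k < (60 : ℕ).factorial := by decide +kernel
    have h2 : (60 : ℕ).factorial ≤ m.factorial := Nat.factorial_le (by omega)
    exact absurd e (Nat.ne_of_lt (lt_of_lt_of_le (h1 k hk) h2))

theorem alt_not_cp (hCT : ChevCharTwo) (hL : ListedCard) {n : ℕ} (hn : n = 7 ∨ 9 ≤ n) :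
    ¬ IsCpSimple 2 (alternatingGroup (Fin n)) := by
  intro h
  rcases h with h | ⟨m, hm, ⟨e⟩⟩ | ⟨-, h⟩ | ⟨h, -⟩ | ⟨h, -⟩ | ⟨h, -⟩ | ⟨h, -⟩
  · exact alt_not_chev hCT hn h
  · have h1 := alt_card (n := n) (by omega)
    rw [Nat.card_congr e.toEquiv, alt_card (by omega)] at h1
    have h2 : m.factorial ≤ (6 : ℕ).factorial := Nat.factorial_le (by omega)
    have h3 : (7 : ℕ).factorial ≤ n.factorial := Nat.factorial_le (by omega)
    have h4 : (6 : ℕ).factorial < (7 : ℕ).factorial := by decide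
    omega
  · have h1 := alt_card (n := n) (by omega)
    rcases hL _ h with ⟨F, _, _, hF, ⟨e⟩⟩ | h4
    · have h2 := ClassicalGeometry.PSL2Basic.card_PSL2_odd F (CTwoTab.isFM9_odd hF)
      rw [← Nat.card_congr e.toEquiv, mul_comm, h1] at h2
      rcases hF with ⟨hp, -⟩ | h9
      · have hd : Fintype.card F ∣ n.factorial := by rw [h2]; exact dvd_mul_right _ _
        have hle := (hp.dvd_factorial).1 hd
        have h3 := f_mono hle
        have h5 := cube_lt (m := n) (by omega)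
        rw [← h2] at h3
        omega
      · rw [h9] at h2
        have h3 : (7 : ℕ).factorial ≤ n.factorial := Nat.factorial_le (by omega)
        have h4 : 9 * (9 ^ 2 - 1) < (7 : ℕ).factorial := by decide
        omega
    · exact list_ne (m := n) (by omega) _ h4 h1
  all_goals omega

theorem alt_not_inC (hCT : ChevCharTwo) (hL : ListedCard) {n : ℕ} (hn : n = 7 ∨ 9 ≤ n)
    {K : Type u} [Group K] (e : K ⧸ center K ≃* alternatingGroup (Fin n)) : ¬ InC 2 K :=
  fun h => alt_not_cp hCT hL hn ((CpQuot.Congr.isCpSimple_iff e 2).1 h.2.2.1)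

/-- **`A_n`, `n ≥ 9` odd, of even type: `n = 9`.** -/
theorem eq_nine (hCT : ChevCharTwo) (hL : ListedCard) {n : ℕ} (ho : Odd n) (h9 : 9 ≤ n)
    (hE : IsOfEvenType (alternatingGroup (Fin n))) : n = 9 := by
  by_contra hne
  have h11 : 11 ≤ n := by
    rcases ho with ⟨k, rfl⟩
    omega
  obtain ⟨x, hx, hmx⟩ := exists_x (n := n) (by omega)
  obtain ⟨e⟩ := equiv_alt hmx (by omega)
  have hc : center (alternatingGroup (Fin (n - 4))) = ⊥ := alternatingGroup.center_eq_bot (by
    rw [Nat.card_eq_fintype_card, Fintype.card_fin]; omega)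
  have hz : center ↥(Kf n) = ⊥ := CTwoTab.center_eq_bot_congr e.symm hc
  have h2 : 2 ∣ Nat.card ↥(Kf n) := by
    rw [Nat.card_congr e.toEquiv]
    have h6 := alt_card (n := n - 4) (by omega)
    have h7 : 4 ∣ (n - 4).factorial := Nat.dvd_factorial (by norm_num) (by omega)
    omega
  refine Comp.not_even hx (isComponentOf hmx (by omega)) h2 ?_ (alt_not_inC hCT hL (n := n - 4) ?_
    (((QuotientGroup.quotientMulEquivOfEq hz).trans QuotientGroup.quotientBot).trans e)) hE
  · rw [hz]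
    exact IsPGroup.of_card (n := 0) (by rw [card_bot, pow_zero])
  · rcases ho with ⟨k, rfl⟩
    omega

end Cfsg.Agent.HoltZ.EvenAlt

end

-- merged: Cfsg.Agent.HoltZ.ExcRGD
section

/-!
# Holt pairs and root group data (helper81)

`rowF_of_rgd`: a group with a root group datum of odd characteristic with long root data (`CenRGD.Long`, `CenRGD.Comb`), in
which every simple root has a neighbour joined by a simple bond, has no Holt pair.

`z` commutes with the involutions `zz e x` and with a noncommutative 2-subgroup of a long root `SL₂`, so `z ∈ T`; as `T` is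
abelian `N ≤ M`; of three roots `x, y, x + y` in one orbit one is centralised by `z`; so `M` contains all the root groups.
-/

set_option autoImplicit false
set_option linter.unusedSectionVars false

namespace Cfsg.Agent.HoltZ.Exc

open CoxeterSystem Cfsg.Agent.ChevalleyStructure.CoxeterGeom Cfsg.Agent.Tits.Roots Cfsg.Agent.Tits.Core
  Cfsg.Agent.Nodes.Reps Cfsg.Agent.Nodes.BNOf Cfsg.Agent.Nodes.Bruhat Cfsg.Agent.Nodes.NormalForm
  Cfsg.Agent.Omega.Lie.CenSL Cfsg.Agent.Omega.Lie.CenExp Cfsg.Agent.Omega.Lie.CenRGD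
open Cfsg Cfsg.Agent.HoltZ

variable {I W Y F ι : Type*} [Fintype I] [DecidableEq I] [Group W] [Group Y] [Field F] {M : CoxeterMatrix I}
  {cs : CoxeterSystem M W} {A : I → I → ℤ} {h : IsCartan M A} {p : ℕ} {T : Subgroup Y} {n : I → Y}
  {X : (I → ℤ) → Subgroup Y} {LR : Set (I → ℤ)} {e : (I → ℤ) → F → Y} {φ : (I → ℤ) → SL2 F →* Y}
  {ζ : (I → ℤ) → (I → ℤ) → ZMod 2} {w₀ : W} {β : ι → (I → ℤ)}

/-- A 2-subgroup containing the central involutions of the long root `SL₂`s and a noncommutative subgroup of one of them. -/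
theorem exists_two [Finite W] [Finite Y] [Finite F] (R : RGD cs h p T n X)
    (L : Long cs h T n X LR e φ ζ) (h2 : (2 : F) ≠ 0) {x₀ : I → ℤ} (hx₀ : x₀ ∈ LR) :
    ∃ E : Subgroup Y, IsPGroup 2 E ∧ (∀ x ∈ LR, zz e x ∈ E) ∧
      ∃ a b : SL2 F, a * b ≠ b * a ∧ φ x₀ a ∈ E ∧ φ x₀ b ∈ E := by
  set! S : Set Y := zz e '' LR with hS
  have hZT : Subgroup.closure S ≤ T := by
    rw [Subgroup.closure_le]
    exact S_sub L
  have hZ2 : ∀ z ∈ Subgroup.closure S, z * z = 1 := by
    intro z hz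
    induction hz using Subgroup.closure_induction with
    | mem z hz =>
      obtain ⟨x, hx, rfl⟩ := hz
      exact zz_sq L hx
    | one => exact one_mul 1
    | mul a b ha hb iha ihb =>
      have h3 := L.tcomm a (hZT ha) b (hZT hb)
      have h4 : a * b * (a * b) = (a * a) * (b * b) := by
        calc a * b * (a * b) = a * (b * a) * b := by group
          _ = a * (a * b) * b := by rw [h3]
          _ = _ := by group
      rw [h4, iha, ihb, one_mul]
    | inv a ha iha =>
      have h4 : a⁻¹ * a⁻¹ = (a * a)⁻¹ := by group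
      rw [h4, iha, inv_one]
  have hZp : IsPGroup 2 (Subgroup.closure S) := by
    rintro ⟨z, hz⟩
    refine ⟨1, Subtype.ext ?_⟩
    show z ^ 2 ^ 1 = 1
    rw [pow_one, pow_two, hZ2 z hz]
  have hnorm : Subgroup.closure S ≤ Subgroup.normalizer ((φ x₀).range : Set Y) := by
    rw [Subgroup.closure_le]
    rintro _ ⟨x, hx, rfl⟩
    apply mem_normalizer_of_cj_le
    have h3 := cj_range R L (rp_of_mem (cs := cs) (hN := R.nsys) (L.zT x hx)) hx₀
    rwa [map_one, Module.End.one_apply] at h3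
  obtain ⟨E, hE2, hRE, hE⟩ := exists_sylow hnorm hZp
  obtain ⟨x, y, hxy, hp'⟩ := exists_pair h2
  obtain ⟨l, ⟨N, rfl⟩, hl⟩ := hE ((Subgroup.closure {x, y}).map (φ x₀)) (by
    rintro _ ⟨z, -, rfl⟩
    exact ⟨z, rfl⟩) (hp'.map _)
  refine ⟨E, hE2, fun z hz => hRE (Subgroup.subset_closure ⟨z, hz, rfl⟩), N * x * N⁻¹, N * y * N⁻¹, ?_, ?_, ?_⟩
  · intro h3
    apply hxy
    have h4 : x * y = N⁻¹ * ((N * x * N⁻¹) * (N * y * N⁻¹)) * N := by group
    rw [h4, h3]; group
  · rw [map_mul, map_mul, map_inv]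
    exact hl _ ⟨x, Subgroup.subset_closure (Set.mem_insert _ _), rfl⟩
  · rw [map_mul, map_mul, map_inv]
    exact hl _ ⟨y, Subgroup.subset_closure (Set.mem_insert_of_mem _ rfl), rfl⟩

/-- An element commuting with such a 2-subgroup is in the torus. -/
theorem mem_torus [Finite W] [Fact p.Prime] (R : RGD cs h p T n X) (L : Long cs h T n X LR e φ ζ)
    (C : Comb cs h LR ζ w₀ β) (hp2 : p ≠ 2) (hG : GG cs h T X = ⊤) {E : Subgroup Y} (hS : ∀ x ∈ LR, zz e x ∈ E)
    {x₀ : I → ℤ} (hx₀ : x₀ ∈ LR) {a b : SL2 F} (hab : a * b ≠ b * a) (ha : φ x₀ a ∈ E) (hb : φ x₀ b ∈ E)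
    {u : Y} (hc : ∀ x ∈ E, x * u = u * x) : u ∈ T := by
  have hcS : u ∈ Subgroup.centralizer (zz e '' LR) := by
    rw [Subgroup.mem_centralizer_iff]
    rintro _ ⟨x, hx, rfl⟩
    exact hc _ (hS x hx)
  obtain ⟨w, hw, rfl | hw'⟩ := mem_cent R L hp2 C hG hcS
  · exact hw.mem_of_one
  · exact absurd (swap_case R L hw hx₀ (hw' _ hx₀) (hc _ ha) (hc _ hb)) hab

/-- Of three roots `x, y, x + y` one is killed. -/
theorem exists_killed {i j : I} (hij : A i j = -1) (hji : A j i = -1) (ε : (I → ℤ) →+ ZMod 2) :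
    ∃ w : W, ε (rep cs h w (sr i)) = 0 := by
  have key : ∀ a b : ZMod 2, a = 0 ∨ b = 0 ∨ a + b = 0 := by decide
  have e1 : ∀ k l : I, A k l = -1 → rep cs h (cs.simple k) (sr l) = sr l + sr k := by
    intro k l hkl
    rw [rep_simple_eq]
    have : pairing A k (sr l) = -1 := by
      rw [← hkl]
      unfold pairing
      rw [Finset.sum_eq_single l]
      · rw [sr_self, mul_one]
      · intro b _ hb
        rw [sr_ne hb, mul_zero]
      · intro hl; exact absurd (Finset.mem_univ l) hl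
    rw [this, neg_smul, one_smul, sub_neg_eq_add]
  rcases key (ε (sr i)) (ε (sr j)) with h1 | h1 | h1
  · exact ⟨1, by rw [map_one, Module.End.one_apply]; exact h1⟩
  · refine ⟨cs.simple i * cs.simple j, ?_⟩
    rw [rep_mul_apply, e1 j i hji, map_add, e1 i j hij, rep_simple_sr]
    rw [← h1]
    congr 1
    abel
  · refine ⟨cs.simple j, ?_⟩
    rw [e1 j i hji, map_add]; exact h1

/-- **No Holt pair.** -/
theorem rowF_of_rgd [Finite W] [Finite Y] [Finite F] [Fact p.Prime] [Nonempty ι] (R : RGD cs h p T n X)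
    (L : Long cs h T n X LR e φ ζ) (C : Comb cs h LR ζ w₀ β) (hp2 : p ≠ 2) (h2 : (2 : F) ≠ 0)
    (hG : GG cs h T X = ⊤) (hA : ∀ i, ∃ j, A i j = -1 ∧ A j i = -1) : RowF Y := by
  intro K z₀ hz₀ hU₀
  obtain ⟨j₀⟩ := ‹Nonempty ι›
  obtain ⟨E, hE2, hS, a, b, hab, ha, hb⟩ := exists_two R L h2 (C.mem j₀)
  obtain ⟨K', z, g₀, -, hz, hU, -, hc⟩ := exists_position hz₀ hU₀ E hE2
  have hzT : z ∈ T := mem_torus R L C hp2 hG hS (C.mem j₀) hab ha hb hc
  have hzz : z * z = 1 := by
    rw [← pow_two, ← hz.1]; exact pow_orderOf_eq_one z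
  obtain ⟨ε, hε⟩ := L.sgn z hzT hzz
  have hT : T ≤ K' := fun t ht => hU.comm (L.tcomm t ht z hzT)
  -- the monomial subgroup
  have hN : ∀ (w : W) (g : Y), Rp cs R.nsys w g → g ∈ K' := by
    intro w g hg
    refine hU.exch (L.tcomm _ ?_ z hzT)
    exact (Subgroup.mem_normalizer_iff.1 hg.mem_normalizer z).1 hzT
  -- the centralised root groups
  have hX0 : ∀ y, IsRoot cs h y → ε y = 0 → X y ≤ K' := by
    intro y hy h0 u hu
    refine hU.comm ?_
    have h3 := hε y hy u hu
    rw [if_pos h0] at h3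
    rw [mul_inv_eq_iff_eq_mul] at h3
    exact h3.symm
  have hX : ∀ y, IsRoot cs h y → X y ≤ K' := by
    rintro _ ⟨v, i, rfl⟩
    obtain ⟨j, hij, hji⟩ := hA i
    obtain ⟨w, hw⟩ := exists_killed (cs := cs) (h := h) hij hji ε
    have h3 := hX0 _ ((isRoot_sr cs h i).act w) hw
    obtain ⟨g, hg⟩ := exists_rp cs R.nsys (v * w⁻¹)
    have hgK := hN _ _ hg
    have h4 := R.conj_rp hg ((isRoot_sr cs h i).act w)
    rw [← rep_mul_apply, inv_mul_cancel_right] at h4
    rw [← h4]
    intro u hu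
    rw [mem_cj] at hu
    have h5 : u = g * (g⁻¹ * u * g) * g⁻¹ := by group
    rw [h5]
    exact K'.mul_mem (K'.mul_mem hgK (h3 hu)) (K'.inv_mem hgK)
  apply hU.ne
  rw [eq_top_iff, ← hG]
  refine sup_le hT ?_
  refine iSup_le ?_
  rintro ⟨y, hy⟩
  exact hX y hy

end Cfsg.Agent.HoltZ.Exc

end

-- merged: Cfsg.Agent.HoltZ.Exc
section

/-!
# Holt pairs in the exceptional groups of Lie type of odd characteristic (helper81)

`rowF_F4`, `rowF_E6`, `rowF_E7`, `rowF_E8`, `rowF_twE6` : there is no Holt pair.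
(`G₂(q)`, `³D₄(q)` have one class of involutions: `HoltZ/OneLie.lean`.)
-/

set_option autoImplicit false
set_option maxRecDepth 10000

namespace Cfsg.Agent.HoltZ.Exc

open CoxeterSystem Cfsg.Agent.ChevalleyStructure.CoxeterGeom Cfsg.Agent.Tits.Roots Cfsg.Agent.Tits.Core
  Cfsg.Agent.Nodes Cfsg.Agent.Nodes.Reps Cfsg.Agent.Nodes.BNOf Cfsg.Agent.Nodes.Coroot
  Cfsg.Agent.Nodes.RGDChev Cfsg.Agent.KFacts.RgdChevCoord Cfsg.Agent.Nodes.RGDFold Cfsg.Agent.Nodes.RGDTwGen
  Cfsg.Agent.Omega.Lie.CenSL Cfsg.Agent.Omega.Lie.CenRGD Cfsg.Agent.Omega.Lie.CenChev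
  Cfsg.Agent.Omega.Lie.CenFold Cfsg.Agent.Omega.Lie.CenTab Cfsg.Agent.Omega.Lie.CenTwist
  Cfsg.Agent.Omega.Lie.CenExp
open Cfsg.Lie Cfsg.Agent.ChevalleyStructure Cfsg.Agent.ChevalleyStructure.Elts
  Cfsg.Agent.ChevalleyStructure.NPerm Cfsg.Agent.ChevalleyStructure.TwistedU
  Cfsg.Agent.ChevalleyStructure.TwistedFix Cfsg.Agent.ChevalleyStructure.RootCombGood
  Cfsg.Agent.ChevalleyStructure.RootCombBridge Cfsg.Agent.ChevalleyStructure.CoxeterGeomTypes
open Cfsg Cfsg.Agent.HoltZ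

universe u

/-- The Chevalley groups. -/
theorem rowF_of_cd {D : ChevalleyDatum} {l : ℕ} {M : CoxeterMatrix (Fin l)} (hp : IsType D l M) (K : Type u)
    [Field K] [Finite K] (h2 : (2 : K) ≠ 0) {lg : ℕ → Bool} {ω : List (Fin l)} {β bs : List ℕ} {b₀ : ℕ}
    {f₀ : Fin l → ZMod 2} {s : ℕ} (C : CD D l lg ω β bs b₀ f₀ s) (hβ : β ≠ [])
    (hA : ∀ i, ∃ j, cartanOf D l i j = -1 ∧ cartanOf D l j i = -1) :
    RowF ↥(D.group K) := by
  obtain ⟨p, hchar⟩ := CharP.exists K
  have hpp : Fact p.Prime := ⟨CharP.char_is_prime K p⟩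
  have hp2 : p ≠ 2 := by
    rintro rfl
    exact h2 (by exact_mod_cast CharP.cast_eq_zero K 2)
  let cs := M.toCoxeterSystem
  have hW : Finite M.Group := _root_.Cfsg.Agent.Nodes.RGDChev.finite_W hp cs
  have hne : Nonempty {r : ℕ // r ∈ β} := by
    obtain ⟨r, hr⟩ := List.exists_mem_of_ne_nil β hβ
    exact ⟨⟨r, hr⟩⟩
  have L := long hp (K := K) cs C.inv C.neg C.odd' h2
  have hG : Nodes.Bruhat.GG cs hp.isCartan (TT D K) (XX D l K) = ⊤ := by
    rw [eq_top_iff, ← _root_.Cfsg.Agent.Nodes.RGDChev.G1_eq_top hp (K := K) cs]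
    exact le_sup_right
  exact rowF_of_rgd (_root_.Cfsg.Agent.Nodes.RGDChev.rgd (K := K) hp cs p) L (comb hp cs C) hp2 h2 hG hA

theorem nbF4 : ∀ i, ∃ j, cartanOf chevF4 4 i j = -1 ∧ cartanOf chevF4 4 j i = -1 := by decide +kernel
theorem nbE6 : ∀ i, ∃ j, cartanOf chevE6 6 i j = -1 ∧ cartanOf chevE6 6 j i = -1 := by decide +kernel
theorem nbE7 : ∀ i, ∃ j, cartanOf chevE7 7 i j = -1 ∧ cartanOf chevE7 7 j i = -1 := by decide +kernel
theorem nbE8 : ∀ i, ∃ j, cartanOf chevE8 8 i j = -1 ∧ cartanOf chevE8 8 j i = -1 := by decide +kernel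
theorem nbTw : ∀ i, ∃ j, RGDTwE6.A i j = -1 ∧ RGDTwE6.A j i = -1 := by decide +kernel

/-- `F₄(q)`, `q` odd -/
theorem rowF_F4 {K : Type u} [Field K] [Finite K] (h2 : (2 : K) ≠ 0) : RowF ↥(chevF4.group K) :=
  rowF_of_cd isTypeF4 K h2 (cd_of_chk bridgeF4 isTypeF4 chkF4 (by decide)) (by decide) nbF4

/-- `E₆(q)`, `q` odd -/
theorem rowF_E6 {K : Type u} [Field K] [Finite K] (h2 : (2 : K) ≠ 0) : RowF ↥(chevE6.group K) :=
  rowF_of_cd isTypeE6 K h2 (cd_of_chk bridgeE6 isTypeE6 chkE6 (by decide)) (by decide) nbE6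

/-- `E₇(q)`, `q` odd -/
theorem rowF_E7 {K : Type u} [Field K] [Finite K] (h2 : (2 : K) ≠ 0) : RowF ↥(chevE7.group K) :=
  rowF_of_cd isTypeE7 K h2 (cd_of_chk bridgeE7 isTypeE7 chkE7 (by decide)) (by decide) nbE7

/-- `E₈(q)`, `q` odd -/
theorem rowF_E8 {K : Type u} [Field K] [Finite K] (h2 : (2 : K) ≠ 0) : RowF ↥(chevE8.group K) :=
  rowF_of_cd isTypeE8 K h2 (cd_of_chk bridgeE8 isTypeE8 chkE8 (by decide)) (by decide) nbE8

section Fold

variable {D : ChevalleyDatum} {l : ℕ} {M' : CoxeterMatrix (Fin l)} (hp : IsType D l M')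
  {D₀ : ChevalleyDatum} {m : ℕ} {M₀ : CoxeterMatrix (Fin m)} (hp₀ : IsType D₀ m M₀)
  {K : Type u} [Field K] {M : CoxeterMatrix (Fin m)} {W : Type*} [Group W] (cs : CoxeterSystem M W)
  {A : Fin m → Fin m → ℤ} (h : IsCartan M A)
  {J : Fin m → List (Fin l)} {L : List (List ℕ)} {σ : GL D.Idx K →* GL D.Idx K} {ρ ρ' : ℕ → ℕ}
  {f : ℕ → K → K} {G : Subgroup (GL D.Idx K)} {φ : K →+* K} {ε : ℕ → ℤ}
  {e : Fin m ≃ Fin m} {lg lg₀ : ℕ → Bool} {κ : ℕ → ℕ}

include h in
/-- The twisted groups. -/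
theorem rowF_fold (F : FT D l D₀ m J e ρ ε lg lg₀ κ) (FD : FoldData D M A J L)
    (FG : FoldGrp hp K J L σ ρ ρ' f G)
    (hsig : ∀ r < D.nroots, ∀ t : K, σ (xG hp.inList r t) = xG hp.inList (ρ r) (((ε r : ℤ) : K) * φ t))
    [Finite K] (cs₀ : CoxeterSystem M₀ W) (h2 : (2 : K) ≠ 0)
    (hcs : ∀ i, cs.simple (e i) = cs₀.simple i) (hA : ∀ i j, cartanOf D₀ m i j = A (e i) (e j))
    {ι : Type*} [Nonempty ι] {w₀ : W} {β : ι → ℕ}
    (C : Comb cs₀ hp₀.isCartan (LR D₀ m lg₀) (zet cs₀ hp₀) w₀ (fun j => vec D₀ m (β j)))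
    (hnb : ∀ i, ∃ j, A i j = -1 ∧ A j i = -1) : RowF ↥G := by
  obtain ⟨p, hchar⟩ := CharP.exists K
  have hpp : Fact p.Prime := ⟨CharP.char_is_prime K p⟩
  have hp2 : p ≠ 2 := by
    rintro rfl
    exact h2 (by exact_mod_cast CharP.cast_eq_zero K 2)
  have hW : Finite W := RGDFold.finite_W (hp := hp) cs h FD
  have R := RGDFold.rgd cs h FD FG p
  have L' := long_fold hp hp₀ cs h F FD FG hsig cs₀ h2
  have C' := C.reindex (h' := h) hA hcs
  have hG : Bruhat.GG cs h ((D.diagonalSubgroup K ⊓ G).subgroupOf G) (fun z => (RGDFold.R D hp K J σ z).subgroupOf G) = ⊤ := by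
    rw [eq_top_iff, ← RGDFold.G1_eq_top cs h FD FG p]
    exact le_sup_right
  have h2' : (2 : ↥(FF φ)) ≠ 0 := by
    intro h0
    apply h2
    have := congrArg (Subtype.val : ↥(FF φ) → K) h0
    exact this
  exact rowF_of_rgd R L' C' hp2 h2' hG hnb

end Fold

/-- `²E₆(q)`, `q` odd -/
theorem rowF_twE6 {K : Type u} [Field K] [Fintype K] {q : ℕ} (h2 : (2 : K) ≠ 0) (hK : Fintype.card K = q ^ 2) :
    RowF ↥(twistedE6 K q) := by
  have hq : IsPrimePow q := by
    have h1 := FiniteField.isPrimePow_card K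
    rw [hK] at h1
    exact (isPrimePow_pow_iff (by norm_num)).1 h1
  obtain ⟨φ, hφ, hqq⟩ := TwE6Basic.exists_frob hq hK
  let cs₀ := CoxeterMatrix.F₄.toCoxeterSystem
  obtain ⟨cs, hcs⟩ := Reindex.exists_reindex cs₀ Fin.revPerm hME
  have C := cd_of_chk bridgeF4 isTypeF4 chkF4 (by decide)
  have hne : Nonempty {r : ℕ // r ∈ inpF4.β} := ⟨⟨47, by decide⟩⟩
  exact rowF_fold RGDTwE6.hp isTypeF4 cs RGDTwE6.isCartan ftE RGDTwE6.foldData
    (RGDTwE6.foldGrp hφ hqq) (hsigE φ) cs₀ h2 hcs hAE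
    (β := fun j : {r : ℕ // r ∈ inpF4.β} => j.1) (comb isTypeF4 cs₀ C) nbTw

end Cfsg.Agent.HoltZ.Exc

end

-- merged: Cfsg.Agent.HoltZ.Fi22
section

/-!
# S1729: no Holt pair in `Fi22` (helper34)

The 2-central involutions are the products `a b` of two commuting transpositions; if `a b ∈ M` then all the
transpositions commuting with `a` (or `b`) lie in `M`, and the commuting graph is connected.
-/

set_option autoImplicit false

namespace Cfsg.Agent.HoltZ.Fi22

open Cfsg Subgroup Cfsg.Agent.HoltZ Cfsg.Agent.HoltZ.Cent Cfsg.Agent.HoltZ.TwoGen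
open Cfsg.Agent.R01 Cfsg.Agent.R01.FiFusion Cfsg.Agent.R01.FiFacts
open Cfsg.Agent.StdFi22.TLev Cfsg.Agent.OddHalf.D8.Fi22

section lev

variable {P : Type*} [Group P] [Finite P] {F : Type*} [Field F] [Fintype F]
  {hF : Fintype.card F = 2 ^ 2} {T : Set P}

/-- a common neighbour different from `a` of two transpositions of `C(a)` -/
theorem common_link (B : Bas hF T) {a c c' : P} (ha : a ∈ T) (hc : c ∈ T) (hc' : c' ∈ T) (cn : c ≠ a)
    (ca : c * a = a * c) (ca' : c' * a = a * c') (hcc : c * c' ≠ c' * c) :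
    ∃ p ∈ T, p ≠ a ∧ p * a = a * p ∧ p * c = c * p ∧ p * c' = c' * p := by
  by_contra hcon
  obtain ⟨w, h⟩ := B.third ha hc cn.symm ca.symm
  rcases Opp.third_mem B ha hc hc' h.mw ca ca' h.cxw.symm h.xw.symm hcc (by
    intro p hp h1 h2 h3
    by_cases hpa : p = a
    · rw [hpa]; exact h.cxw
    · exact absurd ⟨p, hp, hpa, h1, h2, h3⟩ hcon) with h1 | h1 | h1
  · exact h.yw h1.symm
  · exact hcc (by rw [← h1]; exact h.cyw)
  · -- `w = c c' c` commutes with `c`
    have h2 := h.cyw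
    rw [h1] at h2
    have hcc' := B.sq hc
    apply hcc
    calc c * c' = c * c' * (c * c) := by rw [hcc', mul_one]
      _ = c * c' * c * c := by group
      _ = c * (c * c' * c) := h2.symm
      _ = (c * c) * c' * c := by group
      _ = c' * c := by rw [hcc', one_mul]

/-- **The closure argument.** -/
theorem all_mem (B : Bas hF T) (hN : Opp.TransN T) {M : Subgroup P}
    (hM : ∀ a ∈ T, ∀ b ∈ T, a ≠ b → a * b = b * a → a * b ∈ M → ∀ g : P, g * (a * b) = a * b * g → g ∈ M)
    {a b : P} (ha : a ∈ T) (hb : b ∈ T) (hab : a ≠ b) (cab : a * b = b * a) (habM : a * b ∈ M) : M = ⊤ := by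
  -- everything commuting with `a`
  have step : ∀ a ∈ T, ∀ b ∈ T, a ≠ b → a * b = b * a → a * b ∈ M →
      a ∈ M ∧ b ∈ M ∧ ∀ c ∈ T, c * a = a * c → c ∈ M := by
    intro a ha b hb hab cab habM
    have h0 := hM a ha b hb hab cab habM
    have haM : a ∈ M := h0 a (by rw [mul_assoc a b a, ← cab])
    have hbM : b ∈ M := h0 b (by rw [← mul_assoc, ← cab])
    refine ⟨haM, hbM, fun c hc ca => ?_⟩
    have comm2 : ∀ c : P, c * a = a * c → c * b = b * c → c * (a * b) = a * b * c := by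
      intro c h1 h2
      rw [← mul_assoc, h1, mul_assoc, h2, mul_assoc]
    by_cases cb : c * b = b * c
    · exact h0 c (comm2 c ca cb)
    · have cn : b ≠ a := hab.symm
      obtain ⟨p, hp, pn, pa, pb, pc⟩ := common_link B ha hb hc cn cab.symm ca (fun h => cb h.symm)
      have hpM : p ∈ M := h0 p (comm2 p pa pb)
      refine hM a ha p hp (Ne.symm pn) pa.symm (M.mul_mem haM hpM) c ?_
      rw [← mul_assoc, ca, mul_assoc, ← pc, mul_assoc]
  obtain ⟨haM, hbM, hlink⟩ := step a ha b hb hab cab habM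
  have hT : T ⊆ M := by
    intro x hx
    by_cases hxa : x = a
    · rw [hxa]; exact haM
    obtain ⟨c, hc, c1, c2, c3, c4⟩ := Opp.common_nb B hN ha hx
    have hcM := hlink c hc c3
    exact (step c hc a ha c1 c3 (M.mul_mem hcM haM)).2.2 x hx c4.symm
  rw [eq_top_iff, ← B.cls.2.2, closure_le]
  exact hT

end lev

/-- one involution in the centre of a Sylow 2-subgroup -/
theorem central_of_z1 {X : Type*} [Group X] [Finite X]
    (z1 : ∀ S : Sylow 2 X, ∀ a ∈ S, a * a = 1 → a ≠ 1 → (∀ s ∈ S, s * a = a * s) →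
      ∀ b ∈ S, b * b = 1 → b ≠ 1 → (∀ s ∈ S, s * b = b * s) → a = b) : Central X := by
  refine central_of_sylow default fun x hx y hy hx2 hy2 hxc hyc => ?_
  have h : ∀ v : X, orderOf v = 2 → v * v = 1 ∧ v ≠ 1 := by
    intro v hv
    refine ⟨by rw [← pow_two, ← hv, pow_orderOf_eq_one], ?_⟩
    rintro rfl
    rw [orderOf_one] at hv
    omega
  rw [z1 default x hx (h x hx2).1 (h x hx2).2 hxc y hy (h y hy2).1 (h y hy2).2 hyc]

open Cfsg.Agent.StdFi22.MainFi22 (bas)
open Cfsg.Agent.R08.AutT (T)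

/-- products of two commuting transpositions are 2-central involutions -/
theorem tc_two {a b : Spor.Fi22} (ha : a ∈ T) (hb : b ∈ T) (hab : a ≠ b) (cab : a * b = b * a) :
    IsTwoCentralInvolution (a * b) := by
  have hfin : Finite Spor.Fi22 := Cfsg.Agent.R01.Fi22Facts.finite
  have h2 : Fact (Nat.Prime 2) := ⟨Nat.prime_two⟩
  obtain ⟨S, hS⟩ := Cfsg.Agent.OddHalf.D4.Spor.Fi22.cen_two ha hb hab cab
  have ho : orderOf (a * b) = 2 := by
    refine orderOf_eq_prime ?_ ?_
    · rw [pow_two]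
      exact Cfsg.Agent.OddHalf.D4.Spor.Fi22.mul_sq_of (bas.sq ha) (bas.sq hb) cab
    · intro h
      apply hab
      rw [← bas.inv_self hb]
      exact eq_inv_of_mul_eq_one_left h
  exact ⟨ho, S, Comp.mem_sylow_of_comm S (isPGroup_zpowers ho) hS, hS⟩

/-- **No Holt pair in `Fi22`.** -/
theorem rowF0 : RowF Spor.Fi22 := by
  have hfin : Finite Spor.Fi22 := Cfsg.Agent.R01.Fi22Facts.finite
  intro M z hz hU
  have hcen : Central Spor.Fi22 := central_of_z1 Cfsg.Agent.OddHalf.D4.Spor.Fi22.sheet0.z1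
  have h := toHP hU hz
  obtain ⟨a, b, c, c', t, -⟩ := bas.tf.four
  obtain ⟨g, hg⟩ := isConj_iff.1 (hcen _ _ (tc_two t.mx t.my t.xy t.cxy) hz)
  have e : g * (a * b) * g⁻¹ = (g * a * g⁻¹) * (g * b * g⁻¹) := by group
  refine h.ne (all_mem bas Cfsg.Agent.OddHalf.D8.Fi22.transN (M := M) ?_ (bas.conjT g t.mx) (bas.conjT g t.my)
    (fun h' => t.xy (mul_left_cancel (mul_right_cancel h'))) ?_ (by rw [← e, hg]; exact h.mem))
  · intro a ha b hb hab cab habM g hg
    exact h.cent (hcen _ _ hz (tc_two ha hb hab cab)) habM (mem_centralizer_singleton_iff.2 hg)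
  · calc g * a * g⁻¹ * (g * b * g⁻¹) = g * (a * b) * g⁻¹ := by group
      _ = g * (b * a) * g⁻¹ := by rw [t.cxy]
      _ = _ := by group

theorem rowF {X : Type*} [Group X] (h : Spor.IsoFi22 X) : RowF X := by
  obtain ⟨e⟩ := h
  have hfin : Finite Spor.Fi22 := Cfsg.Agent.R01.Fi22Facts.finite
  have : Finite X := Finite.of_equiv _ e.symm.toEquiv
  exact rowF0.congr e

end Cfsg.Agent.HoltZ.Fi22

end

-- merged: Cfsg.Agent.HoltZ.Link
section

/-!
# Holt pairs: subgroups with a quotient without Holt pair; connected commuting graphs (helper34)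
-/

set_option autoImplicit false

namespace Cfsg.Agent.HoltZ.Link

open Cfsg Subgroup Cfsg.Agent.HoltZ Cfsg.Agent.HoltZ.Cent Cfsg.Agent.HoltZ.TwoGen

/-- `f : L →* X` onto with central kernel, `y ∈ L ∩ M` a conjugate of `z` with `f y` 2-central in `X`, and `X` without
Holt pair: then `L ≤ M`. -/
theorem le_of_hom {G : Type*} [Group G] [Finite G] {M : Subgroup G} {z : G} (h : HP M z) {L : Subgroup G}
    {X : Type*} [Group X] (f : ↥L →* X) (hf : Function.Surjective f)
    (hker : ∀ l : ↥L, f l = 1 → l ∈ center ↥L) {y : ↥L} (hy : IsConj z (y : G)) (hyM : (y : G) ∈ M)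
    (htc : IsTwoCentralInvolution (f y)) (hX : RowF X) : L ≤ M := by
  rcases (h.uf hy hyM).restrict y.2 (c := 1) (fun l _ => by rw [mul_one, one_mul]) (by rw [mul_one]) with h1 | h1
  · exact h1
  exfalso
  have e : (⟨(y : G), y.2⟩ : ↥L) = y := rfl
  rw [e] at h1
  set N : Subgroup ↥L := M.subgroupOf L with hN
  have hZN : center ↥L ≤ N := fun a ha => h1.comm ((mem_center_iff.1 ha y).symm)
  have hmap : ∀ g : ↥L, f g ∈ N.map f ↔ g ∈ N := by
    intro g
    constructor
    · rintro ⟨n, hn, hng⟩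
      have h3 : n⁻¹ * g ∈ center ↥L := hker _ (by rw [map_mul, map_inv, hng, inv_mul_cancel])
      have h4 := N.mul_mem hn (hZN h3)
      simpa using h4
    · intro hg; exact ⟨g, hg, rfl⟩
  refine hX (N.map f) (f y) htc ⟨?_, ⟨y, h1.mem, rfl⟩, ?_⟩
  · intro h3
    apply h1.ne
    rw [eq_top_iff]
    intro l _
    exact (hmap l).1 (by rw [h3]; trivial)
  · intro g hg
    obtain ⟨l, rfl⟩ := hf g
    have h4 : f (l * y * l⁻¹) ∈ N.map f := by simpa only [_root_.map_mul, _root_.map_inv, _root_.Subgroup.mem_map, _root_.Subtype.exists] using hg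
    exact (hmap l).2 (h1.ctrl l ((hmap _).1 h4))

open Cfsg.Agent.Fischer.Abstract Cfsg.Agent.R01.CompRank3

/-- A set of points closed under commuting is everything. -/
theorem conn_all {G X : Type*} [Group G] [MulAction G X] (R : Rank3 G X)
    (nc : ∃ x y, R.Com R.x0 x ∧ R.Com R.x0 y ∧ ¬ R.Com x y) {A : Set X}
    (hA : ∀ x ∈ A, ∀ y, R.Com x y → y ∈ A) {x : X} (hx : x ∈ A) (y : X) : y ∈ A := by
  have h := cx_all R nc x y
  induction h with
  | refl => exact hx
  | tail _ hbc ih => exact hA _ ih _ hbc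

/-- The same for the set of transpositions. -/
theorem conn_set {G X : Type*} [Group G] [MulAction G X] (R : Rank3 G X)
    (nc : ∃ x y, R.Com R.x0 x ∧ R.Com R.x0 y ∧ ¬ R.Com x y) {D : Set G} (hD : Set.range R.t = D) {A : Set G}
    (hA : ∀ x ∈ D, x ∈ A → ∀ y ∈ D, x * y = y * x → y ∈ A) {x : G} (hx : x ∈ D) (hxA : x ∈ A) {y : G}
    (hy : y ∈ D) : y ∈ A := by
  rw [← hD] at hx hy
  obtain ⟨p, rfl⟩ := hx
  obtain ⟨q, rfl⟩ := hy
  exact conn_all R nc (A := {v | R.t v ∈ A}) (fun v hv w hvw => hA _ (hD ▸ ⟨v, rfl⟩) hv _ (hD ▸ ⟨w, rfl⟩) hvw) hxA q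

end Cfsg.Agent.HoltZ.Link

end

-- merged: Cfsg.Agent.HoltZ.Fi23
section

/-!
# S1729: no Holt pair in `Fi23` (helper34)

The three classes of involutions `a`, `ab`, `abc` (commuting transpositions).
-/

set_option autoImplicit false
set_option linter.constructorNameAsVariable false

namespace Cfsg.Agent.HoltZ.Fi23

open Cfsg Subgroup Cfsg.Agent.HoltZ Cfsg.Agent.HoltZ.Cent Cfsg.Agent.HoltZ.TwoGen Cfsg.Agent.HoltZ.Link
open Cfsg.Spor Cfsg.Agent.Fischer Cfsg.Agent.Fischer.Abstract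
open Cfsg.Agent.R01 Cfsg.Agent.R01.Lifts Cfsg.Agent.R08.FiTwentyThree
open Cfsg.Agent.R01.AlphaFi23 (t closure_t zrels z0_mem)
open Cfsg.Agent.Fischer.Fi23Hom (gen)
open Cfsg.Agent.Fischer.Fi23Class (K)
open Cfsg.Agent.Fischer.Fi23Z (z0)

theorem kt : OddHalf.D8.Fi22.KTrans Spor.Fi22 Fi22Facts.T := OddHalf.D8.Fi22.kTrans0

/-- distinct commuting elements of `S` have distinct commuting images -/
theorem pi_ne {x y : K} (hx : x ∈ S) (hy : y ∈ S) (h : x ≠ y) : _root_.Cfsg.Agent.R08.FiTwentyThree.pi x ≠ _root_.Cfsg.Agent.R08.FiTwentyThree.pi y :=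
  fun e => h (lifted.inj x hx y hy e)

/-- two members of `S` have a common neighbour in `S` -/
theorem link {c c' : K} (hc : c ∈ S) (hc' : c' ∈ S) :
    ∃ p ∈ S, p ≠ c ∧ p ≠ c' ∧ p * c = c * p ∧ p * c' = c' * p := by
  obtain ⟨u, hu, h1, h2, h3, h4⟩ := kt.nb _ (lifted.map c hc) _ (lifted.map c' hc')
  obtain ⟨p, hp, rfl⟩ := lifted.surj u hu
  exact ⟨p, hp, fun e => h1 (by rw [e]), fun e => h2 (by rw [e]), comm_of_image hp hc h3, comm_of_image hp hc' h4⟩

/-- noncommuting members of `S` -/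
theorem exists_ncomm : ∃ x ∈ S, ∃ y ∈ S, x * y ≠ y * x := by
  obtain ⟨a, b, c, c', h, -⟩ := StdFi22.MainFi22.bas.tf.four
  obtain ⟨v, hv, h1, -⟩ := StdFi22.MainFi22.bas.tf.link a h.mx b h.my h.xy h.cxy
  obtain ⟨x, hx, rfl⟩ := lifted.surj a h.mx
  obtain ⟨y, hy, rfl⟩ := lifted.surj v hv
  exact ⟨y, hy, x, hx, fun e => h1 (by rw [← map_mul, e, map_mul])⟩

/-- the commuting graph on `D` is connected -/
theorem conn {A : Set Fi23} (hA : ∀ x ∈ D, x ∈ A → ∀ y ∈ D, x * y = y * x → y ∈ A) {x : Fi23} (hx : x ∈ D)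
    (hxA : x ∈ A) {y : Fi23} (hy : y ∈ D) : y ∈ A := by
  obtain ⟨R, h1, -, h3⟩ := exists_rank3
  refine conn_set R ?_ h3 hA hx hxA hy
  obtain ⟨u, hu, v, hv, huv⟩ := exists_ncomm
  obtain ⟨p, hp⟩ : (u : Fi23) ∈ Set.range R.t := h3 ▸ hu.1
  obtain ⟨q, hq⟩ : (v : Fi23) ∈ Set.range R.t := h3 ▸ hv.1
  refine ⟨p, q, ?_, ?_, ?_⟩
  · rw [R.com_def, h1, hp]; exact ((mem_K_iff _).1 u.2).symm
  · rw [R.com_def, h1, hq]; exact ((mem_K_iff _).1 v.2).symm
  · rw [R.com_def, hp, hq]
    exact fun e => huv (Subtype.ext e)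

/-- the elements of `S` -/
theorem mem_S {x : Fi23} (hx : x ∈ D) (hc : x * z0 = z0 * x) (hn : x ≠ z0) :
    ∃ h : x ∈ K, (⟨x, h⟩ : K) ∈ S := ⟨(mem_K_iff x).2 hc, hx, hn⟩

/-- conjugation to `z0` -/
theorem conj_comm {x y : Fi23} (g : Fi23) (h : x * y = y * x) :
    g * x * g⁻¹ * (g * y * g⁻¹) = g * y * g⁻¹ * (g * x * g⁻¹) := by
  calc g * x * g⁻¹ * (g * y * g⁻¹) = g * (x * y) * g⁻¹ := by group
    _ = g * (y * x) * g⁻¹ := by rw [h]
    _ = _ := by group

theorem conj_ne {x y : Fi23} (g : Fi23) (h : x ≠ y) : g * x * g⁻¹ ≠ g * y * g⁻¹ :=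
  fun e => h (mul_left_cancel (mul_right_cancel e))

/-- two transpositions commuting with `d` have a common neighbour commuting with `d` -/
theorem link' {d c c' : Fi23} (hd : d ∈ D) (hc : c ∈ D) (hc' : c' ∈ D) (cn : c ≠ d) (cn' : c' ≠ d)
    (cd : c * d = d * c) (cd' : c' * d = d * c') :
    ∃ p ∈ D, p ≠ d ∧ p * d = d * p ∧ p ≠ c ∧ p ≠ c' ∧ p * c = c * p ∧ p * c' = c' * p := by
  obtain ⟨g, hg⟩ := isConj_iff.1 (show IsConj z0 d from hd).symm
  obtain ⟨m1, s1⟩ := mem_S (conj_mem_D hc g) (hg ▸ conj_comm g cd) (hg ▸ conj_ne g cn)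
  obtain ⟨m2, s2⟩ := mem_S (conj_mem_D hc' g) (hg ▸ conj_comm g cd') (hg ▸ conj_ne g cn')
  obtain ⟨p, hp, p1, p2, p3, p4⟩ := link s1 s2
  have hpz := (mem_K_iff _).1 p.2
  have e : ∀ x : Fi23, g⁻¹ * (g * x * g⁻¹) * (g⁻¹)⁻¹ = x := fun x => by group
  have hz : g⁻¹ * z0 * (g⁻¹)⁻¹ = d := by rw [← hg, e]
  refine ⟨g⁻¹ * p * (g⁻¹)⁻¹, conj_mem_D hp.1 _, ?_, ?_, ?_, ?_, ?_, ?_⟩
  · rw [← hz]; exact conj_ne _ hp.2
  · rw [← hz]; exact conj_comm _ hpz
  · rw [← e c]; exact conj_ne _ (fun h => p1 (Subtype.ext h))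
  · rw [← e c']; exact conj_ne _ (fun h => p2 (Subtype.ext h))
  · have h5 := conj_comm g⁻¹ (congrArg Subtype.val p3)
    have h6 : g⁻¹ * (⟨g * c * g⁻¹, m1⟩ : K) * (g⁻¹)⁻¹ = c := e c
    rw [h6] at h5
    exact h5
  · have h5 := conj_comm g⁻¹ (congrArg Subtype.val p4)
    have h6 : g⁻¹ * (⟨g * c' * g⁻¹, m2⟩ : K) * (g⁻¹)⁻¹ = c' := e c'
    rw [h6] at h5
    exact h5

/-- two commuting members of `S` can be moved to `a`, `c` by `K` -/
theorem trans_S {x y x' y' : K} (hx : x ∈ S) (hy : y ∈ S) (hx' : x' ∈ S) (hy' : y' ∈ S) (h : x ≠ y) (h' : x' ≠ y')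
    (c : x * y = y * x) (c' : x' * y' = y' * x') : ∃ k : K, k * x * k⁻¹ = x' ∧ k * y * k⁻¹ = y' := by
  obtain ⟨g, h1, h2⟩ := kt.trans2 _ (lifted.map x hx) _ (lifted.map y hy) _ (lifted.map x' hx') _ (lifted.map y' hy')
    (pi_ne hx hy h) (pi_ne hx' hy' h') (by rw [← map_mul, c, map_mul]) (by rw [← map_mul, c', map_mul])
  obtain ⟨k, rfl⟩ := pi_surjective g
  refine ⟨k, lifted.inj _ (lifted.conj k x hx) _ hx' ?_, lifted.inj _ (lifted.conj k y hy) _ hy' ?_⟩
  · rw [map_mul, map_mul, map_inv, h1]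
  · rw [map_mul, map_mul, map_inv, h2]

theorem ta_mem : t .a ∈ S := mem_S_iff.2 ⟨1, by group⟩

theorem tc_mem : t .c ∈ S := by
  have h : (gen .c : Fi23) ∈ D ∧ (gen .c : Fi23) ≠ z0 := by
    refine ⟨gen_mem_D .c, ?_⟩
    intro h
    apply Fi23Class.z0_ncomm
    rw [← h]
    exact Fi23Class.gen_comm .c .j (by decide)
  exact h

theorem comm_ac : t .a * t .c = t .c * t .a :=
  Subtype.ext (Fi23Class.gen_comm .a .c (by decide))

/-- all the commuting pairs are conjugate -/
theorem pair_conj {x y : Fi23} (hx : x ∈ D) (hy : y ∈ D) (hn : x ≠ y) (hc : x * y = y * x) :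
    IsConj (z0 * gen .a) (x * y) := by
  obtain ⟨g, hg⟩ := isConj_iff.1 (show IsConj z0 x from hx).symm
  obtain ⟨m, s⟩ := mem_S (conj_mem_D hy g) (hg ▸ conj_comm g hc.symm) (hg ▸ conj_ne g hn.symm)
  obtain ⟨k, hk⟩ := mem_S_iff.1 s
  have hk' : (k : Fi23) * gen .a * (k : Fi23)⁻¹ = g * y * g⁻¹ := congrArg Subtype.val hk
  have hkz := (mem_K_iff _).1 k.2
  refine isConj_iff.2 ⟨g⁻¹ * k, ?_⟩
  calc g⁻¹ * k * (z0 * gen .a) * (g⁻¹ * k)⁻¹
      = g⁻¹ * ((k : Fi23) * z0) * gen .a * (k : Fi23)⁻¹ * g := by group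
    _ = g⁻¹ * z0 * ((k : Fi23) * gen .a * (k : Fi23)⁻¹) * g := by rw [hkz]; group
    _ = g⁻¹ * (g * x * g⁻¹) * (g * y * g⁻¹) * g := by rw [hk', hg]
    _ = x * y := by group

/-- all the commuting triples are conjugate -/
theorem tri_conj {x y w : Fi23} (hx : x ∈ D) (hy : y ∈ D) (hw : w ∈ D) (hn : x ≠ y) (hn' : x ≠ w) (hyw : y ≠ w)
    (hc : x * y = y * x) (hc' : x * w = w * x) (cyw : y * w = w * y) (hac : (gen .a : Fi23) ≠ gen .c) :
    IsConj (z0 * gen .a * gen .c) (x * y * w) := by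
  obtain ⟨g, hg⟩ := isConj_iff.1 (show IsConj z0 x from hx).symm
  obtain ⟨m, s⟩ := mem_S (conj_mem_D hy g) (hg ▸ conj_comm g hc.symm) (hg ▸ conj_ne g hn.symm)
  obtain ⟨m', s'⟩ := mem_S (conj_mem_D hw g) (hg ▸ conj_comm g hc'.symm) (hg ▸ conj_ne g hn'.symm)
  obtain ⟨k, hk, hk'⟩ := trans_S ta_mem tc_mem s s' (fun e => hac (congrArg Subtype.val e))
    (fun e => conj_ne g hyw (congrArg Subtype.val e)) comm_ac (Subtype.ext (conj_comm g cyw))
  have h1 : (k : Fi23) * gen .a * (k : Fi23)⁻¹ = g * y * g⁻¹ := congrArg Subtype.val hk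
  have h2 : (k : Fi23) * gen .c * (k : Fi23)⁻¹ = g * w * g⁻¹ := congrArg Subtype.val hk'
  have hkz := (mem_K_iff _).1 k.2
  refine isConj_iff.2 ⟨g⁻¹ * k, ?_⟩
  calc g⁻¹ * k * (z0 * gen .a * gen .c) * (g⁻¹ * k)⁻¹
      = g⁻¹ * ((k : Fi23) * z0) * gen .a * gen .c * (k : Fi23)⁻¹ * g := by group
    _ = g⁻¹ * z0 * ((k : Fi23) * gen .a * (k : Fi23)⁻¹) * ((k : Fi23) * gen .c * (k : Fi23)⁻¹) * g := by
        rw [hkz]; group
    _ = g⁻¹ * (g * x * g⁻¹) * (g * y * g⁻¹) * (g * w * g⁻¹) * g := by rw [h1, h2, hg]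
    _ = x * y * w := by group

theorem eq_top {M : Subgroup Fi23} (h : ∀ x ∈ D, x ∈ M) : M = ⊤ := by
  rw [eq_top_iff, ← isThreeTranspositionClass.2.2, closure_le]
  exact h

theorem mul_comm2 {G : Type*} [Group G] {c a b : G} (h1 : c * a = a * c) (h2 : c * b = b * c) :
    c * (a * b) = a * b * c := by
  rw [← mul_assoc, h1, mul_assoc, h2, mul_assoc]

/-- the class of the transpositions -/
theorem case_one {M : Subgroup Fi23} {z : Fi23} (h : HP M z) (hz : IsConj z z0) : False := by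
  have hzD : z ∈ D := hz.symm
  refine h.ne (eq_top fun y hy => conn (A := {x | x ∈ M}) ?_ hzD h.mem hy)
  intro x hx hxM y hy hc
  exact h.cent (hz.trans hx) hxM (mem_centralizer_singleton_iff.2 hc.symm)

/-- the products of two transpositions -/
theorem case_two {M : Subgroup Fi23} {z : Fi23} (h : HP M z) (hz : IsConj z (z0 * gen .a)) : False := by
  have hfin := finite_fi23
  have key : ∀ x ∈ D, ∀ y ∈ D, x ≠ y → x * y = y * x → x * y ∈ M → ∀ c : Fi23, c * (x * y) = x * y * c → c ∈ M := by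
    intro x hx y hy hn hc hM c hcc
    exact h.cent (hz.trans (pair_conj hx hy hn hc)) hM (mem_centralizer_singleton_iff.2 hcc)
  have step : ∀ x ∈ D, ∀ y ∈ D, x ≠ y → x * y = y * x → x * y ∈ M → x ∈ M ∧ ∀ c ∈ D, c * x = x * c → c ∈ M := by
    intro x hx y hy hn hc hM
    have hxM : x ∈ M := key x hx y hy hn hc hM x (mul_comm2 rfl hc)
    refine ⟨hxM, fun c hcD ccx => ?_⟩
    by_cases hcx : c = x
    · rw [hcx]; exact hxM
    by_cases hcy : c * y = y * c
    · exact key x hx y hy hn hc hM c (mul_comm2 ccx hcy)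
    · obtain ⟨p, hp, p1, p2, -, -, p5, p6⟩ := link' hx hy hcD hn.symm hcx hc.symm ccx
      have hpM : p ∈ M := key x hx y hy hn hc hM p (mul_comm2 p2 p5)
      exact key x hx p hp (Ne.symm p1) p2.symm (M.mul_mem hxM hpM) c (mul_comm2 ccx p6.symm)
  -- the start
  obtain ⟨g, hg⟩ := isConj_iff.1 hz.symm
  have ha : (gen .a : Fi23) ≠ z0 := fun e => ta_mem.2 e
  have hza : z0 * gen .a = gen .a * z0 := ((mem_K_iff _).1 (t .a).2).symm
  have e : g * z0 * g⁻¹ * (g * gen .a * g⁻¹) = z := by rw [← hg]; group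
  have hx := conj_mem_D z0_mem_D g
  have hy := conj_mem_D (gen_mem_D .a) g
  have hn : g * z0 * g⁻¹ ≠ g * gen .a * g⁻¹ := conj_ne g ha.symm
  have hc : g * z0 * g⁻¹ * (g * gen .a * g⁻¹) = g * gen .a * g⁻¹ * (g * z0 * g⁻¹) := conj_comm g hza
  have s1 := step _ hx _ hy hn hc (by rw [e]; exact h.mem)
  have s2 := s1.2 _ hy hc.symm
  have hA : g * z0 * g⁻¹ ∈ {x : Fi23 | x ∈ M ∧ ∃ y ∈ D, y ≠ x ∧ x * y = y * x ∧ y ∈ M} :=
    ⟨s1.1, _, hy, hn.symm, hc, s2⟩
  refine h.ne (eq_top fun y hy => (conn ?_ hx hA hy).1)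
  rintro x hx ⟨hxM, y, hy, hyx, cxy, hyM⟩ w hw hxw
  by_cases hwx : w = x
  · rw [hwx]; exact ⟨hxM, y, hy, hyx, cxy, hyM⟩
  have s3 := (step x hx y hy hyx.symm cxy (M.mul_mem hxM hyM)).2 w hw hxw.symm
  exact ⟨s3, x, hx, Ne.symm hwx, hxw.symm, hxM⟩

/-- the centralizer of `z0` -/
theorem K_le {M : Subgroup Fi23} {z : Fi23} (h : HP M z) (hac : (gen .a : Fi23) ≠ gen .c)
    (hz : IsConj z (z0 * gen .a * gen .c)) {y w : K} (hy : y ∈ S) (hw : w ∈ S) (hn : y ≠ w) (hc : y * w = w * y)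
    (hM : z0 * (y : Fi23) * (w : Fi23) ∈ M) : K ≤ M := by
  have hfin := finite_fi23
  have hzy : z0 * (y : Fi23) = y * z0 := ((mem_K_iff _).1 y.2).symm
  have hzw : z0 * (w : Fi23) = w * z0 := ((mem_K_iff _).1 w.2).symm
  have hconj : IsConj z (z0 * (y : Fi23) * (w : Fi23)) :=
    hz.trans (tri_conj z0_mem_D hy.1 hw.1 (fun e => hy.2 e.symm) (fun e => hw.2 e.symm)
      (fun e => hn (Subtype.ext e)) hzy hzw (congrArg Subtype.val hc) hac)
  have hpi : _root_.Cfsg.Agent.R08.FiTwentyThree.pi (zK * y * w) = _root_.Cfsg.Agent.R08.FiTwentyThree.pi y * _root_.Cfsg.Agent.R08.FiTwentyThree.pi w := by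
    rw [map_mul, map_mul, (pi_ker zK).2 (Or.inr rfl), one_mul]
  refine le_of_hom h _root_.Cfsg.Agent.R08.FiTwentyThree.pi pi_surjective ?_ (y := zK * y * w) hconj hM ?_ Fi22.rowF0
  · intro l hl
    rw [mem_center_iff]
    intro g
    rcases (pi_ker l).1 hl with rfl | rfl
    · rw [mul_one, one_mul]
    · exact (central g).symm
  · rw [hpi]
    exact Fi22.tc_two (lifted.map y hy) (lifted.map w hw) (pi_ne hy hw hn) (by rw [← map_mul, hc, map_mul])

/-- the centralizer of a transposition -/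
theorem cent_le {M : Subgroup Fi23} {z : Fi23} (h : HP M z) (hac : (gen .a : Fi23) ≠ gen .c)
    (hz : IsConj z (z0 * gen .a * gen .c)) {x y w : Fi23} (hx : x ∈ D) (hy : y ∈ D) (hw : w ∈ D) (hn : x ≠ y)
    (hn' : x ≠ w) (hyw : y ≠ w) (hc : x * y = y * x) (hc' : x * w = w * x) (cyw : y * w = w * y)
    (hM : x * y * w ∈ M) : centralizer ({x} : Set Fi23) ≤ M := by
  obtain ⟨g, hg⟩ := isConj_iff.1 (show IsConj z0 x from hx).symm
  obtain ⟨m, s⟩ := mem_S (conj_mem_D hy g) (hg ▸ conj_comm g hc.symm) (hg ▸ conj_ne g hn.symm)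
  obtain ⟨m', s'⟩ := mem_S (conj_mem_D hw g) (hg ▸ conj_comm g hc'.symm) (hg ▸ conj_ne g hn'.symm)
  have hU := (ofHP h).cj g
  have h' := toHP hU (isTwoCentral_conj h.tc g)
  have hz' : IsConj (g * z * g⁻¹) (z0 * gen .a * gen .c) := (isConj_iff.2 ⟨g, rfl⟩ : IsConj z _).symm.trans hz
  have e : z0 * (g * y * g⁻¹) * (g * w * g⁻¹) = g * (x * y * w) * g⁻¹ := by rw [← hg]; group
  have hK := K_le h' hac hz' s s' (fun e => conj_ne g hyw (congrArg Subtype.val e)) (Subtype.ext (conj_comm g cyw))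
    (by
      show z0 * (g * y * g⁻¹) * (g * w * g⁻¹) ∈ _
      rw [e]
      exact ⟨_, hM, rfl⟩)
  intro c hcc
  rw [mem_centralizer_singleton_iff] at hcc
  have h1 : g * c * g⁻¹ ∈ K := (mem_K_iff _).2 (by rw [← hg]; exact conj_comm g hcc)
  obtain ⟨v, hv, hvc⟩ := hK h1
  have hvc' : g * v * g⁻¹ = g * c * g⁻¹ := hvc
  rw [← mul_left_cancel (mul_right_cancel hvc')]
  exact hv

/-- the products of three transpositions -/
theorem case_three {M : Subgroup Fi23} {z : Fi23} (h : HP M z) (hac : (gen .a : Fi23) ≠ gen .c)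
    (hz : IsConj z (z0 * gen .a * gen .c)) : False := by
  obtain ⟨g, hg⟩ := isConj_iff.1 hz.symm
  have ha : (gen .a : Fi23) ≠ z0 := fun e => ta_mem.2 e
  have hcz : (gen .c : Fi23) ≠ z0 := fun e => tc_mem.2 e
  have hza : z0 * gen .a = gen .a * z0 := ((mem_K_iff _).1 (t .a).2).symm
  have hzc : z0 * gen .c = gen .c * z0 := ((mem_K_iff _).1 (t .c).2).symm
  have cac : (gen .a : Fi23) * gen .c = gen .c * gen .a := congrArg Subtype.val comm_ac
  have e : g * z0 * g⁻¹ * (g * gen .a * g⁻¹) * (g * gen .c * g⁻¹) = z := by rw [← hg]; group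
  have h0 := cent_le h hac hz (conj_mem_D z0_mem_D g) (conj_mem_D (gen_mem_D .a) g) (conj_mem_D (gen_mem_D .c) g)
    (conj_ne g ha.symm) (conj_ne g hcz.symm) (conj_ne g hac) (conj_comm g hza) (conj_comm g hzc) (conj_comm g cac)
    (by rw [e]; exact h.mem)
  have hself : ∀ x : Fi23, centralizer ({x} : Set Fi23) ≤ M → x ∈ M := fun x hx =>
    hx (mem_centralizer_singleton_iff.2 rfl)
  refine h.ne (eq_top fun y hy => hself y (conn (A := {x | centralizer ({x} : Set Fi23) ≤ M}) ?_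
    (conj_mem_D z0_mem_D g) h0 hy))
  intro x hx hxM y hy hc
  by_cases hyx : y = x
  · rw [hyx]; exact hxM
  obtain ⟨p, hp, p1, p2, p3, -, p5, -⟩ := link' hx hy hy hyx hyx hc.symm hc.symm
  refine cent_le h hac hz hy hx hp hyx (Ne.symm p3) (Ne.symm p1) hc.symm p5.symm p2.symm ?_
  have m1 : y ∈ M := hxM (mem_centralizer_singleton_iff.2 hc.symm)
  have m2 : p ∈ M := hxM (mem_centralizer_singleton_iff.2 p2)
  exact M.mul_mem (M.mul_mem m1 (hself x hxM)) m2

/-- **No Holt pair in `Fi23`.** -/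
theorem rowF0 : RowF Spor.Fi23 := by
  intro M z hz hU
  have h := toHP hU hz
  have h1 : z * z = 1 := by rw [← pow_two, ← hz.1, pow_orderOf_eq_one]
  have h2 : z ≠ 1 := by
    rintro rfl
    have := hz.1
    rw [orderOf_one] at this
    omega
  rcases KFacts.FiTTh.Has.inv z h1 h2 with h3 | h3 | h3
  · exact case_one h h3
  · exact case_two h h3
  · by_cases hac : (gen .a : Fi23) = gen .c
    · refine case_one h ?_
      have hcc : (gen .c : Fi23) * gen .c = 1 := sq_D (gen_mem_D .c)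
      rwa [mul_assoc, hac, hcc, mul_one] at h3
    · exact case_three h hac h3

theorem rowF {X : Type*} [Group X] (h : Spor.IsoFi23 X) : RowF X := by
  obtain ⟨e⟩ := h
  have hfin : Finite Spor.Fi23 := finite_fi23
  have : Finite X := Finite.of_equiv _ e.symm.toEquiv
  exact rowF0.congr e

end Cfsg.Agent.HoltZ.Fi23

end

-- merged: Cfsg.Agent.HoltZ.Fi24
section

/-!
# S1729: no Holt pair in `Fi24'` (helper34)

A 2-central involution of `Fi24'` is a product of four commuting transpositions of `Fi24`; `M` contains the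
centralizers `≅ Fi23` of all the transpositions.
-/

set_option autoImplicit false
set_option linter.constructorNameAsVariable false

namespace Cfsg.Agent.HoltZ.Fi24

open Cfsg Subgroup Cfsg.Agent.HoltZ Cfsg.Agent.HoltZ.Cent Cfsg.Agent.HoltZ.TwoGen Cfsg.Agent.HoltZ.Link
open Cfsg.Spor Cfsg.Agent.R01 Cfsg.Agent.R08 Cfsg.Agent.R08.FiTwentyFour
open Cfsg.Agent.R08.TetTwo Cfsg.Agent.R08.TetFi24A
open Cfsg.Agent.OddHalf.D4.Spor.FiTF (pair_fix exists_nb exists_nb2 not_pair_of_cen)
open Cfsg.Agent.Fischer.Fi24Class (gen)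

/-- All the involutions of `Fi23` are 2-central. -/
theorem fi23_tc (k : Spor.Fi23) (hk : orderOf k = 2) : IsTwoCentralInvolution k := by
  have hfin : Finite Spor.Fi23 := FiTwentyThree.finite_fi23
  have h2 : Fact (Nat.Prime 2) := ⟨Nat.prime_two⟩
  have h1 : k * k = 1 := by rw [← pow_two, ← hk, pow_orderOf_eq_one]
  obtain ⟨y, hy, hc⟩ := KFacts.FiTTh.Has.exists_conj h1
  obtain ⟨P, -, hP⟩ := KFacts.FiTTh.Gam.exists_sylow KFacts.FiTTh.Has.loc KFacts.FiTTh.Has.odd hy
  obtain ⟨g, hg⟩ := isConj_iff.1 hc.symm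
  have hy2 : orderOf y = 2 := by
    rw [← hk, ← hg]
    exact ((MulAut.conj g).orderOf_eq y).symm
  have hyt : IsTwoCentralInvolution y := ⟨hy2, P, Comp.mem_sylow_of_comm P (isPGroup_zpowers hy2) hP, hP⟩
  rw [← hg]
  exact isTwoCentral_conj hyt g

/-- the centralizer of `x` in `Fi24'` -/
def C (x : Fi24) : Subgroup Spor.Fi24' := (centralizer ({x} : Set Fi24)).subgroupOf (_root_.commutator Fi24)

theorem mem_C {x : Fi24} {g : Spor.Fi24'} : g ∈ C x ↔ (g : Fi24) * x = x * (g : Fi24) := by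
  rw [C, mem_subgroupOf, mem_centralizer_singleton_iff]

/-- `C(l) ≅ Fi23` -/
theorem exists_hom : ∃ f : ↥(C (gen .l)) →* Spor.Fi23, Function.Bijective f := by
  have F : Facts := facts
  let e : Spor.Fi23 →* ↥(C (gen .l)) :=
    { toFun := fun k => ⟨⟨F.phi k, mem_commutator_iff.2 (F.sgn_phi k)⟩, mem_C.2 (F.phi_comm k)⟩
      map_one' := Subtype.ext (Subtype.ext (map_one F.phi))
      map_mul' := fun a b => Subtype.ext (Subtype.ext (map_mul F.phi a b)) }
  have he : Function.Bijective e := by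
    constructor
    · intro a b hab
      exact F.phi_injective (congrArg (fun v : ↥(C (gen .l)) => ((v : Spor.Fi24') : Fi24)) hab)
    · rintro ⟨⟨g, hg⟩, hgc⟩
      obtain ⟨k, hk⟩ := (F.mem_range_iff g).2 ⟨mem_C.1 hgc, mem_commutator_iff.1 hg⟩
      exact ⟨k, Subtype.ext (Subtype.ext hk)⟩
  exact ⟨(MulEquiv.ofBijective e he).symm.toMonoidHom, (MulEquiv.ofBijective e he).symm.bijective⟩

variable {M : Subgroup Spor.Fi24'} {z : Spor.Fi24'}

/-- an element `y ∈ M` conjugate to `z` and commuting with `l` -/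
theorem C_le0 (h : HP M z) {y : Spor.Fi24'} (hy : IsConj z y) (hyM : y ∈ M)
    (hc : (y : Fi24) * gen .l = gen .l * (y : Fi24)) : C (gen .l) ≤ M := by
  have := finite_Fi24
  have hfin : Finite Spor.Fi24' := inferInstance
  obtain ⟨f, hf⟩ := exists_hom
  have hy2 : orderOf y = 2 := by
    obtain ⟨g, hg⟩ := isConj_iff.1 hy
    rw [← h.tc.1, ← hg]
    exact (MulAut.conj g).orderOf_eq z
  refine le_of_hom h f hf.2 ?_ (y := ⟨y, mem_C.2 hc⟩) hy hyM (fi23_tc _ ?_) Fi23.rowF0
  · intro l hl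
    have : l = 1 := hf.1 (by rw [hl, map_one])
    rw [this]
    exact one_mem _
  · rw [orderOf_injective f hf.1, ← hy2]
    exact orderOf_mk y (mem_C.2 hc)

theorem C_le (h : HP M z) {x : Fi24} (hx : x ∈ L) {y : Spor.Fi24'} (hy : IsConj z y) (hyM : y ∈ M)
    (hc : (y : Fi24) * x = x * (y : Fi24)) : C x ≤ M := by
  have := finite_Fi24
  have hfin : Finite Spor.Fi24' := inferInstance
  -- a commuting transposition, to use the transitivity inside `Fi24'`
  obtain ⟨x', hx', hn, hxx'⟩ : ∃ x' ∈ L, x' ≠ x ∧ Commute x' x := by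
    have h1 := ncard_commuting hx
    have h2 : {c | c ∈ L ∧ c ≠ x ∧ Commute c x}.Nonempty :=
      Set.nonempty_of_ncard_ne_zero (by rw [h1]; norm_num)
    obtain ⟨c, h1, h2, h3⟩ := h2
    exact ⟨c, h1, h2, h3⟩
  obtain ⟨b, hb, hbn, hbl⟩ : ∃ x' ∈ L, x' ≠ gen .l ∧ Commute x' (gen .l) := by
    have h1 := ncard_commuting (gen_mem_L .l)
    have h2 : {c | c ∈ L ∧ c ≠ gen .l ∧ Commute c (gen .l)}.Nonempty :=
      Set.nonempty_of_ncard_ne_zero (by rw [h1]; norm_num)
    obtain ⟨c, h1, h2, h3⟩ := h2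
    exact ⟨c, h1, h2, h3⟩
  obtain ⟨g, hg, e1, -⟩ := trans2 hx hx' (gen_mem_L .l) hb hn.symm hxx'.symm hbn.symm hbl.symm
  let g' : Spor.Fi24' := ⟨g, hg⟩
  have hU := (ofHP h).cj g'
  have h' := toHP hU (isTwoCentral_conj h.tc g')
  have hy' : IsConj (g' * z * g'⁻¹) (g' * y * g'⁻¹) :=
    (isConj_iff.2 ⟨g', rfl⟩ : IsConj z _).symm.trans (hy.trans (isConj_iff.2 ⟨g', rfl⟩))
  have hc' : ((g' * y * g'⁻¹ : Spor.Fi24') : Fi24) * gen .l = gen .l * ((g' * y * g'⁻¹ : Spor.Fi24') : Fi24) := by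
    rw [← e1]
    show g * (y : Fi24) * g⁻¹ * (g * x * g⁻¹) = g * x * g⁻¹ * (g * (y : Fi24) * g⁻¹)
    calc g * (y : Fi24) * g⁻¹ * (g * x * g⁻¹) = g * ((y : Fi24) * x) * g⁻¹ := by group
      _ = g * (x * (y : Fi24)) * g⁻¹ := by rw [hc]
      _ = _ := by group
  have hC := C_le0 h' hy' ⟨y, hyM, rfl⟩ hc'
  intro c hcc
  rw [mem_C] at hcc
  have h1 : g' * c * g'⁻¹ ∈ C (gen .l) := by
    rw [mem_C, ← e1]
    show g * (c : Fi24) * g⁻¹ * (g * x * g⁻¹) = g * x * g⁻¹ * (g * (c : Fi24) * g⁻¹)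
    calc g * (c : Fi24) * g⁻¹ * (g * x * g⁻¹) = g * ((c : Fi24) * x) * g⁻¹ := by group
      _ = g * (x * (c : Fi24)) * g⁻¹ := by rw [hcc]
      _ = _ := by group
  obtain ⟨v, hv, hvc⟩ := hC h1
  have hvc' : g' * v * g'⁻¹ = g' * c * g'⁻¹ := hvc
  rw [← mul_left_cancel (mul_right_cancel hvc')]
  exact hv

/-- the commuting graph on `L` is connected -/
theorem conn {A : Set Fi24} (hA : ∀ x ∈ L, x ∈ A → ∀ y ∈ L, x * y = y * x → y ∈ A) {x : Fi24} (hx : x ∈ L)
    (hxA : x ∈ A) {y : Fi24} (hy : y ∈ L) : y ∈ A := by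
  have F : Facts := facts
  obtain ⟨R, h1, -, h3⟩ := F.exists_rank3
  refine conn_set R ?_ h3 hA hx hxA hy
  obtain ⟨u, hu, v, hv, huv⟩ := Fi23.exists_ncomm
  have hlu := F.commuting_iff.2 ⟨(u : Spor.Fi23), hu.1, rfl⟩
  have hlv := F.commuting_iff.2 ⟨(v : Spor.Fi23), hv.1, rfl⟩
  obtain ⟨p, hp⟩ : gen .l * F.phi (u : Spor.Fi23) ∈ Set.range R.t := h3 ▸ hlu.1
  obtain ⟨q, hq⟩ : gen .l * F.phi (v : Spor.Fi23) ∈ Set.range R.t := h3 ▸ hlv.1
  refine ⟨p, q, ?_, ?_, ?_⟩
  · rw [R.com_def, h1, hp]; exact hlu.2.2.symm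
  · rw [R.com_def, h1, hq]; exact hlv.2.2.symm
  · rw [R.com_def, hp, hq]
    intro e
    apply huv
    apply Subtype.ext
    apply F.phi_injective
    have e' : gen .l * (gen .l * (F.phi u * F.phi v)) = gen .l * (gen .l * (F.phi v * F.phi u)) := by
      have c1 := F.phi_comm u
      have c2 := F.phi_comm v
      calc gen .l * (gen .l * (F.phi u * F.phi v)) = gen .l * ((gen .l * F.phi u) * F.phi v) := by group
        _ = gen .l * ((F.phi u * gen .l) * F.phi v) := by rw [c1]
        _ = gen .l * F.phi u * (gen .l * F.phi v) := by group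
        _ = gen .l * F.phi v * (gen .l * F.phi u) := e
        _ = gen .l * ((F.phi v * gen .l) * F.phi u) := by group
        _ = gen .l * ((gen .l * F.phi v) * F.phi u) := by rw [c2]
        _ = gen .l * (gen .l * (F.phi v * F.phi u)) := by group
    have e2 := mul_left_cancel (mul_left_cancel e')
    show F.phi ((u : Spor.Fi23) * v) = F.phi ((v : Spor.Fi23) * u)
    rw [map_mul, map_mul, e2]

/-- **No Holt pair in `Fi24'`.** -/
theorem rowF0 : RowF Spor.Fi24' := by
  have := finite_Fi24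
  have hfin : Finite Spor.Fi24' := inferInstance
  have hsimple : IsSimpleGroup Spor.Fi24' := isFi24'.1
  intro M z hz hU
  have h := toHP hU hz
  have tet : ∀ y : Spor.Fi24', IsTwoCentralInvolution y → ∃ a b c d, IsTet L (y : Fi24) a b c d := by
    intro y hy
    have h1 : y * y = 1 := by rw [← pow_two, ← hy.1, pow_orderOf_eq_one]
    have h2 : y ≠ 1 := by
      rintro rfl
      have := hy.1
      rw [orderOf_one] at this
      omega
    rcases Cfsg.Agent.OddHalf.D4.Spor.FiTF.facts.invol y y.2 (congrArg Subtype.val h1)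
      (fun h => h2 (Subtype.ext h)) with ⟨a, ha, b, hb, nab, cab, h3⟩ | h3
    · exfalso
      obtain ⟨Q⟩ := exists_at ha hb nab cab
      obtain ⟨-, P, -, hP⟩ := hy
      exact not_pair_of_cen Q h3 ⟨P, hP⟩
    · exact h3
  obtain ⟨a, b, c, d, ht⟩ := tet z hz
  have conj : ∀ y : Spor.Fi24', (∃ a' b' c' d', IsTet L (y : Fi24) a' b' c' d') → IsConj z y := by
    rintro y ⟨a', b', c', d', hy⟩
    obtain ⟨g, hg, e1, e2, e3, e4⟩ := TetBig.quad TetBigInst.hyp ht hy
    refine isConj_iff.2 ⟨⟨g, hg⟩, ?_⟩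
    apply Subtype.ext
    show g * (z : Fi24) * g⁻¹ = y
    rw [← ht.prod, ← hy.prod, TetBig.conj_mul, TetBig.conj_mul, TetBig.conj_mul, e1, e2, e3, e4]
  have ha : C a ≤ M := by
    refine C_le h ht.ha (IsConj.refl z) h.mem ?_
    rw [← ht.prod]
    have h1 : Commute (a * b * c * d) a :=
      (((Commute.refl a).mul_left ht.ab.symm).mul_left ht.ac.symm).mul_left ht.ad.symm
    exact h1
  -- all the centralizers
  have hall : ∀ x ∈ L, C x ≤ M := by
    intro x hx
    refine conn (A := {x | C x ≤ M}) ?_ ht.ha ha hx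
    intro x hx hxM y hy hxy
    by_cases hyx : y = x
    · rw [hyx]; exact hxM
    obtain ⟨P⟩ := exists_at hy hx hyx hxy.symm
    obtain ⟨c, hc⟩ := exists_nb P
    obtain ⟨d, hd, hcd, ncd⟩ := exists_nb2 P hc
    have hy' : y * x * c * d ∈ _root_.commutator Fi24 := by
      have := (_root_.commutator Fi24).mul_mem (_root_.Cfsg.Agent.R08.FiTwentyFour.even hy hx) (_root_.Cfsg.Agent.R08.FiTwentyFour.even hc.hc hd.hc)
      simpa [mul_assoc] using this
    have hT : IsTet L (((⟨y * x * c * d, hy'⟩ : Spor.Fi24') : Fi24)) y x c d :=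
      ⟨hy, hx, hc.hc, hd.hc, hxy.symm, hc.ca.symm, hd.ca.symm, hc.cb.symm, hd.cb.symm, hcd, hyx, hc.na.symm,
        hd.na.symm, hc.nb.symm, hd.nb.symm, ncd, rfl⟩
    have cx : Commute (y * x * c * d) x :=
      (((show Commute y x from hxy.symm).mul_left (Commute.refl x)).mul_left hc.cb).mul_left hd.cb
    have cy : Commute (y * x * c * d) y :=
      (((Commute.refl y).mul_left (show Commute x y from hxy)).mul_left hc.ca).mul_left hd.ca
    exact C_le h hy (conj _ ⟨y, x, c, d, hT⟩) (hxM (mem_C.2 cx)) cy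
  -- the products of two commuting transpositions generate
  obtain ⟨P⟩ := exists_at ht.ha ht.hb ht.nab ht.ab
  let w : Spor.Fi24' := ⟨a * b, _root_.Cfsg.Agent.R08.FiTwentyFour.even ht.ha ht.hb⟩
  have hw1 : w ≠ 1 := by
    intro h1
    exact Cfsg.Agent.OddHalf.D4.Spor.FiTF.pair_ne ht.hb ht.nab (congrArg Subtype.val h1)
  have hnc : Subgroup.normalClosure ({w} : Set Spor.Fi24') ≤ M := by
    rw [Subgroup.normalClosure, closure_le]
    intro v hv
    obtain ⟨u, hu, huv⟩ := Group.mem_conjugatesOfSet_iff.1 hv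
    rw [Set.mem_singleton_iff] at hu
    subst hu
    obtain ⟨g, rfl⟩ := isConj_iff.1 huv
    refine hall _ (conj_mem_L ht.ha (g : Fi24)) (mem_C.2 ?_)
    show (g : Fi24) * (a * b) * (g : Fi24)⁻¹ * ((g : Fi24) * a * (g : Fi24)⁻¹) =
      (g : Fi24) * a * (g : Fi24)⁻¹ * ((g : Fi24) * (a * b) * (g : Fi24)⁻¹)
    have h1 : a * b * a = a * (a * b) := by rw [mul_assoc, ← ht.ab.eq]
    calc (g : Fi24) * (a * b) * (g : Fi24)⁻¹ * ((g : Fi24) * a * (g : Fi24)⁻¹)
        = (g : Fi24) * (a * b * a) * (g : Fi24)⁻¹ := by group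
      _ = (g : Fi24) * (a * (a * b)) * (g : Fi24)⁻¹ := by rw [h1]
      _ = _ := by group
  rcases (Subgroup.normalClosure_normal (s := ({w} : Set Spor.Fi24'))).eq_bot_or_eq_top with h1 | h1
  · apply hw1
    have : w ∈ Subgroup.normalClosure ({w} : Set Spor.Fi24') := Subgroup.subset_normalClosure rfl
    rw [h1, mem_bot] at this
    exact this
  · exact h.ne (top_le_iff.1 (h1 ▸ hnc))

theorem rowF {X : Type*} [Group X] (h : Spor.IsoFi24' X) : RowF X := by
  obtain ⟨e⟩ := h
  have := finite_Fi24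
  have hfin : Finite Spor.Fi24' := inferInstance
  have : Finite X := Finite.of_equiv _ e.symm.toEquiv
  exact rowF0.congr e

end Cfsg.Agent.HoltZ.Fi24

end

-- merged: Cfsg.Agent.HoltZ.Psp2
section

/-!
# Holt's theorem for `PSp_4(F)`, `|F|` odd
-/

set_option autoImplicit false
set_option linter.unusedSectionVars false

namespace Cfsg.Agent.HoltZ.Psp

open Matrix Subgroup Cfsg Cfsg.Agent.ClassicalGeometry.SympBasic

variable {F : Type*} [Field F]

local notation "V" => (Fin 2 ⊕ Fin 2 → F)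
local notation "G" => Matrix.symplecticGroup (Fin 2) F
local notation "f" => sympForm 2 F
local notation "Mat" => Matrix (Fin 2 ⊕ Fin 2) (Fin 2 ⊕ Fin 2) F
local notation "SL" => Matrix.SpecialLinearGroup (Fin 2) F

/-- a first column can be completed -/
theorem exists_col (a b : F) (h : a ≠ 0 ∨ b ≠ 0) : ∃ g : SL, g 0 0 = a ∧ g 1 0 = b := by
  by_cases ha : a = 0
  · have hb : b ≠ 0 := by rcases h with h | h; exact absurd ha h; exact h
    refine ⟨⟨!![a, -b⁻¹; b, 0], ?_⟩, rfl, rfl⟩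
    rw [det_fin_two_of]
    linear_combination mul_inv_cancel₀ hb
  · refine ⟨⟨!![a, 0; b, a⁻¹], ?_⟩, rfl, rfl⟩
    rw [det_fin_two_of]
    linear_combination mul_inv_cancel₀ ha

/-- the sign `1` on the first plane and `-1` on the second -/
def sg (F : Type*) [Field F] (i : Fin 2) : F := if i = 0 then 1 else -1

theorem sg_zero : sg F 0 = 1 := rfl
theorem sg_one : sg F 1 = -1 := rfl

/-- the map `(v, w) ↦ (A (v + w), A (v - w))`, `A = diag(1, 1/2)` -/
def sf (v : V) : V :=
  Sum.elim (fun i => v (.inl 0) + sg F i * v (.inl 1)) (fun i => (v (.inr 0) + sg F i * v (.inr 1)) / 2)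

theorem sf_inl (v : V) (i : Fin 2) : sf v (.inl i) = v (.inl 0) + sg F i * v (.inl 1) := rfl
theorem sf_inr (v : V) (i : Fin 2) : sf v (.inr i) = (v (.inr 0) + sg F i * v (.inr 1)) / 2 := rfl

theorem sf_form (h2 : (2 : F) ≠ 0) (u v : V) : f (sf u) (sf v) = f u v := by
  rw [sympForm_eq_sum, sympForm_eq_sum, Fin.sum_univ_two, Fin.sum_univ_two]
  simp only [sf_inl, sf_inr, sg_zero, sg_one]
  field_simp
  ring

/-- the corresponding element -/
def sig (h2 : (2 : F) ≠ 0) : G := ofFun sf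
    (fun u v => by
      ext (i | i)
      · simp only [sf_inl, Pi.add_apply]; ring
      · simp only [sf_inr, Pi.add_apply]; ring)
    (fun a v => by
      ext (i | i)
      · simp only [sf_inl, Pi.smul_apply, smul_eq_mul]; ring
      · simp only [sf_inr, Pi.smul_apply, smul_eq_mul]; ring)
    (sf_form h2)

theorem sig_mulVec (h2 : (2 : F) ≠ 0) (v : V) : ((sig h2 : G) : Mat) *ᵥ v = sf v :=
  ofFun_mulVec _ _ _ (sf_form h2) v

theorem conj_sig_mulVec (h2 : (2 : F) ≠ 0) {z : G} {e : Fin 2 → F} (hz : Dg z e) (h01 : e 1 = - e 0) (v : V) :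
    ((sig h2 * z * (sig h2)⁻¹ : G) : Mat) *ᵥ v = e 0 • pf (Equiv.swap 0 1) v := by
  obtain ⟨u, rfl⟩ : ∃ u : V, v = ((sig h2 : G) : Mat) *ᵥ u := ⟨_, (mulVec_inv_self (sig h2) v).symm⟩
  rw [coe_mul_mulVec, coe_mul_mulVec, inv_mulVec_self, sig_mulVec, sig_mulVec]
  ext (i | i)
  · rw [Pi.smul_apply, pf_inl, sf_inl, sf_inl, hz.inl, hz.inl, smul_eq_mul, h01]
    fin_cases i
    · simp only [sg_zero, sg_one, _root_.Fin.isValue, _root_.Fin.zero_eta, _root_.neg_mul, _root_.mul_neg, _root_.one_mul, _root_.Equiv.symm_swap, _root_.Equiv.swap_apply_left]; ring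
    · simp only [sg_zero, sg_one, _root_.Fin.isValue, _root_.Fin.mk_one, _root_.neg_mul, _root_.mul_neg, _root_.one_mul, _root_.neg_neg, _root_.Equiv.symm_swap, _root_.Equiv.swap_apply_right]; ring
  · rw [Pi.smul_apply, pf_inr, sf_inr, sf_inr, hz.inr, hz.inr, smul_eq_mul, h01]
    fin_cases i
    · simp only [sg_zero, sg_one, _root_.Fin.isValue, _root_.Fin.zero_eta, _root_.neg_mul, _root_.mul_neg, _root_.one_mul, _root_.Equiv.symm_swap, _root_.Equiv.swap_apply_left]; ring
    · simp only [sg_zero, sg_one, _root_.Fin.isValue, _root_.Fin.mk_one, _root_.neg_mul, _root_.mul_neg, _root_.one_mul, _root_.neg_neg, _root_.Equiv.symm_swap, _root_.Equiv.swap_apply_right]; ring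

theorem rowF_two [Finite F] (h2 : (2 : F) ≠ 0) : RowF (PSp 2 F) := by
  have := Fintype.ofFinite F
  obtain ⟨x, y, hxy⟩ := exists_sq_add_sq h2 (-1)
  intro M z hz hU
  obtain ⟨M', z', g, -, hz', hU', hD, hc⟩ := exists_position hz hU
    (((Subgroup.pi Set.univ (fun _ : Fin 2 => Q hxy)).map (blk (m := 2))).map (QuotientGroup.mk' (center G)))
    ((isPGroup_Q hxy).map _)
  obtain ⟨t, rfl⟩ := QuotientGroup.mk'_surjective (center G) z'
  have hUt := hU'.comap (QuotientGroup.mk' (center G)) (QuotientGroup.mk'_surjective _) (t := t) rfl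
  obtain ⟨e, he, he'⟩ := exists_dg h2 (by omega) hxy (z := t) (fun i g hg =>
    exists_scalar (by omega) (hc _ (mem_map_of_mem _ (mulSingle_mem hxy i hg))))
  by_cases h01 : e 0 = e 1
  · exact false_of_eq le_rfl hUt he he' (i := 0) (j := 1) (by decide) h01
  have h01' : e 1 = - e 0 := by
    have h1 : (e 0 - e 1) * (e 0 + e 1) = 0 := by linear_combination he' 0 - he' 1
    rcases mul_eq_zero.1 h1 with h | h
    · exact absurd (sub_eq_zero.1 h) h01
    · linear_combination h
  obtain ⟨t', ht'⟩ : ∃ t', t' = sig h2 * t * (sig h2)⁻¹ := ⟨_, rfl⟩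
  have hact : ∀ v : V, (t' : Mat) *ᵥ v = e 0 • pf (Equiv.swap 0 1) v := fun v => by
    rw [ht']; exact conj_sig_mulVec h2 he h01' v
  have hanti : ∀ v : V, (t : Mat) *ᵥ ((t' : Mat) *ᵥ v) = - ((t' : Mat) *ᵥ ((t : Mat) *ᵥ v)) := by
    intro v
    rw [hact, hact]
    ext (i | i)
    · rw [he.inl, Pi.smul_apply, pf_inl, Pi.neg_apply, Pi.smul_apply, pf_inl, he.inl, smul_eq_mul, smul_eq_mul]
      fin_cases i
      · simp [h01']
      · simp [h01']
    · rw [he.inr, Pi.smul_apply, pf_inr, Pi.neg_apply, Pi.smul_apply, pf_inr, he.inr, smul_eq_mul, smul_eq_mul]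
      fin_cases i
      · simp [h01']
      · simp [h01']
  -- `sig ∈ M`
  have hcomm : (QuotientGroup.mk' (center G)) (t' * t) = (QuotientGroup.mk' (center G)) (t * t') := by
    refine QuotientGroup.eq.2 ?_
    rw [Cfsg.Agent.LieClassical.SympCenter.mem_center_iff]
    refine ⟨-1, Matrix.mulVec_injective (funext fun v => ?_)⟩
    change (((t' * t)⁻¹ * (t * t') : G) : Mat) *ᵥ v = _
    rw [coe_mul_mulVec, coe_mul_mulVec t t', hanti, ← coe_mul_mulVec t' t, mulVec_neg, inv_mulVec_self, smul_mulVec,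
      one_mulVec, neg_one_smul]
  have hsig : (sig h2 : G) ∈ M'.comap (QuotientGroup.mk' (center G)) := by
    rw [Subgroup.mem_comap]
    refine hU'.exch ?_
    rw [← map_inv, ← map_mul, ← map_mul, ← ht', ← map_mul, ← map_mul]
    exact hcomm
  have ht'M : sig h2 * t * (sig h2)⁻¹ ∈ M'.comap (QuotientGroup.mk' (center G)) :=
    mul_mem (mul_mem hsig hUt.mem) (inv_mem hsig)
  have hU2 := hUt.conj ht'M
  rw [← ht'] at hU2
  -- all transvections
  apply hUt.ne
  rw [eq_top_iff, ← Cfsg.Agent.S0765.result (F := F) 2, closure_le]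
  rintro A ⟨w, a, hA⟩
  have hAw : A = transv w a := Subtype.ext hA
  rw [hAw, SetLike.mem_coe]
  by_cases hw0 : w (.inl 0) = 0 ∧ w (.inr 0) = 0
  · refine hUt.comm (transv_comm_of_eigen (he' 1) ?_ a)
    ext (i | i)
    · rw [he.inl, Pi.smul_apply, smul_eq_mul]
      fin_cases i
      · simp [hw0.1]
      · rfl
    · rw [he.inr, Pi.smul_apply, smul_eq_mul]
      fin_cases i
      · simp [hw0.2]
      · rfl
  by_cases hw1 : w (.inl 1) = 0 ∧ w (.inr 1) = 0
  · refine hUt.comm (transv_comm_of_eigen (he' 0) ?_ a)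
    ext (i | i)
    · rw [he.inl, Pi.smul_apply, smul_eq_mul]
      fin_cases i
      · rfl
      · simp [hw1.1]
    · rw [he.inr, Pi.smul_apply, smul_eq_mul]
      fin_cases i
      · rfl
      · simp [hw1.2]
  obtain ⟨g0, hg0, hg0'⟩ := exists_col (w (.inl 0)) (w (.inr 0)) (by (clear * - hw0; tauto))
  obtain ⟨g1, hg1, hg1'⟩ := exists_col (w (.inl 1)) (w (.inr 1)) (by (clear * - hw1; tauto))
  obtain ⟨γ, hγ⟩ : ∃ γ : Fin 2 → SL, γ = ![g0, g1] := ⟨_, rfl⟩
  obtain ⟨u, hu⟩ : ∃ u : V, u = Sum.elim (fun _ => 1) (fun _ => 0) := ⟨_, rfl⟩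
  have hγu : ((blk γ : G) : Mat) *ᵥ u = w := by
    rw [blk_mulVec, hγ, hu]
    ext (i | i)
    · rw [bf_inl]
      fin_cases i
      · simpa using hg0
      · simpa using hg1
    · rw [bf_inr]
      fin_cases i
      · simpa using hg0'
      · simpa using hg1'
  have hγM : blk γ ∈ M'.comap (QuotientGroup.mk' (center G)) := hUt.comm (he.comm_blk γ)
  have huM : transv u a ∈ M'.comap (QuotientGroup.mk' (center G)) := by
    refine hU2.comm (transv_comm_of_eigen (he' 0) ?_ a)
    rw [hact, hu]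
    ext (i | i)
    · rw [Pi.smul_apply, Pi.smul_apply, pf_inl]; rfl
    · rw [Pi.smul_apply, Pi.smul_apply, pf_inr]; rfl
  have := mul_mem (mul_mem hγM huM) (inv_mem hγM)
  rwa [conj_transv, hγu] at this

/-- **The row `PSp_2m(F)`, `m ≥ 2`, `|F|` odd.** -/
theorem rowF [Finite F] (h2 : (2 : F) ≠ 0) {m : ℕ} (hm : 2 ≤ m) : RowF (PSp m F) := by
  rcases Nat.lt_or_ge 2 m with h | h
  · exact rowF_of_three h2 h
  · obtain rfl : m = 2 := by omega
    exact rowF_two h2

end Cfsg.Agent.HoltZ.Psp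

end

-- merged: Cfsg.Agent.HoltZ.PsuBasic
section

/-!
# Holt's theorem for `PSU_n(q)`, `q` odd, `n ≥ 4`: the final position
-/

set_option autoImplicit false
set_option linter.unusedSectionVars false

namespace Cfsg.Agent.HoltZ.Psu

open Matrix Subgroup Cfsg Cfsg.Agent.LieClassical.SLGen
open Cfsg.Agent.LieClassical.HermBasic Cfsg.Agent.ClassicalGeometry.UnitTransv
open Cfsg.Agent.ClassicalGeometry.UnitGen Cfsg.Agent.ClassicalGeometry.UnitGenTwo

section Rot

variable {F : Type*} [Field F] {n : ℕ}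

theorem exists_rot_ne {i j : Fin n} (hij : i ≠ j) {a b c d : F} (h : a * d - b * c = 1) (hc : c ≠ 0) :
    ∃ g : _root_.Matrix.SpecialLinearGroup (Fin n) F, ∀ (v : Fin n → F) (k : Fin n), (g • v) k =
      if k = i then a * v i + b * v j else if k = j then c * v i + d * v j else v k := by
  refine ⟨SpecialLinearGroup.transvection hij ((a - 1) / c) * SpecialLinearGroup.transvection hij.symm c *
    SpecialLinearGroup.transvection hij ((d - 1) / c), fun v k => ?_⟩
  simp only [mul_smul, transvection_smul]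
  by_cases hk : k = i
  · subst hk
    simp only [hij, hij.symm, _root_.Pi.add_apply, _root_.Pi.smul_apply, _root_.Pi.single_eq_same, _root_.smul_eq_mul, _root_.mul_one, _root_.ne_eq, _root_.not_false_eq_true, _root_.Pi.single_eq_of_ne, _root_.MulZeroClass.mul_zero, _root_.add_zero, ↓ _root_.reduceIte]
    field_simp
    linear_combination v j * h
  · by_cases hk' : k = j
    · subst hk'
      simp only [hij, hij.symm, _root_.Pi.add_apply, _root_.Pi.smul_apply, _root_.Pi.single_eq_same, _root_.smul_eq_mul, _root_.mul_one, _root_.ne_eq, _root_.not_false_eq_true, _root_.Pi.single_eq_of_ne, _root_.MulZeroClass.mul_zero, _root_.add_zero, ↓ _root_.reduceIte]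
      field_simp
      ring
    · simp [hk, hk']

theorem exists_rot {i j : Fin n} (hij : i ≠ j) {a b c d : F} (h : a * d - b * c = 1) :
    ∃ g : _root_.Matrix.SpecialLinearGroup (Fin n) F, ∀ (v : Fin n → F) (k : Fin n), (g • v) k =
      if k = i then a * v i + b * v j else if k = j then c * v i + d * v j else v k := by
  by_cases hc : c = 0
  · subst hc
    have ha : a ≠ 0 := by rintro rfl; simp at h
    obtain ⟨g, hg⟩ := exists_rot_ne hij (a := a) (b := b) (c := a) (d := b + d) (by linear_combination h) ha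
    refine ⟨SpecialLinearGroup.transvection hij.symm (-1) * g, fun v k => ?_⟩
    rw [mul_smul, transvection_smul]
    by_cases hk : k = i
    · subst hk
      simp only [hij, hg, ↓ _root_.reduceIte, _root_.neg_mul, _root_.one_mul, _root_.neg_add_rev, _root_.Pi.add_apply, _root_.Pi.smul_apply, _root_.ne_eq, _root_.not_false_eq_true, _root_.Pi.single_eq_of_ne, _root_.smul_eq_mul, _root_.MulZeroClass.mul_zero, _root_.add_zero]
    · by_cases hk' : k = j
      · subst hk'
        simp only [hij.symm, hg, ↓ _root_.reduceIte, _root_.neg_mul, _root_.one_mul, _root_.neg_add_rev, _root_.Pi.add_apply, _root_.Pi.smul_apply, _root_.Pi.single_eq_same, _root_.smul_eq_mul, _root_.mul_one, _root_.MulZeroClass.zero_mul, _root_.zero_add]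
        ring
      · simp only [hk, hk', hg, ↓ _root_.reduceIte, _root_.neg_mul, _root_.one_mul, _root_.neg_add_rev, _root_.Pi.add_apply, _root_.Pi.smul_apply, _root_.ne_eq, _root_.not_false_eq_true, _root_.Pi.single_eq_of_ne, _root_.smul_eq_mul, _root_.MulZeroClass.mul_zero, _root_.add_zero]
  · exact exists_rot_ne hij h hc

end Rot

variable {F : Type*} [Field F] [Fintype F] {n q : ℕ} (hF : Fintype.card F = q ^ 2)

theorem herm_split {i j : Fin n} (hij : i ≠ j) (x y : Fin n → F) :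
    hermForm n F q x y = x i * y i ^ q + (x j * y j ^ q + ∑ k ∈ (Finset.univ.erase i).erase j, x k * y k ^ q) := by
  rw [herm_def, ← Finset.add_sum_erase _ _ (Finset.mem_univ i),
    ← Finset.add_sum_erase _ _ (Finset.mem_erase.2 ⟨hij.symm, Finset.mem_univ j⟩)]

include hF in
/-- the rotation in the coordinates `i`, `j` -/
theorem exists_rotU {i j : Fin n} (hij : i ≠ j) {α β : F} (h : α * α ^ q + β * β ^ q = 1) :
    ∃ g : SU n F q, ∀ (v : Fin n → F) (k : Fin n), act g v k =
      if k = i then α * v i + β * v j else if k = j then -β ^ q * v i + α ^ q * v j else v k := by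
  obtain ⟨g, hg⟩ := exists_rot hij (a := α) (b := β) (c := -β ^ q) (d := α ^ q) (by linear_combination h)
  refine ⟨⟨g, fun x y => ?_⟩, hg⟩
  change hermForm n F q (g • x) (g • y) = _
  rw [herm_split hij, herm_split hij x y]
  have h1 : ∑ k ∈ (Finset.univ.erase i).erase j, (g • x) k * (g • y) k ^ q =
      ∑ k ∈ (Finset.univ.erase i).erase j, x k * y k ^ q := by
    refine Finset.sum_congr rfl fun k hk => ?_
    rw [Finset.mem_erase, Finset.mem_erase] at hk
    rw [hg, hg, if_neg hk.2.1, if_neg hk.1, if_neg hk.2.1, if_neg hk.1]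
  rw [h1, hg, hg, hg, hg, if_pos rfl, if_pos rfl, if_neg hij.symm, if_pos rfl, if_neg hij.symm, if_pos rfl,
    add_pow_q hF, add_pow_q hF, mul_pow, mul_pow, mul_pow, mul_pow, neg_pow_q hF, pow_q_pow_q hF, pow_q_pow_q hF]
  linear_combination (x i * y i ^ q + x j * y j ^ q) * h

/-- `g` acts in the coordinates `k`, `l` only: it commutes with all diagonal operators with equal entries at `k`, `l`. -/
def Loc (k l : Fin n) (g : SU n F q) : Prop :=
  ∀ d : Fin n → F, d k = d l → ∀ v, act g (d * v) = d * act g v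

theorem loc_rot {k l : Fin n} {g : SU n F q} {a b c d : F} (hg : ∀ (v : Fin n → F) (t : Fin n), act g v t =
      if t = k then a * v k + b * v l else if t = l then c * v k + d * v l else v t) : Loc k l g := by
  intro e he v
  ext t
  rw [Pi.mul_apply, hg, hg]
  by_cases h1 : t = k
  · subst h1
    rw [if_pos rfl, if_pos rfl, Pi.mul_apply, Pi.mul_apply, ← he]; ring
  · by_cases h2 : t = l
    · subst h2
      rw [if_neg h1, if_pos rfl, if_neg h1, if_pos rfl, Pi.mul_apply, Pi.mul_apply, he]; ring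
    · rw [if_neg h1, if_neg h2, if_neg h1, if_neg h2, Pi.mul_apply]

theorem loc_utv {k l : Fin n} {v : Fin n → F} (hs : ∀ t, t ≠ k → t ≠ l → v t = 0) {c : F}
    (hv : hermForm n F q v v = 0) (hc : c + c ^ q = 0) : Loc k l (utv hF v c hv hc) := by
  intro e he x
  rw [act_utv, act_utv]
  have h1 : hermForm n F q (e * x) v = e k * hermForm n F q x v := by
    rw [herm_def, herm_def, Finset.mul_sum]
    refine Finset.sum_congr rfl fun t _ => ?_
    rw [Pi.mul_apply]
    by_cases h1 : t = k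
    · subst h1; ring
    · by_cases h2 : t = l
      · subst h2; rw [he]; ring
      · rw [hs t h1 h2, zero_pow_q hF]; ring
  rw [h1]
  ext t
  rw [Pi.add_apply, Pi.mul_apply, Pi.mul_apply, Pi.smul_apply, Pi.add_apply, Pi.smul_apply, smul_eq_mul, smul_eq_mul]
  by_cases h1 : t = k
  · subst h1; ring
  · by_cases h2 : t = l
    · subst h2; rw [he]; ring
    · rw [hs t h1 h2]; ring

include hF in
/-- the swap -/
theorem exists_swap {a b : Fin n} (hab : a ≠ b) : ∃ s : SU n F q, ∀ (d v : Fin n → F),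
    act s (d * v) = (fun k => d (Equiv.swap a b k)) * act s v := by
  obtain ⟨s, hs⟩ := exists_rotU hF hab (α := 0) (β := 1) (q := q) (n := n) (by rw [zero_pow_q hF, one_pow]; ring)
  refine ⟨s, fun d v => ?_⟩
  ext k
  rw [Pi.mul_apply, hs, hs]
  by_cases h1 : k = a
  · subst h1
    rw [if_pos rfl, if_pos rfl, Pi.mul_apply, Pi.mul_apply, Equiv.swap_apply_left]; ring
  · by_cases h2 : k = b
    · subst h2
      rw [if_neg h1, if_pos rfl, if_neg h1, if_pos rfl, Pi.mul_apply, Pi.mul_apply, Equiv.swap_apply_right,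
        zero_pow_q hF]
      ring
    · rw [if_neg h1, if_neg h2, if_neg h1, if_neg h2, Pi.mul_apply, Equiv.swap_apply_of_ne_of_ne h1 h2]

include hF in
/-- **The diagonal case.** -/
theorem false_of_diagonal (h2 : (2 : F) ≠ 0) (h3 : 3 ≤ n) {M : Subgroup (SU n F q)} {z : SU n F q} (hU : UF M z)
    {c : Fin n → F} (hc : ∀ v, act z v = c * v) {i j : Fin n} (hij : i ≠ j) (hcij : c i = c j) : False := by
  classical
  -- swaps
  have hsw : ∀ {a b : Fin n} (hab : a ≠ b), ∃ s ∈ M, ∀ (d v : Fin n → F),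
      act s (d * v) = (fun k => d (Equiv.swap a b k)) * act s v := by
    intro a b hab
    obtain ⟨s, hs⟩ := exists_swap hF hab (q := q) (n := n)
    refine ⟨s, hU.exch ?_, hs⟩
    apply ext_act
    intro v
    have h1 : ∀ v, act (s * z * s⁻¹) v = (fun k => c (Equiv.swap a b k)) * v := by
      intro v
      rw [act_mul, act_mul, hc, hs, act_act_inv]
    rw [act_mul, act_mul z, h1, h1, hc, hc]
    ext k
    simp only [Pi.mul_apply]
    ring
  have hG0 : ∀ g : SU n F q, Loc i j g → g ∈ M := by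
    intro g hg
    refine hU.comm ?_
    apply ext_act
    intro v
    rw [act_mul, act_mul, hc, hc, hg c hcij]
  have hGs : ∀ {a b : Fin n} (_ : a ≠ b) {k l : Fin n}, (∀ g : SU n F q, Loc k l g → g ∈ M) →
      ∀ g : SU n F q, Loc (Equiv.swap a b k) (Equiv.swap a b l) g → g ∈ M := by
    intro a b hab k l H g hg
    obtain ⟨s, hsM, hs⟩ := hsw hab
    have hs' : ∀ (d v : Fin n → F), act s⁻¹ (d * v) = (fun t => d (Equiv.swap a b t)) * act s⁻¹ v := by
      intro d v
      apply act_injective s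
      rw [act_act_inv, hs, act_act_inv]
      ext t
      rw [Pi.mul_apply, Pi.mul_apply, Equiv.swap_apply_self]
    have h1 : s⁻¹ * g * s ∈ M := by
      refine H _ (fun d hd v => ?_)
      rw [act_mul, act_mul, act_mul, act_mul, hs, hg, hs']
      · ext t
        rw [Pi.mul_apply, Pi.mul_apply, Equiv.swap_apply_self]
      · change d (Equiv.swap a b (Equiv.swap a b k)) = d (Equiv.swap a b (Equiv.swap a b l))
        rw [Equiv.swap_apply_self, Equiv.swap_apply_self, hd]
    have h4 := M.mul_mem (M.mul_mem hsM h1) (M.inv_mem hsM)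
    have h5 : s * (s⁻¹ * g * s) * s⁻¹ = g := by group
    rwa [h5] at h4
  have hGs' : ∀ (a b : Fin n) {k l : Fin n}, (∀ g : SU n F q, Loc k l g → g ∈ M) →
      ∀ g : SU n F q, Loc (Equiv.swap a b k) (Equiv.swap a b l) g → g ∈ M := by
    intro a b k l H
    by_cases hab : a = b
    · subst hab; rw [Equiv.swap_self]; exact H
    · exact hGs hab H
  have hG : ∀ {k l : Fin n}, k ≠ l → ∀ g : SU n F q, Loc k l g → g ∈ M := by
    intro k l hkl
    have h1 := hGs' i k hG0
    rw [Equiv.swap_apply_left] at h1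
    have h4 := hGs' (Equiv.swap i k j) l h1
    rw [Equiv.swap_apply_left, Equiv.swap_apply_of_ne_of_ne _ hkl] at h4
    · exact h4
    · intro h
      apply hij
      apply (Equiv.swap i k).injective
      rw [Equiv.swap_apply_left]; exact h
  -- support reduction
  have key : ∀ (m : ℕ) (S : Finset (Fin n)), S.card ≤ m → ∀ (v : Fin n → F), (∀ t, t ∉ S → v t = 0) →
      ∀ (c : F) (hv : hermForm n F q v v = 0) (hc : c + c ^ q = 0), utv hF v c hv hc ∈ M := by
    intro m
    have base : ∀ S : Finset (Fin n), S.card ≤ 2 → ∀ (v : Fin n → F), (∀ t, t ∉ S → v t = 0) →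
      ∀ (c : F) (hv : hermForm n F q v v = 0) (hc : c + c ^ q = 0), utv hF v c hv hc ∈ M := by
      intro S hS v hv c hvv hcc
      obtain ⟨t, ht, htc⟩ := Finset.exists_superset_card_eq (s := S) (n := 2) hS (by rw [Fintype.card_fin]; omega)
      obtain ⟨k, l, hkl, rfl⟩ := Finset.card_eq_two.1 htc
      refine hG hkl _ (loc_utv hF (fun t ht1 ht2 => hv t (fun h => ?_)) hvv hcc)
      have := ht h
      rw [Finset.mem_insert, Finset.mem_singleton] at this
      rcases this with h | h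
      · exact ht1 h
      · exact ht2 h
    induction m with
    | zero => intro S hS; exact base S (by omega)
    | succ m ih =>
      intro S hS v hv c hvv hcc
      by_cases h2' : S.card ≤ 2
      · exact base S h2' v hv c hvv hcc
      by_cases hz0 : ∃ t ∈ S, v t = 0
      · obtain ⟨t, ht, ht0⟩ := hz0
        refine ih (S.erase t) (by rw [Finset.card_erase_of_mem ht]; omega) v (fun k hk => ?_) c hvv hcc
        by_cases hkt : k = t
        · rw [hkt]; exact ht0
        · exact hv k (fun h => hk (Finset.mem_erase.2 ⟨hkt, h⟩))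
      push Not at hz0
      -- a pair with nonzero norm
      obtain ⟨k, hk, l, hl, hkl, hN⟩ : ∃ k ∈ S, ∃ l ∈ S, k ≠ l ∧ v k * v k ^ q + v l * v l ^ q ≠ 0 := by
        by_contra hcon
        push Not at hcon
        obtain ⟨a, ha, b, hb, d, hd, hab, had, hbd⟩ := Finset.two_lt_card.1 (show 2 < S.card by omega)
        have h1 := hcon a ha b hb hab
        have h4 := hcon a ha d hd had
        have h5 := hcon b hb d hd hbd
        have h6 : 2 * (v a * v a ^ q) = 0 := by linear_combination h1 + h4 - h5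
        rcases mul_eq_zero.1 h6 with h | h
        · exact h2 h
        · exact hz0 a ha ((norm_eq_zero hF).1 h)
      obtain ⟨d, hd0, hd⟩ := exists_norm_eq_ne hF (c := v k * v k ^ q + v l * v l ^ q)
        (by rw [add_pow_q hF, norm_pow_q hF, norm_pow_q hF]) hN
      have hdq : d ^ q ≠ 0 := pow_ne_zero _ hd0
      obtain ⟨g, hg⟩ := exists_rotU hF hkl (q := q) (α := v k ^ q / d ^ q) (β := v l ^ q / d ^ q) (by
        rw [div_pow, div_pow, pow_q_pow_q hF, pow_q_pow_q hF, pow_q_pow_q hF]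
        field_simp
        linear_combination -hd)
      have hgM : g ∈ M := hG hkl g (loc_rot hg)
      have hgv : hermForm n F q (act g v) (act g v) = 0 := by rw [herm_act, hvv]
      have hrec := ih (S.erase l) (by rw [Finset.card_erase_of_mem hl]; omega) (act g v) (fun t ht => ?_) c hgv hcc
      · have h4 := M.mul_mem (M.mul_mem (M.inv_mem hgM) hrec) hgM
        have h5 : g⁻¹ * utv hF (act g v) c hgv hcc * g = utv hF v c hvv hcc := by
          apply ext_act
          intro x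
          rw [act_mul, act_mul, act_utv, act_utv, herm_act, act_add, act_smul, act_inv_act, act_inv_act]
        rwa [h5] at h4
      · rw [hg]
        by_cases htl : t = l
        · subst htl
          rw [if_neg hkl.symm, if_pos rfl, div_pow, div_pow, pow_q_pow_q hF, pow_q_pow_q hF, pow_q_pow_q hF]
          ring
        · have htS : t ∉ S := fun h => ht (Finset.mem_erase.2 ⟨htl, h⟩)
          have htk : t ≠ k := fun e => htS (e ▸ hk)
          rw [if_neg htk, if_neg htl]
          exact hv t htS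
  have hq2 : ¬ (n = 3 ∧ q = 2) := by
    rintro ⟨-, rfl⟩
    exact h2 (two_eq_zero hF)
  apply hU.ne
  rw [eq_top_iff, ← T_eq_top hF hq2]
  unfold T
  rw [closure_le]
  rintro A ⟨v, c, hv, hA⟩
  rcases eq_one_or_utv hF hv hA with rfl | ⟨-, hc, rfl⟩
  · exact M.one_mem
  · exact key _ Finset.univ le_rfl v (fun t ht => absurd (Finset.mem_univ t) ht) c hv hc

end Cfsg.Agent.HoltZ.Psu

end

-- merged: Cfsg.Agent.HoltZ.Psu
section

/-!
# Holt's theorem for `PSU_n(q)`, `q` odd, `n ≥ 4`: there is no pair at all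
-/

set_option autoImplicit false
set_option linter.unusedSectionVars false

namespace Cfsg.Agent.HoltZ.Psu

open Matrix Subgroup Cfsg Cfsg.Agent.LieClassical.SLGen
open Cfsg.Agent.LieClassical.HermBasic Cfsg.Agent.ClassicalGeometry.UnitTransv

variable {F : Type*} [Field F] [Fintype F] {n q : ℕ} (hF : Fintype.card F = q ^ 2)

local notation "S" => SU n F q

include hF in
/-- commuting modulo the centre -/
theorem exists_scalar (h3 : 3 ≤ n) {z A : S}
    (h : (QuotientGroup.mk' (center S)) A * (QuotientGroup.mk' _) z =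
      (QuotientGroup.mk' _) z * (QuotientGroup.mk' _) A) :
    ∃ r : F, ((z : _root_.Matrix.SpecialLinearGroup (Fin n) F) : Matrix (Fin n) (Fin n) F) *
      ((A : _root_.Matrix.SpecialLinearGroup (Fin n) F) : Matrix (Fin n) (Fin n) F) =
      r • (((A : _root_.Matrix.SpecialLinearGroup (Fin n) F) : Matrix (Fin n) (Fin n) F) *
        ((z : _root_.Matrix.SpecialLinearGroup (Fin n) F) : Matrix (Fin n) (Fin n) F)) := by
  rw [← map_mul, ← map_mul] at h
  obtain ⟨c, -, hc⟩ := Cfsg.Agent.ClassicalGeometry.UnitAutBasic.exists_scalar_of_pr_eq hF h3 h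
  refine ⟨c, Matrix.mulVec_injective (funext fun v => ?_)⟩
  have := hc v
  rw [smul_mulVec]
  exact this

include hF in
theorem sq_scalar (h3 : 3 ≤ n) {z : S} (h : (QuotientGroup.mk' (center S)) z ^ 2 = 1) :
    ∃ r : F, ((z : _root_.Matrix.SpecialLinearGroup (Fin n) F) : Matrix (Fin n) (Fin n) F) *
      ((z : _root_.Matrix.SpecialLinearGroup (Fin n) F) : Matrix (Fin n) (Fin n) F) = diagonal fun _ => r := by
  rw [← map_pow] at h
  have h1 : z ^ 2 ∈ center S := (QuotientGroup.eq_one_iff _).1 h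
  obtain ⟨c, -, hc⟩ := Cfsg.Agent.ClassicalGeometry.UnitAutBasic.exists_scalar_of_mem_center hF h3 h1
  refine ⟨c, Matrix.mulVec_injective (funext fun v => ?_)⟩
  have h4 := hc v
  rw [pow_two] at h4
  have h5 : (diagonal fun _ : Fin n => c) *ᵥ v = c • v := by
    ext k
    rw [mulVec_diagonal]; rfl
  rw [h5]
  exact h4

include hF in
theorem mem_SU_of_dTwo {A : _root_.Matrix.SpecialLinearGroup (Fin n) F} (hA : A ∈ Psl.dTwo (Fin n) F) : A ∈ SU n F q := by
  obtain ⟨d, hd, hd2⟩ := hA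
  intro u v
  have hA' : ∀ u : Fin n → F, ((slToMat n F) A) *ᵥ u = fun k => d k * u k := by
    intro u
    have : (slToMat n F) A = (A : Matrix (Fin n) (Fin n) F) := rfl
    rw [this, hd]
    ext k
    rw [mulVec_diagonal]
  rw [hA', hA', herm_def, herm_def]
  refine Finset.sum_congr rfl fun k _ => ?_
  have h1 : d k ^ q = d k := by
    have h2 : (d k - 1) * (d k + 1) = 0 := by linear_combination hd2 k
    rcases mul_eq_zero.1 h2 with h | h
    · rw [sub_eq_zero.1 h, one_pow]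
    · rw [eq_neg_of_add_eq_zero_left h, neg_pow_q hF, one_pow]
  rw [mul_pow, h1]
  linear_combination (u k * v k ^ q) * hd2 k

include hF in
/-- the row `PSU_n(q)`, `n ≥ 3`, `n ≠ 4`, `q` odd -/
theorem rowF_of_ne_four (h2 : (2 : F) ≠ 0) (h3 : 3 ≤ n) (h4 : n ≠ 4) : RowF (PSU n F q) := by
  intro M z hz hU
  have hP : IsPGroup 2 ↥((Psl.dTwo (Fin n) F).subgroupOf (SU n F q)) :=
    Psl.dTwo_isPGroup.comap_of_injective _ (SU n F q).subtype_injective
  obtain ⟨M', z', g, -, hz', hU', hD, hc⟩ := exists_position hz hU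
    (((Psl.dTwo (Fin n) F).subgroupOf (SU n F q)).map (QuotientGroup.mk' (center S))) (hP.map _)
  obtain ⟨t, rfl⟩ := QuotientGroup.mk'_surjective (center S) z'
  have hUt := hU'.comap (QuotientGroup.mk' (center S)) (QuotientGroup.mk'_surjective _) (t := t) rfl
  obtain ⟨c, hcd⟩ := Psl.diagonal_of_comm (z := (t : _root_.Matrix.SpecialLinearGroup (Fin n) F)) h2 (by rwa [Fintype.card_fin])
    (by rwa [Fintype.card_fin]) (fun {i j} hij => exists_scalar hF h3 (z := t)
      (A := ⟨Psl.dd hij, mem_SU_of_dTwo hF (Psl.dd_mem hij)⟩)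
      (hc _ (mem_map_of_mem _ (mem_subgroupOf.2 (Psl.dd_mem hij)))))
  obtain ⟨r, hr⟩ := sq_scalar hF h3 (z := t) (by rw [← hz'.1]; exact pow_orderOf_eq_one _)
  rw [hcd, diagonal_mul_diagonal] at hr
  have hr' : ∀ i, c i * c i = r := fun i => by
    have := congrFun (congrFun hr i) i
    simpa using this
  obtain ⟨i, j, hij, hcij⟩ := Psl.exists_pair n h3 hr'
  refine false_of_diagonal hF h2 h3 hUt (c := c) (fun v => ?_) hij hcij
  change ((t : _root_.Matrix.SpecialLinearGroup (Fin n) F) : Matrix (Fin n) (Fin n) F) *ᵥ v = _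
  rw [hcd]
  ext k
  rw [mulVec_diagonal]; rfl

end Cfsg.Agent.HoltZ.Psu

end

-- merged: Cfsg.Agent.HoltZ.Psu4
section

/-!
# Holt's theorem for `PSU_4(q)`, `q` odd
-/

set_option autoImplicit false
set_option linter.unusedSectionVars false

namespace Cfsg.Agent.HoltZ.Psu

open Matrix Subgroup Cfsg Cfsg.Agent.LieClassical.SLGen
open Cfsg.Agent.LieClassical.HermBasic Cfsg.Agent.ClassicalGeometry.UnitTransv

variable {F : Type*} [Field F] [Fintype F] {q : ℕ} (hF : Fintype.card F = q ^ 2)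

local notation "S" => SU 4 F q

include hF in
theorem exists_xy (h2 : (2 : F) ≠ 0) : ∃ x y : F, x ^ q = -x ∧ y ^ q = -y ∧ x ^ 2 + y ^ 2 = -1 := by
  classical
  obtain ⟨θ, hθ0, hθ⟩ := exists_trace_zero_ne hF
  have hθq : θ ^ q = -θ := by linear_combination hθ
  have hK : (-(θ ^ 2)⁻¹) ∈ Cfsg.Agent.ClassicalGeometry.UnitAutRel.Kf hF := by
    rw [Cfsg.Agent.ClassicalGeometry.UnitAutRel.mem_Kf, neg_pow_q hF, inv_pow, ← pow_mul, mul_comm, pow_mul, hθq,
      neg_sq]
  have h2K : (2 : Cfsg.Agent.ClassicalGeometry.UnitAutRel.Kf hF) ≠ 0 := by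
    intro h
    apply h2
    have := congrArg (Cfsg.Agent.ClassicalGeometry.UnitAutRel.Kf hF).subtype h
    rwa [map_ofNat, map_zero] at this
  haveI : Fintype (Cfsg.Agent.ClassicalGeometry.UnitAutRel.Kf hF) := Fintype.ofFinite _
  obtain ⟨t, s, hts⟩ := exists_sq_add_sq h2K ⟨_, hK⟩
  have hts' : (t : F) ^ 2 + (s : F) ^ 2 = -(θ ^ 2)⁻¹ := by
    have := congrArg (Cfsg.Agent.ClassicalGeometry.UnitAutRel.Kf hF).subtype hts
    rwa [map_add, map_pow, map_pow] at this
  have ht := (Cfsg.Agent.ClassicalGeometry.UnitAutRel.mem_Kf hF).1 t.2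
  have hs := (Cfsg.Agent.ClassicalGeometry.UnitAutRel.mem_Kf hF).1 s.2
  refine ⟨t * θ, s * θ, ?_, ?_, ?_⟩
  · rw [mul_pow, ht, hθq]; ring
  · rw [mul_pow, hs, hθq]; ring
  · have : θ ^ 2 ≠ 0 := pow_ne_zero _ hθ0
    linear_combination θ ^ 2 * hts' - mul_inv_cancel₀ this

theorem up_mulVec (x y z w : F) (h : x * w - y * z = 1) (u : Fin 4 → F) :
    (Psl.up x y z w h : Matrix (Fin 4) (Fin 4) F) *ᵥ u = ![x * u 0 + y * u 1, z * u 0 + w * u 1, u 2, u 3] := by
  rw [Psl.coe_up]
  ext k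
  (revert k; simp only [Matrix.mulVec, dotProduct, Fin.sum_univ_four, _root_.Fin.forall_fin_succ, _root_.Matrix.of_apply, _root_.Matrix.cons_val', _root_.Matrix.cons_val_fin_one, Fin.isValue, _root_.Matrix.cons_val_zero, _root_.Matrix.cons_val_one, _root_.Matrix.cons_val, _root_.Nat.succ_eq_add_one, Nat.reduceAdd, _root_.MulZeroClass.zero_mul, _root_.add_zero, _root_.Matrix.cons_val_succ, _root_.one_mul, _root_.zero_add, _root_.implies_true, _root_.and_self])

theorem lo_mulVec (x y z w : F) (h : x * w - y * z = 1) (u : Fin 4 → F) :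
    (Psl.lo x y z w h : Matrix (Fin 4) (Fin 4) F) *ᵥ u = ![u 0, u 1, x * u 2 + y * u 3, z * u 2 + w * u 3] := by
  rw [Psl.coe_lo]
  ext k
  (revert k; simp only [Matrix.mulVec, dotProduct, Fin.sum_univ_four, _root_.Fin.forall_fin_succ, _root_.Matrix.of_apply, _root_.Matrix.cons_val', _root_.Matrix.cons_val_fin_one, Fin.isValue, _root_.Matrix.cons_val_zero, _root_.Matrix.cons_val_one, _root_.Matrix.cons_val, _root_.Nat.succ_eq_add_one, Nat.reduceAdd, _root_.one_mul, _root_.MulZeroClass.zero_mul, _root_.add_zero, _root_.Matrix.cons_val_succ, _root_.zero_add, _root_.implies_true, _root_.and_self])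

include hF in
theorem up_mem {x y z w : F} (h : x * w - y * z = 1) (h1 : x * x ^ q + z * z ^ q = 1) (h2 : y * y ^ q + w * w ^ q = 1)
    (h3 : x * y ^ q + z * w ^ q = 0) (h4 : y * x ^ q + w * z ^ q = 0) : Psl.up x y z w h ∈ SU 4 F q := by
  intro u v
  change hermForm 4 F q ((Psl.up x y z w h : Matrix (Fin 4) (Fin 4) F) *ᵥ u)
    ((Psl.up x y z w h : Matrix (Fin 4) (Fin 4) F) *ᵥ v) = _
  rw [up_mulVec, up_mulVec, herm_def, herm_def, Fin.sum_univ_four, Fin.sum_univ_four]
  simp only [Fin.isValue, cons_val_zero, cons_val_one, cons_val, add_pow_q hF, mul_pow]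
  linear_combination (u 0 * v 0 ^ q) * h1 + (u 1 * v 1 ^ q) * h2 + (u 0 * v 1 ^ q) * h3 + (u 1 * v 0 ^ q) * h4

include hF in
theorem lo_mem {x y z w : F} (h : x * w - y * z = 1) (h1 : x * x ^ q + z * z ^ q = 1) (h2 : y * y ^ q + w * w ^ q = 1)
    (h3 : x * y ^ q + z * w ^ q = 0) (h4 : y * x ^ q + w * z ^ q = 0) : Psl.lo x y z w h ∈ SU 4 F q := by
  intro u v
  change hermForm 4 F q ((Psl.lo x y z w h : Matrix (Fin 4) (Fin 4) F) *ᵥ u)
    ((Psl.lo x y z w h : Matrix (Fin 4) (Fin 4) F) *ᵥ v) = _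
  rw [lo_mulVec, lo_mulVec, herm_def, herm_def, Fin.sum_univ_four, Fin.sum_univ_four]
  simp only [Fin.isValue, cons_val_zero, cons_val_one, cons_val, add_pow_q hF, mul_pow]
  linear_combination (u 2 * v 2 ^ q) * h1 + (u 3 * v 3 ^ q) * h2 + (u 2 * v 3 ^ q) * h3 + (u 3 * v 2 ^ q) * h4

include hF in
/-- the row `PSU_4(q)`, `q` odd -/
theorem rowF_four (h2 : (2 : F) ≠ 0) : RowF (PSU 4 F q) := by
  obtain ⟨x, y, hx, hy, hxy⟩ := exists_xy hF h2
  have hxy' : x * x ^ q + y * y ^ q = 1 := by rw [hx, hy]; linear_combination -hxy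
  have h0q := zero_pow_q hF
  intro M z hz hU
  set! A1 : _root_.Matrix.SpecialLinearGroup (Fin 4) F := Psl.up 0 1 (-1) 0 (by ring) with hA1
  set! B1 : _root_.Matrix.SpecialLinearGroup (Fin 4) F := Psl.up x y y (-x) (by linear_combination -hxy) with hB1
  set! A2 : _root_.Matrix.SpecialLinearGroup (Fin 4) F := Psl.lo 0 1 (-1) 0 (by ring) with hA2
  set! B2 : _root_.Matrix.SpecialLinearGroup (Fin 4) F := Psl.lo x y y (-x) (by linear_combination -hxy) with hB2
  have hD : IsPGroup 2 ↥(_root_.Subgroup.closure ({A1, B1} : Set (_root_.Matrix.SpecialLinearGroup (Fin 4) F)) ⊔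
      _root_.Subgroup.closure ({A2, B2} : Set (_root_.Matrix.SpecialLinearGroup (Fin 4) F))) := by
    refine isPGroup_sup (Psl.isPGroup_up hxy) (Psl.isPGroup_lo hxy) (commute_closure ?_)
    rintro a (rfl | rfl) b (rfl | rfl) <;> exact Psl.up_mul_lo _ _ _ _ _ _ _ _ _ _
  have hP := hD.comap_of_injective _ (SU 4 F q).subtype_injective
  have memA1 : A1 ∈ S := up_mem hF _ (by rw [neg_pow_q hF, one_pow, h0q]; ring) (by rw [one_pow, h0q]; ring)
    (by rw [one_pow, h0q]; ring) (by rw [neg_pow_q hF, one_pow, h0q]; ring)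
  have memA2 : A2 ∈ S := lo_mem hF _ (by rw [neg_pow_q hF, one_pow, h0q]; ring) (by rw [one_pow, h0q]; ring)
    (by rw [one_pow, h0q]; ring) (by rw [neg_pow_q hF, one_pow, h0q]; ring)
  have memB1 : B1 ∈ S := up_mem hF _ hxy' (by rw [neg_pow_q hF, hx, hy]; linear_combination -hxy)
    (by rw [neg_pow_q hF, hx, hy]; ring) (by rw [hx, hy]; ring)
  have memB2 : B2 ∈ S := lo_mem hF _ hxy' (by rw [neg_pow_q hF, hx, hy]; linear_combination -hxy)
    (by rw [neg_pow_q hF, hx, hy]; ring) (by rw [hx, hy]; ring)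
  obtain ⟨M', z', g, -, hz', hU', hD', hc⟩ := exists_position hz hU
    (((_root_.Subgroup.closure ({A1, B1} : Set (_root_.Matrix.SpecialLinearGroup (Fin 4) F)) ⊔
      _root_.Subgroup.closure ({A2, B2} : Set (_root_.Matrix.SpecialLinearGroup (Fin 4) F))).subgroupOf S).map
        (QuotientGroup.mk' (center S))) (hP.map _)
  obtain ⟨t, rfl⟩ := QuotientGroup.mk'_surjective (center S) z'
  have hUt := hU'.comap (QuotientGroup.mk' (center S)) (QuotientGroup.mk'_surjective _) (t := t) rfl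
  have hex : ∀ a ∈ ({A1, B1} : Set (_root_.Matrix.SpecialLinearGroup (Fin 4) F)), a ∈ S → ∃ r : F,
      ((t : _root_.Matrix.SpecialLinearGroup (Fin 4) F) : Matrix (Fin 4) (Fin 4) F) * a =
        r • ((a : Matrix (Fin 4) (Fin 4) F) * ((t : _root_.Matrix.SpecialLinearGroup (Fin 4) F) : Matrix (Fin 4) (Fin 4) F)) :=
    fun a ha haS => exists_scalar hF (by norm_num) (z := t) (A := ⟨a, haS⟩)
      (hc _ (mem_map_of_mem _ (mem_subgroupOf.2 (mem_sup_left (_root_.Subgroup.subset_closure ha)))))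
  have hex' : ∀ a ∈ ({A2, B2} : Set (_root_.Matrix.SpecialLinearGroup (Fin 4) F)), a ∈ S → ∃ r : F,
      ((t : _root_.Matrix.SpecialLinearGroup (Fin 4) F) : Matrix (Fin 4) (Fin 4) F) * a =
        r • ((a : Matrix (Fin 4) (Fin 4) F) * ((t : _root_.Matrix.SpecialLinearGroup (Fin 4) F) : Matrix (Fin 4) (Fin 4) F)) :=
    fun a ha haS => exists_scalar hF (by norm_num) (z := t) (A := ⟨a, haS⟩)
      (hc _ (mem_map_of_mem _ (mem_subgroupOf.2 (mem_sup_right (_root_.Subgroup.subset_closure ha)))))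
  obtain ⟨r1, e1⟩ := hex A1 (by simp) memA1
  obtain ⟨r2, e2⟩ := hex B1 (by simp) memB1
  obtain ⟨r3, e3⟩ := hex' A2 (by simp) memA2
  obtain ⟨r4, e4⟩ := hex' B2 (by simp) memB2
  obtain ⟨c, hc1, hc2⟩ := Psl.diag_of_comm_four h2 hxy (t : _root_.Matrix.SpecialLinearGroup (Fin 4) F).2 (r1 := r1) (r2 := r2)
    (r3 := r3) (r4 := r4) e1 e2 e3 e4
  refine false_of_diagonal hF h2 (by norm_num) hUt (c := c) (fun v => ?_) (i := 0) (j := 1) (by decide) hc2
  change ((t : _root_.Matrix.SpecialLinearGroup (Fin 4) F) : Matrix (Fin 4) (Fin 4) F) *ᵥ v = _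
  rw [hc1]
  ext k
  rw [mulVec_diagonal]; rfl

include hF in
/-- **The row `PSU_n(q)`, `n ≥ 4` (also `n = 3`), `q` odd.** -/
theorem rowF (h2 : (2 : F) ≠ 0) {n : ℕ} (h3 : 3 ≤ n) : RowF (PSU n F q) := by
  by_cases h4 : n = 4
  · subst h4; exact rowF_four hF h2
  · exact rowF_of_ne_four hF h2 h3 h4

end Cfsg.Agent.HoltZ.Psu

end

-- merged: Cfsg.Agent.HoltZ.OneLie
section

/-!
# One class of involutions: `PSL₂(q)`, `PSU₃(q)`, `G₂(q)`, `³D₄(q)`, `q` odd (helper69)
-/

set_option autoImplicit false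

namespace Cfsg.Agent.HoltZ.OneLie

open Subgroup Cfsg
open Cfsg.Agent.HoltZ Cfsg.Agent.HoltZ.OneClass Cfsg.Agent.Cit

universe u

variable {G : Type u} [Group G]

/-- `PSL₂(q)`, `q` odd -/
theorem one_psl2 {F : Type*} [Field F] [Finite F] (h2 : (2 : F) ≠ 0)
    (e : G ≃* Matrix.ProjectiveSpecialLinearGroup (Fin 2) F) : OneInv G := by
  intro s t hs ht
  obtain ⟨g, hg⟩ := Cfsg.Agent.Lib.PSL2Torus.conj_inv h2 e (sq_ne hs).2 (sq_ne hs).1 (sq_ne ht).2 (sq_ne ht).1
  exact ⟨g, hg.symm⟩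

/-- `G₂(q)`, `q` odd -/
theorem one_g2 [Finite G] {F : Type*} [Field F] [Finite F] (h2 : (2 : F) ≠ 0)
    (e : G ≃* ↥(Lie.chevG2.group F)) : OneInv G := by
  have : Finite ↥(Lie.chevG2.group F) := Finite.of_equiv _ e.toEquiv
  exact OneInv.congr e (OneInv.of_isConj fun s t hs hs1 ht ht1 => (HexG2.g2 F h2).isConj_invol h2 hs hs1 ht ht1)

/-- `³D₄(q)`, `q` odd -/
theorem one_d4 [Finite G] {K : Type*} [Field K] [Fintype K] {q : ℕ} (h2 : (2 : K) ≠ 0) (hK : Fintype.card K = q ^ 3)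
    (e : G ≃* ↥(Lie.twistedD4 K q)) : OneInv G := by
  have : Finite ↥(Lie.twistedD4 K q) := Finite.of_equiv _ e.toEquiv
  obtain ⟨σ, -, ⟨c⟩⟩ := HexD4.exists_d4 hK
  exact OneInv.congr e (OneInv.of_isConj fun s t hs hs1 ht ht1 => c.isConj_invol h2 hs hs1 ht ht1)

section rows

variable [Finite G]

theorem row_psl2 {F : Type*} [Field F] [Finite F] (h2 : (2 : F) ≠ 0)
    (e : G ≃* Matrix.ProjectiveSpecialLinearGroup (Fin 2) F) : Row G := (one_psl2 h2 e).row

theorem row_g2 {F : Type*} [Field F] [Finite F] (h2 : (2 : F) ≠ 0)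
    (e : G ≃* ↥(Lie.chevG2.group F)) : Row G := (one_g2 h2 e).row

theorem row_d4 {K : Type*} [Field K] [Fintype K] {q : ℕ} (h2 : (2 : K) ≠ 0) (hK : Fintype.card K = q ^ 3)
    (e : G ≃* ↥(Lie.twistedD4 K q)) : Row G := (one_d4 h2 hK e).row

end rows

end Cfsg.Agent.HoltZ.OneLie

end

-- merged: Cfsg.Agent.HoltZ.OneRee
section

/-!
# One class of involutions: the Ree groups `²G₂(3^(2m+1))`, `m ≥ 1` (helper69)
-/

set_option autoImplicit false

namespace Cfsg.Agent.HoltZ.OneRee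

open Subgroup Cfsg
open Cfsg.Agent.HoltZ Cfsg.Agent.HoltZ.OneClass Cfsg.Agent.LieRecognition

theorem one_model {F : Type*} [Field F] [Fintype F] {m : ℕ} (hm : 1 ≤ m)
    (hF : Fintype.card F = 3 ^ (2 * m + 1)) : OneInv ↥(Cfsg.Lie.twistedG2 F (3 ^ m)) := by
  have hchar := Cfsg.Agent.S1157.charP_three hF
  obtain ⟨a, haH, ha1, ha2⟩ := Cfsg.Agent.S1157.exists_involution hF
  obtain ⟨⟨e⟩, hS⟩ := Cfsg.Agent.S1152.result hF a haH ha1 ha2
  have hc := ReeCent.centData ha1 ha2 e ReePSL.klein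
  exact OneInv.of_base a fun t ht ht1 =>
    ReeInv.isConj_involution hc ReePSL.klein (Cfsg.Agent.S1116.result hF hm) hS ht1 ht

theorem one_ree {G : Type*} [Group G] (h : Lie.IsoRee G) : OneInv G := by
  obtain ⟨F, _, _, m, hm, hF, ⟨e⟩⟩ := h
  exact OneInv.congr e (one_model hm hF)

theorem row_ree {G : Type*} [Group G] [Finite G] (h : Lie.IsoRee G) : Row G := (one_ree h).row

end Cfsg.Agent.HoltZ.OneRee

end

-- merged: Cfsg.Agent.HoltZ.MainLie
section

/-!
# S1729: all the groups of Lie type of odd characteristic (helper34)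

The rows are by helper92 (classical groups), helper81 (`F4 E6 E7 E8 2E6`), helper69 (`PSL2 PSU3 G2 3D4 Ree`).
-/

set_option autoImplicit false

namespace Cfsg.Agent.HoltZ.MainLie

open Cfsg Cfsg.Agent.HoltZ

theorem two_ne {F : Type*} [Field F] {p : ℕ} [CharP F p] (hp : p.Prime) (h2 : p ≠ 2) : (2 : F) ≠ 0 := by
  intro h
  have h1 : ((2 : ℕ) : F) = 0 := by exact_mod_cast h
  rw [CharP.cast_eq_zero_iff F p] at h1
  exact h2 ((Nat.prime_dvd_prime_iff_eq hp Nat.prime_two).1 h1)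

/-- Holt's theorem for the groups of Lie type of odd characteristic. -/
theorem row_lie {G : Type*} [Group G] [Finite G] {p : ℕ} (hp : p.Prime) (h2 : p ≠ 2) (h : IsLieTypeChar p G) :
    Row G := by
  rcases h with h | h | h | h | h | h | h | h | h | h | h
  · obtain ⟨F, _, _, _, n, hn, -, ⟨e⟩⟩ := h
    rcases Nat.lt_or_ge 2 n with h3 | h3
    · exact ((Psl.rowF (two_ne hp h2) h3).congr e).row
    · obtain rfl : n = 2 := by omega
      exact OneLie.row_psl2 (two_ne hp h2) e
  · obtain ⟨F, _, _, _, m, hm, -, ⟨e⟩⟩ := h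
    exact ((Psp.rowF (two_ne hp h2) hm).congr e).row
  · obtain ⟨F, _, _, _, n, q, hF, hn, -, ⟨e⟩⟩ := h
    exact ((Psu.rowF hF (two_ne hp h2) hn).congr e).row
  · obtain ⟨F, _, _, _, m, hm, -, ⟨e⟩⟩ := h
    exact ((Orth.rowF_odd (two_ne hp h2) hm).congr e).row
  · obtain ⟨F, _, _, _, m, hm, ⟨e⟩⟩ := h
    exact ((Orth.rowF_plus (two_ne hp h2) hm).congr e).row
  · obtain ⟨F, _, _, _, m, a, b, hm, hab, ⟨e⟩⟩ := h
    exact ((Orth.rowF_minus (two_ne hp h2) (by omega) hab).congr e).row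
  · obtain ⟨F, _, _, _, h⟩ := h
    rcases h with ⟨-, ⟨e⟩⟩ | ⟨⟨e⟩⟩ | ⟨⟨e⟩⟩ | ⟨⟨e⟩⟩ | ⟨⟨e⟩⟩
    · exact OneLie.row_g2 (two_ne hp h2) e
    · exact ((Exc.rowF_F4 (two_ne hp h2)).congr e).row
    · exact ((Exc.rowF_E6 (two_ne hp h2)).congr e).row
    · exact ((Exc.rowF_E7 (two_ne hp h2)).congr e).row
    · exact ((Exc.rowF_E8 (two_ne hp h2)).congr e).row
  · obtain ⟨K, _, _, _, q, -, h⟩ := h
    rcases h with ⟨hK, ⟨e⟩⟩ | ⟨hK, ⟨e⟩⟩
    · exact ((Exc.rowF_twE6 (two_ne hp h2) hK).congr e).row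
    · exact OneLie.row_d4 (two_ne hp h2) hK e
  · exact absurd h.1 h2
  · exact absurd h.1 h2
  · exact OneRee.row_ree h.2

end Cfsg.Agent.HoltZ.MainLie

end

-- merged: Cfsg.Agent.HoltZ.OneJ1
section

/-!
# One class of involutions: the first Janko group (helper69)
-/

set_option autoImplicit false

namespace Cfsg.Agent.HoltZ.OneJ1

open Subgroup Cfsg
open Cfsg.Agent.HoltZ Cfsg.Agent.HoltZ.OneClass

theorem one_j1 {G : Type*} [Group G] (h : Spor.IsoJ1 G) : OneInv G := by
  obtain ⟨e⟩ := h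
  obtain ⟨D⟩ := Cfsg.Agent.UGT.EndJ1.Data.exists_dat
  exact OneInv.congr (by exact e) (OneInv.of_base D.t fun t ht ht1 => D.conj_t ht ht1)

theorem row_j1 {G : Type*} [Group G] [Finite G] (h : Spor.IsoJ1 G) : Row G := (one_j1 h).row

end Cfsg.Agent.HoltZ.OneJ1

end

-- merged: Cfsg.Agent.HoltZ.OneLy
section

/-!
# One class of involutions: the Lyons group (helper69)
-/

set_option autoImplicit false

namespace Cfsg.Agent.HoltZ.OneLy

open Subgroup Cfsg
open Cfsg.Agent.HoltZ Cfsg.Agent.HoltZ.OneClass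

theorem one_mt {G : Type*} [Group G] {n : ℕ} (L : Cfsg.Agent.TypeM.Two.MT n G) : OneInv G := by
  intro s t hs ht
  obtain ⟨g, hg⟩ := L.conj_of_involutions (sq_ne hs).1 (sq_ne hs).2 (sq_ne ht).1 (sq_ne ht).2
  exact ⟨g, hg.symm⟩

theorem one_ly {G : Type*} [Group G] (h : Spor.IsoLy G) : OneInv G := by
  obtain ⟨-, -, -, ⟨L⟩⟩ := Cfsg.Agent.TypeM.FactsLy.facts h
  exact one_mt L

theorem row_ly {G : Type*} [Group G] [Finite G] (h : Spor.IsoLy G) : Row G := (one_ly h).row

end Cfsg.Agent.HoltZ.OneLy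

end

-- merged: Cfsg.Agent.HoltZ.OneMcL
section

/-!
# One class of involutions: the McLaughlin group (helper69)
-/

set_option autoImplicit false

namespace Cfsg.Agent.HoltZ.OneMcL

open Subgroup Cfsg
open Cfsg.Agent.HoltZ Cfsg.Agent.HoltZ.OneClass

theorem one_mcl {G : Type*} [Group G] (h : Spor.IsoMcL G) : OneInv G := by
  obtain ⟨-, -, -, ⟨L⟩⟩ := Cfsg.Agent.TypeM.FactsMcL.facts h
  exact OneLy.one_mt L

theorem row_mcl {G : Type*} [Group G] [Finite G] (h : Spor.IsoMcL G) : Row G := (one_mcl h).row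

end Cfsg.Agent.HoltZ.OneMcL

end

-- merged: Cfsg.Agent.HoltZ.OneON
section

/-!
# One class of involutions: the O'Nan group (helper69)
-/

set_option autoImplicit false

namespace Cfsg.Agent.HoltZ.OneON

open Subgroup Cfsg
open Cfsg.Agent.HoltZ Cfsg.Agent.HoltZ.OneClass

theorem one_on {G : Type*} [Group G] (h : Spor.IsoON G) : OneInv G := by
  obtain ⟨e⟩ := h
  exact OneInv.congr e (OneInv.of_isConj fun s t hs hs1 ht ht1 =>
    (Cfsg.Agent.KFacts.ON.OneClass.one_class hs hs1).trans (Cfsg.Agent.KFacts.ON.OneClass.one_class ht ht1).symm)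

theorem row_on {G : Type*} [Group G] [Finite G] (h : Spor.IsoON G) : Row G := (one_on h).row

end Cfsg.Agent.HoltZ.OneON

end

-- merged: Cfsg.Agent.HoltZ.Large
section

/-!
# No Holt pair in a group with a large extraspecial subgroup (helper34)
-/

set_option autoImplicit false

namespace Cfsg.Agent.HoltZ.Large

open Cfsg Subgroup Cfsg.Agent.HoltZ Cfsg.Agent.HoltZ.Crit Cfsg.Agent.KFacts
open Cfsg.Agent.Co2Type.Quad Cfsg.Agent.LargeExtra.Base

variable {G : Type*} [Group G]

/-- `Q` large extraspecial with centre `⟨z⟩`, `C(z)` of odd index. -/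
theorem central_of_large [Finite G] {Q : Subgroup G} {z : G} (h : Large Q z)
    (hodd : Odd (centralizer ({z} : Set G)).index) : TwoGen.Central G ∧ IsTwoCentralInvolution z := by
  obtain ⟨S, hS⟩ := AutLarge.exists_sylow hodd
  have hQ := AutLarge.le_sylow h S hS
  have hSz : ∀ s ∈ (S : Subgroup G), s * z = z * s := fun s hs => mem_centralizer_singleton_iff.1 (hS hs)
  refine ⟨central_of_one S (z := z) fun y hy hc => ?_, twoCentral h.z_sq h.z_ne ⟨S, hSz⟩⟩
  exact LargeE.cent_eq h (hSz y hy) fun x hx => (hc x (hQ hx)).symm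

/-- **The criterion with a large extraspecial subgroup.** -/
theorem rowF_of_large [Finite G] {Q : Subgroup G} {z n : G} (h : Large Q z)
    (hodd : Odd (centralizer ({z} : Set G)).index) (hn : n * z * n⁻¹ * z = z * (n * z * n⁻¹))
    (hgen : _root_.Subgroup.closure ({c : G | c * z = z * c} ∪ {n}) = ⊤) : RowF G :=
  rowF_of_gen' (central_of_large h hodd).1 (central_of_large h hodd).2 hn hgen

end Cfsg.Agent.HoltZ.Large

end

-- merged: Cfsg.Agent.HoltZ.RowJTwo
section

/-!
# S1729: no Holt pair in `J₂` (helper34)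
-/

set_option autoImplicit false

namespace Cfsg.Agent.HoltZ.RowJTwo

open Cfsg Subgroup Cfsg.Agent.HoltZ Cfsg.Agent.HoltZ.Crit
open Subgroup Cfsg.Agent.J2Type.Model Cfsg.Agent.J2Type.SPFacts Cfsg.Agent.J2Type.CStruct
open Cfsg.Agent.J3Type.OneClass Cfsg.Agent.J2Type.Base Cfsg.Agent.KFacts Cfsg.Agent.KFacts.J2.Basic
open Cfsg.Agent.Co2Type.Quad

variable {X : Type*} [Group X] {t u : X} {Q : Subgroup (centralizer ({t} : Set X))}
  {v : Fin 5 → centralizer ({t} : Set X)} {ρ : centralizer ({t} : Set X) →* SP}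

theorem rowF_of_dat [Finite X] (D : Dat t u Q v ρ) : RowF X := by
  obtain ⟨n, hn, -, hgen⟩ := J2.SheetX.gen_data D
  have hL : Large (Q.map (centralizer ({t} : Set X)).subtype) t := J3Sheet.large D.cardC D.M
  exact Large.rowF_of_large hL (J2.SheetX.odd_index D) (hL.comm_z _ hn) hgen

theorem rowF {X : Type*} [Group X] [Finite X] (h : Spor.IsoJ2 X) : RowF X := by
  obtain ⟨t, u, Q, v, ρ, D⟩ := J2.Facts.exists_dat_of h
  exact rowF_of_dat D

end Cfsg.Agent.HoltZ.RowJTwo

end

-- merged: Cfsg.Agent.HoltZ.RowHS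
section

/-!
# S1729: no Holt pair in the Higman-Sims group (helper34)

`2.HS = ⟨x, y, zxz, zyz⟩`; paths in the commuting graph of the class of `a = y³` from `a` to its images under the
generators.
-/

set_option autoImplicit false

namespace Cfsg.Agent.HoltZ.RowHS

open Cfsg Subgroup Cfsg.Agent.HoltZ Cfsg.Agent.HoltZ.Crit
open Cfsg.Agent.HN Cfsg.Agent.HN.Pres Cfsg.Agent.HN.HS100 Cfsg.Agent.HN.P1408 Cfsg.Agent.HN.H0Basic
open Cfsg.Agent.KFacts.HS Cfsg.Agent.KFacts.HS.DFour

/-! ### generators of `K` -/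

/-- `⟨x, y, zxz, zyz⟩` -/
def C : Subgroup H0 := Subgroup.closure ({gx, gy, gz * gx * gz, gz * gy * gz} : Set H0)

theorem zz : (gz : H0) * gz = 1 := by rw [← pow_two]; exact rels_H0.r7

theorem zi : (gz : H0)⁻¹ = gz := by rw [inv_eq_iff_mul_eq_one, zz]

theorem x_mem : gx ∈ C := _root_.Subgroup.subset_closure (Or.inl rfl)
theorem y_mem : gy ∈ C := _root_.Subgroup.subset_closure (Or.inr (Or.inl rfl))
theorem zx_mem : gz * gx * gz ∈ C := _root_.Subgroup.subset_closure (Or.inr (Or.inr (Or.inl rfl)))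
theorem zy_mem : gz * gy * gz ∈ C := _root_.Subgroup.subset_closure (Or.inr (Or.inr (Or.inr rfl)))

theorem zcz (c : H0) : gz * (gz * c * gz) * gz = c := by
  calc gz * (gz * c * gz) * gz = (gz * gz) * c * (gz * gz) := by group
    _ = c := by rw [zz, one_mul, mul_one]

theorem z_conj {c : H0} (hc : c ∈ C) : gz * c * gz ∈ C := by
  refine closure_induction (p := fun c _ => gz * c * gz ∈ C) ?_ ?_ ?_ ?_ hc
  · rintro x (rfl | rfl | rfl | hx)
    · exact zx_mem
    · exact zy_mem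
    · rw [zcz]; exact x_mem
    · rw [Set.mem_singleton_iff] at hx
      rw [hx, zcz]; exact y_mem
  · rw [mul_one, zz]; exact C.one_mem
  · intro a b _ _ ha hb
    have e : gz * (a * b) * gz = (gz * a * gz) * (gz * b * gz) := by
      calc gz * (a * b) * gz = gz * a * 1 * b * gz := by group
        _ = gz * a * (gz * gz) * b * gz := by rw [zz]
        _ = _ := by group
    rw [e]
    exact C.mul_mem ha hb
  · intro a _ ha
    have e : gz * a⁻¹ * gz = (gz * a * gz)⁻¹ := by
      rw [mul_inv_rev, mul_inv_rev, zi, mul_assoc]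
    rw [e]
    exact C.inv_mem ha

theorem cases (g : H0) : g ∈ C ∨ g * gz ∈ C := by
  have hg : g ∈ Subgroup.closure ({gx, gy, gz} : Set H0) := by rw [closure_gens]; trivial
  refine closure_induction (p := fun g _ => g ∈ C ∨ g * gz ∈ C) ?_ ?_ ?_ ?_ hg
  · rintro x (rfl | rfl | hx)
    · exact Or.inl x_mem
    · exact Or.inl y_mem
    · rw [Set.mem_singleton_iff] at hx
      right
      rw [hx, zz]; exact C.one_mem
  · exact Or.inl C.one_mem
  · rintro a b _ _ (ha | ha) (hb | hb)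
    · exact Or.inl (C.mul_mem ha hb)
    · right
      rw [mul_assoc]
      exact C.mul_mem ha hb
    · right
      have e : a * b * gz = (a * gz) * (gz * b * gz) := by
        calc a * b * gz = a * 1 * b * gz := by group
          _ = a * (gz * gz) * b * gz := by rw [zz]
          _ = _ := by group
      rw [e]
      exact C.mul_mem ha (z_conj hb)
    · left
      have e : a * b = (a * gz) * (gz * (b * gz) * gz) := by
        calc a * b = a * 1 * b * 1 := by group
          _ = a * (gz * gz) * b * (gz * gz) := by rw [zz]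
          _ = _ := by group
      rw [e]
      exact C.mul_mem ha (z_conj hb)
  · rintro a _ (ha | ha)
    · exact Or.inl (C.inv_mem ha)
    · right
      have e : a⁻¹ * gz = gz * (a * gz)⁻¹ * gz := by
        rw [mul_inv_rev, zi]
        calc a⁻¹ * gz = 1 * a⁻¹ * gz := by group
          _ = (gz * gz) * a⁻¹ * gz := by rw [zz]
          _ = _ := by group
      rw [e]
      exact z_conj (C.inv_mem ha)

theorem hw_zxz : hw [4, 0, 4] = gz * gx * gz := by
  have h : ([4, 0, 4] : List ℕ) = [4] ++ ([0] ++ [4]) := rfl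
  rw [h, hw_append, hw_append, hw_z, hw_x, mul_assoc]

theorem hw_zyz : hw [4, 2, 4] = gz * gy * gz := by
  have h : ([4, 2, 4] : List ℕ) = [4] ++ ([2] ++ [4]) := rfl
  rw [h, hw_append, hw_append, hw_z, hw_y, mul_assoc]

theorem C_le : C ≤ K := by
  rw [C, closure_le]
  rintro x (rfl | rfl | rfl | hx)
  · rw [← hw_x]; exact mem_K_of_par (by decide) (by decide)
  · rw [← hw_y]; exact mem_K_of_par (by decide) (by decide)
  · rw [← hw_zxz]; exact mem_K_of_par (by decide) (by decide)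
  · rw [Set.mem_singleton_iff] at hx
    rw [hx, ← hw_zyz]; exact mem_K_of_par (by decide) (by decide)

theorem K_le : K ≤ C := by
  intro k hk
  rcases cases k with h | h
  · exact h
  · exfalso
    exact gz_not ((K.mul_mem_cancel_left hk).1 (C_le h))

/-! ### paths -/

section

variable {L : Type*} [Group L] (D : Cfsg.Agent.KFacts.HS.Mod L)

/-- the image of a word -/
def im (w : List ℕ) (h : hw w ∈ K) : L := D.π ⟨hw w, h⟩

/-- the word of the conjugate of `a` -/
def cw (w : List ℕ) : List ℕ := w ++ ([2, 2, 2] ++ iw w)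

theorem hw_cw (w : List ℕ) : hw (cw w) = hw w * aa * (hw w)⁻¹ := by
  rw [cw, hw_append, hw_append, hw_iw, Syl.hw_a, mul_assoc]

theorem cw_mem {w : List ℕ} (h : hw w ∈ K) : hw (cw w) ∈ K := by
  rw [hw_cw]
  exact K.mul_mem (K.mul_mem h aa_mem_K) (K.inv_mem h)

theorem cw_eq {w : List ℕ} (h : hw w ∈ K) : im D w h * zA D * (im D w h)⁻¹ = D.π ⟨hw (cw w), cw_mem h⟩ := by
  rw [im, zA, ← map_inv, ← map_mul, ← map_mul]
  congr 1
  exact Subtype.ext (hw_cw w).symm

theorem comm_of {u v : List ℕ} (hu : hw u ∈ K) (hv : hw v ∈ K) (h : eqt (cw u ++ cw v) (cw v ++ cw u) = true) :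
    im D v hv * zA D * (im D v hv)⁻¹ * (im D u hu * zA D * (im D u hu)⁻¹) =
      im D u hu * zA D * (im D u hu)⁻¹ * (im D v hv * zA D * (im D v hv)⁻¹) := by
  rw [cw_eq, cw_eq, ← map_mul, ← map_mul, pi_eq]
  have h1 := eqt_spec h
  rw [hw_append, hw_append] at h1
  exact h1.symm

theorem step {M : Subgroup L} (h : UF M (zA D)) {u v : List ℕ} (hu : hw u ∈ K) (hv : hw v ∈ K)
    (hM : UF M (im D u hu * zA D * (im D u hu)⁻¹)) (he : eqt (cw u ++ cw v) (cw v ++ cw u) = true) :
    UF M (im D v hv * zA D * (im D v hv)⁻¹) := h.conj (hM.comm (comm_of D hu hv he))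

theorem kk {w : List ℕ} (h1 : okw w = true) (h2 : par w = false) : hw w ∈ K := mem_K_of_par h1 h2

def p1 : List ℕ := [3, 4, 2, 4, 0, 3, 3, 4, 3, 4, 3, 0, 4, 2, 4]
def p2 : List ℕ := [0, 3, 3, 0]
def p3 : List ℕ := [4, 2, 4, 0, 2, 2, 0]

theorem h1 : hw p1 ∈ K := kk (by decide) (by decide)
theorem h2 : hw p2 ∈ K := kk (by decide) (by decide)
theorem h3 : hw p3 ∈ K := kk (by decide) (by decide)
theorem hn : hw [] ∈ K := kk (by decide) (by decide)
theorem hx : hw [0] ∈ K := kk (by decide) (by decide)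
theorem hy : hw [2] ∈ K := kk (by decide) (by decide)
theorem hzx : hw [4, 0, 4] ∈ K := kk (by decide) (by decide)
theorem hzy : hw [4, 2, 4] ∈ K := kk (by decide) (by decide)

theorem e1 : eqt (cw [] ++ cw p1) (cw p1 ++ cw []) = true := by decide +kernel
theorem e2 : eqt (cw p1 ++ cw [0]) (cw [0] ++ cw p1) = true := by decide +kernel
theorem e3 : eqt (cw p1 ++ cw [4, 0, 4]) (cw [4, 0, 4] ++ cw p1) = true := by decide +kernel
theorem e4 : eqt (cw [] ++ cw p2) (cw p2 ++ cw []) = true := by decide +kernel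
theorem e5 : eqt (cw p2 ++ cw p3) (cw p3 ++ cw p2) = true := by decide +kernel
theorem e6 : eqt (cw p3 ++ cw [4, 2, 4]) (cw [4, 2, 4] ++ cw p3) = true := by decide +kernel
theorem e7 : eqt (cw [] ++ cw [2]) (cw [2] ++ cw []) = true := by decide +kernel

theorem not_uf {M : Subgroup L} (h : UF M (zA D)) : False := by
  have h0 : UF M (im D [] hn * zA D * (im D [] hn)⁻¹) := by
    have e : im D [] hn = 1 := by
      rw [im, D.ker]; exact Or.inl hw_nil
    rw [e, one_mul, inv_one, mul_one]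
    exact h
  have hp1 := step D h hn h1 h0 e1
  have hp2 := step D h hn h2 h0 e4
  have hp3 := step D h h2 h3 hp2 e5
  have mx : im D [0] hx ∈ M := h.ctrl _ (step D h h1 hx hp1 e2).mem
  have mzx : im D [4, 0, 4] hzx ∈ M := h.ctrl _ (step D h h1 hzx hp1 e3).mem
  have mzy : im D [4, 2, 4] hzy ∈ M := h.ctrl _ (step D h h3 hzy hp3 e6).mem
  have my : im D [2] hy ∈ M := h.ctrl _ (step D h hn hy h0 e7).mem
  -- the preimage
  have key : C ≤ (M.comap D.π).map K.subtype := by
    rw [C, closure_le]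
    rintro x (rfl | rfl | rfl | hx')
    · exact ⟨⟨hw [0], hx⟩, mx, hw_x⟩
    · exact ⟨⟨hw [2], hy⟩, my, hw_y⟩
    · exact ⟨⟨hw [4, 0, 4], hzx⟩, mzx, hw_zxz⟩
    · rw [Set.mem_singleton_iff] at hx'
      rw [hx']
      exact ⟨⟨hw [4, 2, 4], hzy⟩, mzy, hw_zyz⟩
  apply h.ne
  rw [eq_top_iff]
  intro l _
  obtain ⟨k, rfl⟩ := D.surj l
  obtain ⟨k', hk', e⟩ := key (K_le k.2)
  have : k' = k := Subtype.ext e
  rw [← this]
  exact hk'

include D in
theorem rowF_of_mod : RowF L := by
  have := fin D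
  intro M t ht hU
  have hc : TwoGen.Central L := central_of_z1 (z1 D)
  obtain ⟨g, hg⟩ := isConj_iff.1 (hc t _ ht (twoCentral (zA_sq D) (zA_ne D) (cen D)))
  have hUg := hU.cj g
  rw [hg] at hUg
  exact not_uf D hUg

end

theorem rowF {X : Type*} [Group X] (h : Spor.IsoHS X) : RowF X := by
  obtain ⟨D⟩ := exists_mod h
  exact rowF_of_mod D

end Cfsg.Agent.HoltZ.RowHS

end

-- merged: Cfsg.Agent.HoltZ.RowSuz
section

/-!
# S1729: no Holt pair in the Suzuki group (helper34)
-/

set_option autoImplicit false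

namespace Cfsg.Agent.HoltZ.RowSuz

open Cfsg Subgroup Cfsg.Agent.HoltZ Cfsg.Agent.HoltZ.Crit
open Cfsg.Spor Cfsg.Agent.KFacts.SuzOut Cfsg.Agent.KFacts.SuzSheet Cfsg.Agent.KFacts.SuzLarge
open Cfsg.Agent.SporadicRecognition.SuzOrder

theorem finite_suz : Finite Suz := by
  apply Nat.finite_of_card_ne_zero
  rw [card_Suz]
  norm_num

theorem rowF0 : RowF Suz := by
  have := finite_suz
  refine Large.rowF_of_large large odd_index ?_ gen
  rw [n0_conj]
  exact _root_.Cfsg.Agent.KFacts.SuzOut.comm_of (by decide +kernel)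

theorem rowF {X : Type*} [Group X] (h : Spor.IsoSuz X) : RowF X := by
  obtain ⟨e⟩ := h
  have := finite_suz
  have : Finite X := Finite.of_equiv _ e.symm.toEquiv
  exact rowF0.congr e

end Cfsg.Agent.HoltZ.RowSuz

end

-- merged: Cfsg.Agent.HoltZ.RowRu
section

/-!
# S1729: no Holt pair in the Rudvalis group (helper34)

`z, w, u₃, u₄` generate; `w` commutes with `x = (z w)²`, a conjugate of `z` commuting with `z`; `u₃`, `u₄` are conjugate
to `w` under `C(z)`.
-/

set_option autoImplicit false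

namespace Cfsg.Agent.HoltZ.RowRu

open Cfsg Subgroup Cfsg.Agent.HoltZ Cfsg.Agent.HoltZ.Crit
open Cfsg.Agent.RuD.Letters Cfsg.Agent.KFacts.Ru Cfsg.Agent.KFacts.Ru.ConjWord Cfsg.Agent.KFacts.Ru.EndWords
open Cfsg.Agent.SporadicB (RuOrder.H)

theorem iso : Spor.IsoRu Cfsg.Agent.SporadicB.RuOrder.H := ⟨(Cfsg.Agent.RuLat.Main.equiv).symm⟩

theorem fin : Finite Cfsg.Agent.SporadicB.RuOrder.H :=
  Cfsg.Agent.OddHalf.D4.Spor.RuIso.finite iso

theorem commute_of_conj {G : Type*} [Group G] {g a b a' b' : G} (h : a * b = b * a) (ha : g * a * g⁻¹ = a')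
    (hb : g * b * g⁻¹ = b') : a' * b' = b' * a' := by
  rw [← ha, ← hb]
  calc g * a * g⁻¹ * (g * b * g⁻¹) = g * (a * b) * g⁻¹ := by group
    _ = g * (b * a) * g⁻¹ := by rw [h]
    _ = _ := by group

/-- a subgroup with the property of a Holt pair is everything -/
theorem eq_top {M : Subgroup Cfsg.Agent.SporadicB.RuOrder.H} (h : UF M (hw zw)) : False := by
  have hzq : hw zw * hw qw = hw qw * hw zw := by rw [← hw_append, ← hw_append]; exact eqt chk_qz
  -- `ρ z ρ⁻¹ = q`
  have hr : hw rw_ * hw zw * (hw rw_)⁻¹ = hw qw := cjt chk_r1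
  obtain ⟨l1, l2⟩ := pc_of (g := lzw) (p := zw) (q := qw) (p' := zw) (q' := xw) chk_lz
  obtain ⟨m1, m2⟩ := pc_of (g := lww) (p := zw) (q := qw) (p' := ww) (q' := xw) chk_lw
  have hzx : hw zw * hw xw = hw xw * hw zw := commute_of_conj hzq l1 l2
  have hwx : hw ww * hw xw = hw xw * hw ww := commute_of_conj hzq m1 m2
  -- `x` is conjugate to `z`
  have hx : (hw lzw * hw rw_) * hw zw * (hw lzw * hw rw_)⁻¹ = hw xw := by
    have l2' : hw lzw * hw qw * (hw lzw)⁻¹ = hw xw := l2
    rw [← l2', ← hr]; group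
  have hxM : hw xw ∈ M := h.comm hzx.symm
  have h1 := h.conj (g := hw lzw * hw rw_) (by rw [hx]; exact hxM)
  rw [hx] at h1
  have hwM : hw ww ∈ M := h1.comm hwx
  have hu3 : hw u3w ∈ M := by
    obtain ⟨c1, c2⟩ := pc_of (g := c13w) (p := zw) (q := ww) (p' := zw) (q' := u3w) chk_c13
    have hc : hw c13w ∈ M := h.comm (mul_inv_eq_iff_eq_mul.1 c1)
    have c2' : hw c13w * hw ww * (hw c13w)⁻¹ = hw u3w := c2
    rw [← c2']
    exact M.mul_mem (M.mul_mem hc hwM) (M.inv_mem hc)
  have hu4 : hw u4w ∈ M := by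
    obtain ⟨c1, c2⟩ := pc_of (g := c14w) (p := zw) (q := ww) (p' := zw) (q' := u4w) chk_c14
    have hc : hw c14w ∈ M := h.comm (mul_inv_eq_iff_eq_mul.1 c1)
    have c2' : hw c14w * hw ww * (hw c14w)⁻¹ = hw u4w := c2
    rw [← c2']
    exact M.mul_mem (M.mul_mem hc hwM) (M.inv_mem hc)
  apply h.ne
  rw [eq_top_iff, ← closure_eq, C, closure_le]
  rintro x (rfl | rfl | rfl | hx)
  · exact h.mem
  · exact hwM
  · exact hu3
  · rw [Set.mem_singleton_iff] at hx
    rw [hx]; exact hu4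

/-- `W` is 2-central. -/
theorem tc : IsTwoCentralInvolution (hw zw) := by
  have := fin
  have hW : hw zw = W := hw_two
  have h1 : (W : Cfsg.Agent.SporadicB.RuOrder.H) * W = 1 := by
    have h := lv_mul_self (a := 2) (by simp)
    exact h
  have hne : (W : Cfsg.Agent.SporadicB.RuOrder.H) ≠ 1 := by rw [← hW]; exact ne_z1
  obtain ⟨C, -, hL, -⟩ := Lets.exists_core lets_model
  have hl : Cfsg.Agent.RuB.Count.InvL C W := by
    refine ⟨?_, h1, hne⟩
    rw [hL]
    exact _root_.Subgroup.subset_closure (by simp)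
  rw [hW]
  exact twoCentral h1 hne (Cfsg.Agent.OddHalf.D4.Spor.RuCore.cen_zc C (Cfsg.Agent.OddHalf.D4.Spor.RuCore.invL_zc hl))

/-- **No Holt pair in the Rudvalis group.** -/
theorem rowF0 : RowF Cfsg.Agent.SporadicB.RuOrder.H := by
  have := fin
  intro M t ht hU
  obtain ⟨C, -⟩ := Lets.exists_core lets_model
  have hc : TwoGen.Central Cfsg.Agent.SporadicB.RuOrder.H :=
    central_of_z1 (Cfsg.Agent.OddHalf.D4.Spor.RuIso.sheet_of_core iso C).z1
  obtain ⟨g, hg⟩ := isConj_iff.1 (hc t _ ht tc)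
  have hUg := hU.cj g
  rw [hg] at hUg
  exact eq_top hUg

theorem rowF {X : Type*} [Group X] (h : Spor.IsoRu X) : RowF X := by
  have := Cfsg.Agent.OddHalf.D4.Spor.RuIso.finite h
  obtain ⟨e⟩ := h
  exact rowF0.congr (e.trans Cfsg.Agent.RuLat.Main.equiv)

end Cfsg.Agent.HoltZ.RowRu

end

-- merged: Cfsg.Agent.HoltZ.RowCoThree
section

/-!
# S1729: no Holt pair in `Co₃` (helper34)

`Co₃ = ⟨C(Z), w⟩`, `w` of order 3 and `w⁻¹ Z w ∈ C(Z)`.
-/

set_option autoImplicit false

namespace Cfsg.Agent.HoltZ.RowCoThree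

open Cfsg Subgroup Cfsg.Agent.HoltZ Cfsg.Agent.HoltZ.Crit
open Cfsg Cfsg.Agent.SporRec.TwoSp6.Model Cfsg.Agent.SporRec.Co3DC Cfsg.Agent.SporRec.Co3DC.Bound
  Cfsg.Agent.SporRec.Co3DC.Final Cfsg.Agent.SporRec.Co3DC.Count Cfsg.Agent.SporRec.Co3.Chain
  Cfsg.Agent.SporRec.Co3.ChainData Cfsg.Agent.SporRec.Co3.Ident Cfsg.Agent.KFacts.Co3.Cent
  Cfsg.Agent.KFacts.Co3.Syl Cfsg.Agent.SporRec.Co3.Model

theorem comm_Z (m : Cfsg.Agent.SporRec.TwoSp6.Model.M) : phi0 m * Z = Z * phi0 m := by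
  rw [← phi0_z, ← map_mul, ← map_mul, rels.z_comm]

theorem rowF0 : RowF G3 := by
  have := finite_G3
  obtain ⟨S, hZS, hcS, hS⟩ := syl
  refine rowF_of_closure (central_of_one S hS) (z := Z) (twoCentral Z_sq Z_ne ⟨S, hcS⟩)
    (S := Set.range phi0 ∪ {W0⁻¹}) ?_ ?_
  · rintro s (⟨m, rfl⟩ | hs)
    · have h1 : phi0 m * Z * (phi0 m)⁻¹ = Z := by rw [comm_Z, mul_inv_cancel_right]
      rw [h1]
    · rw [Set.mem_singleton_iff] at hs
      subst hs
      have h1 : W0⁻¹ * Z * W0⁻¹⁻¹ = phi0 (W bW) := by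
        have h2 := wrel0.hz
        rw [phi0_z] at h2
        rw [inv_inv, mul_assoc, h2, inv_mul_cancel_left]
      rw [h1]
      exact comm_Z _
  · rw [eq_top_iff, ← closure_phi0, closure_le]
    rintro s (hs | hs)
    · exact _root_.Subgroup.subset_closure (Or.inl hs)
    · rw [Set.mem_singleton_iff] at hs
      subst hs
      exact (inv_mem_iff (x := W0)).1 (_root_.Subgroup.subset_closure (Or.inr rfl))

theorem rowF {X : Type*} [Group X] (h : Spor.IsoCo3 X) : RowF X := by
  obtain ⟨e⟩ := h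
  have := finite_G3
  have : Finite X := Finite.of_equiv _ (equivCo3.trans e.symm).toEquiv
  exact rowF0.congr (equivCo3.trans e.symm).symm

end Cfsg.Agent.HoltZ.RowCoThree

end

-- merged: Cfsg.Agent.HoltZ.RowCoOne
section

/-!
# S1729: no Holt pair in `Co₁` (helper34)

`z` is the sign change on an octad `o`; the sign changes and the permutations of `M₂₄` move `z` to a commuting element,
the monomial group is maximal and does not contain `C(z)`.
-/

set_option autoImplicit false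

namespace Cfsg.Agent.HoltZ.RowCoOne

open Cfsg Subgroup Cfsg.Agent.HoltZ Cfsg.Agent.HoltZ.Crit
open Cfsg.Agent.SporadicA.Co0Mono Cfsg.Agent.SporadicA.Co1Simple
open Cfsg.Agent.CoOneType.SignFacts (sup mem_sup notMem_sup wt sup_mem wt_cases sup_add_allOne
  wt_add_allOne sign_allOne_comm wt_eq_of_conj)
open Cfsg.Agent.CoOneType.CentOctad (C0 mem_C0 sign_mem perm_mem xi_mem)
open Cfsg.Agent.CoOneType.ClosingFacts (mk mk_mul mk_inv exists_mk mk_eq_one mk_eq mk_add_allOne
  isConj_octad)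
open Cfsg.Agent.KFacts.Co1.RHat Cfsg.Agent.KFacts.Co1.InCo1
open Cfsg.Agent.SporadicStructure

theorem finite_co1 : Finite Spor.Co1 := by
  have : Finite Co0 := Cfsg.Agent.CoOneType.FrameFix.finite_co0
  exact Quotient.finite _

theorem C0_not_le {o : golayCode} (ho : wt o = 8) : ¬ C0 o ≤ N := by
  intro hle
  obtain ⟨e, -, -, -, he, hne⟩ := exists_outside ho
  have hm : signCo0 e ∈ C0 o := sign_mem o e
  rcases Cfsg.Agent.KFacts.Co1.Simp.mem_Z ho hm (fun g hg => hle
    ((C0 o).mul_mem ((C0 o).mul_mem hg hm) ((C0 o).inv_mem hg))) with h | h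
  · exact hne ⟨_, h, rfl⟩
  · refine hne ⟨_, h, ?_⟩
    have : signCo0 e * signCo0 allOne = signCo0 (e + allOne) := (signCo0_add _ _).symm
    rw [this]
    exact mk_add_allOne e

theorem rowF0 : RowF Spor.Co1 := by
  have := finite_co1
  obtain ⟨o, ho⟩ := Cfsg.Agent.CoOneType.ClosingCo1.exists_octad
  obtain ⟨hc, htc⟩ := Large.central_of_large (large ho) (odd_index ho)
  refine (rowF_of_closure hc htc (S := {s | s * _root_.Cfsg.Agent.CoOneType.ClosingFacts.mk (signCo0 o) * s⁻¹ * _root_.Cfsg.Agent.CoOneType.ClosingFacts.mk (signCo0 o) =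
    _root_.Cfsg.Agent.CoOneType.ClosingFacts.mk (signCo0 o) * (s * _root_.Cfsg.Agent.CoOneType.ClosingFacts.mk (signCo0 o) * s⁻¹)}) (fun s hs => hs) ?_ :)
  set S : Set Spor.Co1 := {s | s * _root_.Cfsg.Agent.CoOneType.ClosingFacts.mk (signCo0 o) * s⁻¹ * _root_.Cfsg.Agent.CoOneType.ClosingFacts.mk (signCo0 o) =
    _root_.Cfsg.Agent.CoOneType.ClosingFacts.mk (signCo0 o) * (s * _root_.Cfsg.Agent.CoOneType.ClosingFacts.mk (signCo0 o) * s⁻¹)} with hS
  have key : ∀ s : Spor.Co1, s * _root_.Cfsg.Agent.CoOneType.ClosingFacts.mk (signCo0 o) * s⁻¹ * _root_.Cfsg.Agent.CoOneType.ClosingFacts.mk (signCo0 o) =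
    _root_.Cfsg.Agent.CoOneType.ClosingFacts.mk (signCo0 o) * (s * _root_.Cfsg.Agent.CoOneType.ClosingFacts.mk (signCo0 o) * s⁻¹) → s ∈ _root_.Subgroup.closure S := fun s hs => _root_.Subgroup.subset_closure hs
  have hCK : C0 o ≤ (_root_.Subgroup.closure S).comap pr := by
    intro g hg
    have h1 : _root_.Cfsg.Agent.CoOneType.ClosingFacts.mk g * _root_.Cfsg.Agent.CoOneType.ClosingFacts.mk (signCo0 o) = _root_.Cfsg.Agent.CoOneType.ClosingFacts.mk (signCo0 o) * _root_.Cfsg.Agent.CoOneType.ClosingFacts.mk g := (comm_iff ho g).2 hg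
    refine key (_root_.Cfsg.Agent.CoOneType.ClosingFacts.mk g) ?_
    have h2 : _root_.Cfsg.Agent.CoOneType.ClosingFacts.mk g * _root_.Cfsg.Agent.CoOneType.ClosingFacts.mk (signCo0 o) * (_root_.Cfsg.Agent.CoOneType.ClosingFacts.mk g)⁻¹ = _root_.Cfsg.Agent.CoOneType.ClosingFacts.mk (signCo0 o) := by rw [h1, mul_inv_cancel_right]
    rw [h2]
  have hs : ∀ c : golayCode, signCo0 c ∈ (closure S).comap pr := fun c => hCK (sign_mem o c)
  have hp : ∀ σ : M24, permCo0 σ ∈ (closure S).comap pr := by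
    intro σ
    refine key (_root_.Cfsg.Agent.CoOneType.ClosingFacts.mk (permCo0 σ)) ?_
    have h2 : _root_.Cfsg.Agent.CoOneType.ClosingFacts.mk (permCo0 σ) * _root_.Cfsg.Agent.CoOneType.ClosingFacts.mk (signCo0 o) * (_root_.Cfsg.Agent.CoOneType.ClosingFacts.mk (permCo0 σ))⁻¹ = _root_.Cfsg.Agent.CoOneType.ClosingFacts.mk (signCo0 (wordPerm σ o)) := by
      rw [← mk_inv, ← mk_mul, ← mk_mul, perm_mul_sign_mul_inv]
    rw [h2, ← mk_mul, ← mk_mul, ← signCo0_add, ← signCo0_add, add_comm]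
  have hN : N ≤ (closure S).comap pr := by
    intro g hg
    obtain ⟨c, σ, rfl⟩ := exists_sign_perm hg
    exact mul_mem (hs c) (hp σ)
  have htop : (closure S).comap pr = ⊤ := by
    refine Cfsg.Agent.CoOneType.GenCrit.isCoatom_N.2 _ (lt_of_le_of_ne hN ?_)
    intro e
    exact C0_not_le ho (hCK.trans e.ge)
  rw [eq_top_iff]
  intro x _
  obtain ⟨g, rfl⟩ := exists_mk x
  have : g ∈ (closure S).comap pr := by rw [htop]; trivial
  exact this

theorem rowF {X : Type*} [Group X] (h : Spor.IsoCo1 X) : RowF X := by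
  obtain ⟨e⟩ := h
  have := finite_co1
  have : Finite X := Finite.of_equiv _ e.symm.toEquiv
  exact rowF0.congr e

end Cfsg.Agent.HoltZ.RowCoOne

end

-- merged: Cfsg.Agent.HoltZ.RowHN
section

/-!
# S1729: no Holt pair in the Harada-Norton group (helper34)
-/

set_option autoImplicit false

namespace Cfsg.Agent.HoltZ.RowHN

open Cfsg Subgroup Cfsg.Agent.HoltZ Cfsg.Agent.HoltZ.Crit
open Cfsg.Agent.KFacts.HN Cfsg.Agent.HN.XWords Cfsg.Agent.HN.XStruct
open Cfsg.Agent.KFacts.HN.CentTwoHN (n n_W0 z' z'_comm hgen)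

theorem rowF0 : RowF Spor.HN := by
  have := finite_HN
  have hz1 := (Cfsg.Agent.OddHalf.D4.Spor.HN.sheet).z1
  refine rowF_of_gen' (central_of_z1 hz1) (twoCentral W0_W0 W0_ne Cfsg.Agent.OddHalf.D4.Spor.HN.cen_W0) (n := n) ?_ hgen
  have h1 : n * W0 * n⁻¹ = z' := by rw [n_W0, mul_inv_cancel_right]
  rw [h1, z'_comm]

theorem rowF {X : Type*} [Group X] (h : Spor.IsoHN X) : RowF X := by
  obtain ⟨e⟩ := h
  have := finite_HN
  have : Finite X := Finite.of_equiv _ e.symm.toEquiv
  exact rowF0.congr e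

end Cfsg.Agent.HoltZ.RowHN

end

-- merged: Cfsg.Agent.HoltZ.RowB
section

/-!
# S1729: no Holt pair in the Baby Monster (helper34)
-/

set_option autoImplicit false

namespace Cfsg.Agent.HoltZ.RowB

open Cfsg Subgroup Cfsg.Agent.HoltZ Cfsg.Agent.HoltZ.Crit
open Cfsg.Agent.BabyM Cfsg.Agent.BabyM.Model Cfsg.Agent.BabyU.ClosModel Cfsg.Agent.BabyU.ClosLane
open Cfsg.Agent.KFacts.Baby

theorem rowF_model : RowF Inst.M.G := by
  have := A.finite_G
  have hL := KFacts.Baby.Inst.large A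
  obtain ⟨n, h1, -, h3⟩ := KFacts.Baby.Inst.gen A
  exact Large.rowF_of_large hL (KFacts.Baby.Inst.odd_index A) (hL.comm_z _ h1) h3

/-- **No Holt pair in the Baby Monster.** -/
theorem rowF {K : Type*} [Group K] (hK : Cfsg.Spor.IsoB K) : RowF K := by
  obtain ⟨e⟩ := Cfsg.Agent.KFacts.Baby.RowB.exists_iso hK
  have := A.finite_G
  have : Finite K := Finite.of_equiv _ e.toEquiv
  exact rowF_model.congr e.symm

end Cfsg.Agent.HoltZ.RowB

end

-- merged: Cfsg.Agent.HoltZ.RowM
section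

/-!
# S1729: no Holt pair in the Monster (helper34)
-/

set_option autoImplicit false

namespace Cfsg.Agent.HoltZ.RowM

open Cfsg Subgroup Cfsg.Agent.HoltZ Cfsg.Agent.HoltZ.Crit
open Cfsg.Agent.MonsterU.Assembly Cfsg.Agent.MonsterX.Model Cfsg.Agent.MonsterX.MainSimple
  Cfsg.Agent.MonsterX.MainBasic

variable {W : Type} [AddCommGroup W] [Module ℚ W] {M : MData W}

theorem rowF_model (A : All M Cfsg.Spor.Co1) : RowF M.G := by
  have hfin := G_finite A.hO
  obtain ⟨π, D⟩ := KFacts.MonsterE.data_model A.hG A.hR A.hL A.hO A.hT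
  obtain ⟨n, h1, -, h3⟩ := D.gen
  exact Large.rowF_of_large D.large D.odd (D.large.comm_z _ h1) h3

/-- **No Holt pair in the Monster.** -/
theorem rowF {K : Type*} [Group K] (hK : Cfsg.Spor.IsoM K) : RowF K := by
  obtain ⟨e⟩ := hK
  obtain ⟨f⟩ := Cfsg.Agent.MonsterP.Equiv.equiv
  have hfin := G_finite Cfsg.Agent.MonsterU.Uncond.all.hO
  have : Finite K := Finite.of_equiv _ (e.trans f).symm.toEquiv
  exact (rowF_model Cfsg.Agent.MonsterU.Uncond.all).congr (e.trans f)

end Cfsg.Agent.HoltZ.RowM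

end

-- merged: Cfsg.Agent.HoltZ.MainSpor
section

/-!
# S1729: the eighteen sporadic groups (helper34)

The rows M12, He are by helper5; J1, McL, Ly, O'N by helper69.
-/

set_option autoImplicit false

namespace Cfsg.Agent.HoltZ.MainSpor

open Cfsg Cfsg.Agent.HoltZ

/-- Holt's theorem for the sporadic groups not of characteristic 2 type. -/
theorem row_spor {G : Type*} [Group G] [Finite G]
    (h : Cfsg.Spor.IsoM12 G ∨ Cfsg.Spor.IsoJ1 G ∨ Cfsg.Spor.IsoJ2 G ∨ Cfsg.Spor.IsoMcL G ∨ Cfsg.Spor.IsoLy G ∨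
      Cfsg.Spor.IsoHS G ∨ Cfsg.Spor.IsoHe G ∨ Cfsg.Spor.IsoON G ∨ Cfsg.Spor.IsoSuz G ∨ Cfsg.Spor.IsoRu G ∨
      Cfsg.Spor.IsoCo3 G ∨ Cfsg.Spor.IsoCo1 G ∨ Cfsg.Spor.IsoFi22 G ∨ Cfsg.Spor.IsoFi23 G ∨ Cfsg.Spor.IsoFi24' G ∨
      Cfsg.Spor.IsoHN G ∨ Cfsg.Spor.IsoB G ∨ Cfsg.Spor.IsoM G) : Row G := by
  rcases h with h | h | h | h | h | h | h | h | h | h | h | h | h | h | h | h | h | h
  · exact (CentMTwelve.rowF_mTwelve h).row
  · exact OneJ1.row_j1 h
  · exact (RowJTwo.rowF h).row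
  · exact OneMcL.row_mcl h
  · exact OneLy.row_ly h
  · exact (RowHS.rowF h).row
  · exact (CentHe.rowF_he h).row
  · exact OneON.row_on h
  · exact (RowSuz.rowF h).row
  · exact (RowRu.rowF h).row
  · exact (RowCoThree.rowF h).row
  · exact (RowCoOne.rowF h).row
  · exact (Fi22.rowF h).row
  · exact (Fi23.rowF h).row
  · exact (Fi24.rowF h).row
  · exact (RowHN.rowF h).row
  · exact (RowB.rowF h).row
  · exact (RowM.rowF h).row

end Cfsg.Agent.HoltZ.MainSpor

end

-- merged: Cfsg.Agent.HoltZ.OneA7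
section

/-!
# One class of involutions: the alternating group of degree 7 (helper69)
-/

set_option autoImplicit false

namespace Cfsg.Agent.HoltZ.OneA7

open Subgroup Cfsg Equiv.Perm
open Cfsg.Agent.HoltZ Cfsg.Agent.HoltZ.OneClass

theorem cycleType_eq {s : alternatingGroup (Fin 7)} (hs : orderOf s = 2) :
    (s : Equiv.Perm (Fin 7)).cycleType = Multiset.replicate 2 2 := by
  have h2 : orderOf (s : Equiv.Perm (Fin 7)) = 2 := by rw [Subgroup.orderOf_coe, hs]
  obtain ⟨n, hn⟩ := cycleType_prime_order (σ := (s : Equiv.Perm (Fin 7))) (by rw [h2]; exact Nat.prime_two)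
  rw [h2] at hn
  have h7 := sum_cycleType_le (s : Equiv.Perm (Fin 7))
  rw [hn, Multiset.sum_replicate, smul_eq_mul, Fintype.card_fin] at h7
  have hsg : sign (s : Equiv.Perm (Fin 7)) = 1 := mem_alternatingGroup.1 s.2
  rw [sign_of_cycleType, hn, Multiset.sum_replicate, Multiset.card_replicate, smul_eq_mul] at hsg
  have hn2 : n < 3 := by omega
  rw [hn]
  interval_cases n
  · exact absurd hsg (by decide)
  · rfl
  · exact absurd hsg (by decide)

theorem one_model : OneInv (alternatingGroup (Fin 7)) := by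
  intro s t hs ht
  have h1 := cycleType_eq hs
  have h2 := cycleType_eq ht
  have hc : IsConj (s : Equiv.Perm (Fin 7)) t := isConj_iff_cycleType_eq.2 (h1.trans h2.symm)
  have h3 : (s : Equiv.Perm (Fin 7)).support.card + 2 ≤ Fintype.card (Fin 7) := by
    rw [← sum_cycleType, h1]
    decide
  obtain ⟨g, hg⟩ := isConj_iff.1 (alternatingGroup.isConj_of hc h3)
  exact ⟨g, hg.symm⟩

theorem row_a7 {G : Type*} [Group G] [Finite G] (e : G ≃* alternatingGroup (Fin 7)) : Row G :=
  (OneInv.congr e one_model).row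

end Cfsg.Agent.HoltZ.OneA7

end

-- merged: Cfsg.Agent.HoltZ.Main
section

/-!
# S1729, S1795: all the groups (helper34)

`List2` is the conclusion of S1765 with the exclusions dropped.
-/

set_option autoImplicit false

namespace Cfsg.Agent.HoltZ.Main

open Cfsg Subgroup Cfsg.Agent.HoltZ

/-- The list of the noncharacteristic 2 theorem. -/
def List2 (G : Type*) [Group G] : Prop :=
  (∃ p : ℕ, p.Prime ∧ p ≠ 2 ∧ Cfsg.IsLieTypeChar p G) ∨
    (∃ n : ℕ, (n = 7 ∨ 9 ≤ n) ∧ Nonempty (G ≃* ↥(alternatingGroup (Fin n)))) ∨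
    Cfsg.Spor.IsoM12 G ∨ Cfsg.Spor.IsoJ1 G ∨ Cfsg.Spor.IsoJ2 G ∨ Cfsg.Spor.IsoMcL G ∨ Cfsg.Spor.IsoLy G ∨
      Cfsg.Spor.IsoHS G ∨ Cfsg.Spor.IsoHe G ∨ Cfsg.Spor.IsoON G ∨ Cfsg.Spor.IsoSuz G ∨ Cfsg.Spor.IsoRu G ∨
      Cfsg.Spor.IsoCo3 G ∨ Cfsg.Spor.IsoCo1 G ∨ Cfsg.Spor.IsoFi22 G ∨ Cfsg.Spor.IsoFi23 G ∨ Cfsg.Spor.IsoFi24' G ∨
      Cfsg.Spor.IsoHN G ∨ Cfsg.Spor.IsoB G ∨ Cfsg.Spor.IsoM G

/-- **Holt's theorem for the groups of the list.** -/
theorem row_or {G : Type*} [Group G] [Finite G] (h : List2 G) :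
    Row G ∨ ∃ n : ℕ, Odd n ∧ 9 ≤ n ∧ Nonempty (G ≃* alternatingGroup (Fin n)) := by
  rcases h with ⟨p, hp, h2, h⟩ | ⟨n, hn, ⟨e⟩⟩ | h
  · exact Or.inl (MainLie.row_lie hp h2 h)
  · rcases hn with rfl | hn
    · exact Or.inl (OneA7.row_a7 e)
    · rcases Nat.even_or_odd n with he | ho
      · exact Or.inl (Row.congr e (Alt.row he (by omega)))
      · exact Or.inr ⟨n, ho, hn, ⟨e⟩⟩
  · exact Or.inl (MainSpor.row_spor h)

/-- **Holt's theorem for simple groups with known proper subgroups**, given the noncharacteristic 2 theorem. -/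
theorem row_or_alt {G : Type*} [Group G] [Finite G] (h : ¬ IsCharacteristicTwoType G → List2 G) :
    Row G ∨ ∃ n : ℕ, Odd n ∧ 9 ≤ n ∧ Nonempty (G ≃* alternatingGroup (Fin n)) := by
  by_cases hc : IsCharacteristicTwoType G
  · exact Or.inl (TwoGen.row_of_charTwo hc)
  · exact row_or (h hc)

end Cfsg.Agent.HoltZ.Main

end

-- merged: Cfsg.Agent.HoltZ.Fusion
section

/-!
# Holt pairs: primitive actions, fusion-controlling subgroups (helper34)

* `uf_of_action` : an involution fixing exactly one point;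
* `hp_of_fusion` : `M ≥ S` controls fusion in `S` and `C(z) ≤ M`, `z ∈ Z(S)`;
* `stronglyZ_of` : if `G` has a strongly embedded subgroup, then `M` of a Holt pair is strongly `Z`-embedded.
-/

set_option autoImplicit false

namespace Cfsg.Agent.HoltZ.Fusion

open Cfsg Subgroup Cfsg.Agent.HoltZ Cfsg.Agent.HoltZ.Cent Cfsg.Agent.HoltZ.TwoGen

section action

variable {G : Type*} [Group G] {Ω : Type*} [MulAction G Ω]

theorem uf_of_action [FaithfulSMul G Ω] [MulAction.IsPretransitive G Ω] [Nontrivial G] {t : G} {ω : Ω}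
    (h1 : t • ω = ω) (h2 : ∀ y : Ω, t • y = y → y = ω) : UF (MulAction.stabilizer G ω) t where
  ne := by
    intro h
    obtain ⟨g, hg⟩ := exists_ne (1 : G)
    apply hg
    apply FaithfulSMul.eq_of_smul_eq_smul (α := Ω)
    intro y
    have hy : y = ω := by
      obtain ⟨k, rfl⟩ := MulAction.exists_smul_eq G ω y
      have : k ∈ MulAction.stabilizer G ω := by rw [h]; trivial
      exact this
    have hgs : g ∈ MulAction.stabilizer G ω := by rw [h]; trivial
    rw [hy, one_smul]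
    exact hgs
  mem := h1
  ctrl := by
    intro g hg
    have h3 : (g * t * g⁻¹) • ω = ω := hg
    have h4 : t • (g⁻¹ • ω) = g⁻¹ • ω := by
      rw [mul_smul, mul_smul] at h3
      exact (eq_inv_smul_iff).2 h3
    have h5 := h2 _ h4
    rw [inv_smul_eq_iff] at h5
    exact h5.symm

end action

variable {G : Type*} [Group G] [Finite G]

theorem hp_of_fusion (S : Sylow 2 G) (M : Subgroup G) (hMp : M ≠ ⊤) (hSM : (S : Subgroup G) ≤ M)
    (ha : ControlsFusion M (S : Subgroup G)) {z : G} (hzS : z ∈ S)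
    (hzc : ∀ s ∈ (S : Subgroup G), s * z = z * s) (hz2 : orderOf z = 2)
    (hb : centralizer ({z} : Set G) ≤ M) : HP M z := by
  have h2 : Fact (Nat.Prime 2) := ⟨Nat.prime_two⟩
  refine ⟨hMp, ⟨hz2, S, hzS, hzc⟩, hSM hzS, fun g hg => ?_⟩
  have hy2 : orderOf (g * z * g⁻¹) = 2 := by rw [← hz2]; exact (MulAut.conj g).orderOf_eq z
  obtain ⟨m, hm, hmS⟩ : ∃ m ∈ M, m * (g * z * g⁻¹) * m⁻¹ ∈ (S : Subgroup G) := by
    set! y : ↥M := ⟨g * z * g⁻¹, hg⟩ with hy
    have hyo : orderOf y = 2 := by rw [← hy2]; exact (orderOf_injective M.subtype M.subtype_injective y).symm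
    obtain ⟨Q, hQ⟩ := (Cent.isPGroup_zpowers hyo).exists_le_sylow
    obtain ⟨m, hm⟩ := MulAction.exists_smul_eq ↥M Q (S.subtype hSM)
    refine ⟨m, m.2, ?_⟩
    have h3 : m * y * m⁻¹ ∈ ((S.subtype hSM : Sylow 2 ↥M) : Subgroup ↥M) := by
      rw [← hm, Sylow.coe_subgroup_smul]
      exact Subgroup.mem_map.2 ⟨y, hQ (mem_zpowers y), rfl⟩
    rw [Sylow.coe_subtype, mem_subgroupOf] at h3
    exact h3
  have e : m * (g * z * g⁻¹) * m⁻¹ = m * g * z * (m * g)⁻¹ := by group
  rw [e] at hmS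
  obtain ⟨x, hx, hxe⟩ := ha {z} (m * g) (by
    rintro a ha
    rw [Set.mem_singleton_iff] at ha
    rw [ha]; exact hzS) (by
    rintro _ ⟨a, ha, rfl⟩
    rw [Set.mem_singleton_iff] at ha
    rw [ha]; exact hmS)
  rw [Set.image_singleton, Set.image_singleton, Set.singleton_eq_singleton_iff] at hxe
  have h4 : x⁻¹ * (m * g) ∈ M := by
    apply hb
    rw [mem_centralizer_singleton_iff]
    calc x⁻¹ * (m * g) * z = x⁻¹ * (m * g * z * (m * g)⁻¹) * (m * g) := by group
      _ = x⁻¹ * (x * z * x⁻¹) * (m * g) := by rw [hxe]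
      _ = z * (x⁻¹ * (m * g)) := by group
  have h5 : g = m⁻¹ * (x * (x⁻¹ * (m * g))) := by group
  rw [h5]
  exact M.mul_mem (M.inv_mem hm) (M.mul_mem hx h4)

/-- If the simple group `G` has a strongly embedded subgroup, then `M` is strongly `Z`-embedded. -/
theorem stronglyZ_of [IsSimpleGroup G] {M : Subgroup G} {z : G} (h : HP M z)
    (hH : ∃ H : Subgroup G, IsStronglyEmbedded H) : IsStronglyZEmbedded (conjugatesOf z) M := by
  obtain ⟨H, hH⟩ := hH
  have hHP := EvenType.StrongP.two_iff.2 hH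
  have hM : IsStronglyEmbedded M := h.oneClass fun u _ hu2 => EvenType.ZEmb.all_conj hHP z u h.tc.1 hu2
  exact TwoUniq.ZEmb.stronglyZ (EvenType.StrongP.two_iff.2 hM) h.tc.1 h.mem

end Cfsg.Agent.HoltZ.Fusion

end

-- merged: Cfsg.Agent.HoltZ.Final
section

/-!
# S1729, S1795: assembly (helper34)
-/

set_option autoImplicit false

namespace Cfsg.Agent.HoltZ.Final

open Cfsg Subgroup Cfsg.Agent.HoltZ Cfsg.Agent.HoltZ.Cent Cfsg.Agent.HoltZ.TwoGen Cfsg.Agent.HoltZ.Main

/-- S1729, from the noncharacteristic 2 theorem -/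
theorem holt {G : Type*} [Group G] [Finite G] [IsSimpleGroup G] {Ω : Type*}
    [MulAction G Ω] [FaithfulSMul G Ω] [MulAction.IsPreprimitive G Ω]
    (hL : ¬ IsMulCommutative G → ¬ IsCharacteristicTwoType G → List2 G)
    (hZ : center G = ⊥) (t : G) (ht : IsTwoCentralInvolution t) (hfix : ∃! ω : Ω, t • ω = ω) :
    (∃ H : Subgroup G, IsStronglyEmbedded H) ∨
      ∃ n : ℕ, Odd n ∧ (Nonempty (G ≃* alternatingGroup (Fin n)) ∨ Nonempty (G ≃* Equiv.Perm (Fin n))) := by
  have hG : ¬ IsMulCommutative G := by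
    intro h
    obtain ⟨g, hg⟩ := exists_ne (1 : G)
    apply hg
    have h1 : g ∈ center G := mem_center_iff.2 fun x => mul_comm' x g
    rw [hZ, mem_bot] at h1
    exact h1
  obtain ⟨ω, h1, h2⟩ := hfix
  have hU := Fusion.uf_of_action h1 h2
  rcases row_or_alt (hL hG) with h | ⟨n, hn, -, he⟩
  · exact Or.inl (h _ _ ht hU)
  · exact Or.inr ⟨n, hn, Or.inl he⟩

/-- S1795, from the noncharacteristic 2 theorem -/
theorem evenType {G : Type*} [Group G] [Finite G] [IsSimpleGroup G]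
    (hL : ¬ IsCharacteristicTwoType G → List2 G) (hE : IsOfEvenType G) (S : Sylow 2 G) (M : Subgroup G)
    (hMp : M ≠ ⊤) (hSM : (S : Subgroup G) ≤ M) (ha : ControlsFusion M S) (z : G) (hzS : z ∈ S)
    (hzc : ∀ s ∈ (S : Subgroup G), s * z = z * s) (hz2 : orderOf z = 2) (hb : centralizer ({z} : Set G) ≤ M) :
    IsStronglyZEmbedded (conjugatesOf z) M ∨ Nonempty (G ≃* alternatingGroup (Fin 9)) := by
  have h := Fusion.hp_of_fusion S M hMp hSM ha hzS hzc hz2 hb
  rcases row_or_alt hL with hR | ⟨n, ho, h9, ⟨e⟩⟩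
  · exact Or.inl (Fusion.stronglyZ_of h (hR M z h.tc (ofHP h)))
  · right
    have h9 := EvenAlt.eq_nine (fun G _ _ _ hG h => EvenType.ChevTwo.charTwo hG h) NotResT.Listed.listedCard ho h9
      (ResEven.Congr.isOfEvenType_of e hE)
    subst h9
    exact ⟨e⟩

end Cfsg.Agent.HoltZ.Final

end

private theorem dce_80813dfbdba8 : _root_.True := by
  try have : _root_.True := by simp only [_root_.Cfsg.Agent.HoltZ.RowHS.im.eq_1]
  try have : _root_.True := by simp only [_root_.Cfsg.Agent.ClassicalGeometry.UnitAutSylow.siegelAt.congr_simp]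
  try have : _root_.True := by simp only [_root_.Cfsg.Agent.KFacts.Ru.EndWords.C.eq_1]
  try have : _root_.True := by simp only [_root_.Cfsg.Agent.HoltZ.Fi24.C.eq_1]
  try have : _root_.True := by simp only [_root_.Cfsg.Agent.HoltZ.RowHS.C.eq_1]
  try have : _root_.True := by simp only [_root_.Cfsg.Agent.ClassicalGeometry.UnitAutBasic.T.congr_simp]
  try have : _root_.True := by simp only [_root_.Cfsg.Agent.HoltZ.RowHS.cw.eq_1]
  exact _root_.True.intro
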